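import Cfsg.Agent.Lib.AltDegree.Perm

/-!
Alternating sections are excluded by automizers of subgroups of an abelian subgroup containing a
Sylow subgroup.
-/

set_option autoImplicit false

namespace CfsgLib.AltExceptional

open CfsgLib.AltDegree

/-- `T` is abelian and conjugation between its elements is induced by elements whose `e`-th powers
centralise it. -/
structure Controlled {G : Type*} [Group G] (T : Subgroup G) (e : ℕ) : Prop where
  comm : ∀ a ∈ T, ∀ b ∈ T, a * b = b * a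
  control : ∀ g : G, ∃ n : G, (∀ t ∈ T, n ^ e * t = t * n ^ e) ∧
    ∀ t ∈ T, g * t * g⁻¹ ∈ T → g * t * g⁻¹ = n * t * n⁻¹

theorem Controlled.pow_centralizes {G : Type*} [Group G] {T : Subgroup G} {e : ℕ} (h : Controlled T e)
    {P : Subgroup G} (hP : P ≤ T) {g : G} (hg : ∀ t ∈ P, g * t * g⁻¹ ∈ P) :
    ∀ t ∈ P, g ^ e * t = t * g ^ e := by
  obtain ⟨n, hn, hgn⟩ := h.control g
  have key : ∀ i : ℕ, ∀ t ∈ P, g ^ i * t * (g ^ i)⁻¹ ∈ P ∧ g ^ i * t * (g ^ i)⁻¹ = n ^ i * t * (n ^ i)⁻¹ := by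
    intro i
    induction i with
    | zero => intro t ht; simp [ht]
    | succ i ih =>
      intro t ht
      obtain ⟨h1, h2⟩ := ih t ht
      have e1 : ∀ x : G, x ^ (i + 1) * t * (x ^ (i + 1))⁻¹ = x * (x ^ i * t * (x ^ i)⁻¹) * x⁻¹ := fun x => by
        rw [pow_succ']; group
      refine ⟨by rw [e1]; exact hg _ h1, ?_⟩
      rw [e1, e1, ← h2]
      exact hgn _ (hP h1) (hP (hg _ h1))
  intro t ht
  have := (key e t ht).2
  rw [hn t (hP ht), mul_inv_cancel_right, mul_inv_eq_iff_eq_mul] at this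
  exact this

/-- An element normalising a lift of `⟨x⟩` contradicts the control. -/
theorem no_section {G A : Type*} [Group G] [Finite G] [Group A] {T : Subgroup G} {e l : ℕ} [Fact l.Prime]
    (hT : Controlled T e) (hsyl : ¬ l ∣ T.index) (H : Subgroup G) (π : H →* A) (hπ : Function.Surjective π)
    {x y : A} (hx : orderOf x = l) (hy : y * x * y⁻¹ ∈ Subgroup.zpowers x)
    (hne : y ^ e * x ≠ x * y ^ e) : False := by
  classical
  set M := (Subgroup.zpowers x).comap π with hM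
  obtain ⟨h₀, rfl⟩ := hπ y
  obtain ⟨P⟩ : Nonempty (Sylow l M) := inferInstance
  -- the image of `P` contains `x`
  obtain ⟨a, haP, hax⟩ : ∃ a : M, a ∈ (P : Subgroup M) ∧ π (a : H) = x := by
    let f : M →* Subgroup.zpowers x := π.subgroupComap (Subgroup.zpowers x)
    have hf : Function.Surjective f := fun z => by
      obtain ⟨b, hb⟩ := hπ z.1
      exact ⟨⟨b, show π b ∈ Subgroup.zpowers x by rw [hb]; exact z.2⟩, Subtype.ext hb⟩
    have hp : IsPGroup l (Subgroup.zpowers x) := IsPGroup.of_card (n := 1) (by rw [Nat.card_zpowers, hx, pow_one])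
    have htop : (P : Subgroup M).map f = ⊤ := by
      have h1 : ((P.mapSurjective hf) : Subgroup (Subgroup.zpowers x)) = ⊤ :=
        ((P.mapSurjective hf).is_maximal' (hp.of_equiv Subgroup.topEquiv.symm) le_top).symm
      simpa using h1
    obtain ⟨a, ha, he⟩ := (htop.symm ▸ Subgroup.mem_top _ : (⟨x, Subgroup.mem_zpowers x⟩ : Subgroup.zpowers x) ∈ _)
    exact ⟨a, ha, congrArg Subtype.val he⟩
  -- a lift of `y` normalising `P`
  have hyl : ∀ z ∈ Subgroup.zpowers x, π h₀ * z * (π h₀)⁻¹ ∈ Subgroup.zpowers x := by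
    rintro _ ⟨i, rfl⟩
    show π h₀ * x ^ i * (π h₀)⁻¹ ∈ Subgroup.zpowers x
    rw [← conj_zpow]
    exact zpow_mem hy i
  have hM₀ : ∀ m : H, m ∈ M → h₀ * m * h₀⁻¹ ∈ M := fun m hm => by
    show π _ ∈ Subgroup.zpowers x
    rw [map_mul, map_mul, map_inv]
    exact hyl _ hm
  let φ : M →* M :=
    { toFun := fun m => ⟨h₀ * m * h₀⁻¹, hM₀ m m.2⟩
      map_one' := Subtype.ext (by simp)
      map_mul' := fun a b => Subtype.ext (by simp [mul_assoc]) }
  have hφi : Function.Injective φ := fun a b h => Subtype.ext (by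
    simpa [φ] using congrArg Subtype.val h)
  have hφ : Function.Surjective φ := Finite.injective_iff_surjective.1 hφi
  obtain ⟨m, hm⟩ := MulAction.exists_smul_eq M (P.mapSurjective hφ) P
  set g : H := (m : H) * h₀ with hg
  have hgP : ∀ b : M, b ∈ (P : Subgroup M) → ∃ c : M, c ∈ (P : Subgroup M) ∧ (c : H) = g * b * g⁻¹ := by
    intro b hb
    refine ⟨m * φ b * m⁻¹, ?_, by simp [g, φ, mul_assoc]⟩
    rw [← hm, Sylow.smul_def]
    exact ⟨φ b, ⟨b, hb, rfl⟩, rfl⟩
  -- push into `T`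
  let ι : M →* G := H.subtype.comp M.subtype
  have hιP : IsPGroup l ((P : Subgroup M).map ι) := P.isPGroup'.map ι
  obtain ⟨Q, hQ⟩ := hιP.exists_le_sylow
  obtain ⟨S⟩ : Nonempty (Sylow l T) := inferInstance
  have hS : ¬ l ∣ ((S : Subgroup T).map T.subtype).index := by
    rw [Subgroup.index_map_subtype]
    exact Nat.Prime.not_dvd_mul Fact.out S.not_dvd_index hsyl
  let Q' : Sylow l G := (S.isPGroup'.map T.subtype).toSylow hS
  obtain ⟨c, hc⟩ := MulAction.exists_smul_eq G Q Q'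
  let ψ : G →* G := (MulAut.conj c).toMonoidHom
  have hψ : ∀ z, ψ z = c * z * c⁻¹ := fun z => rfl
  have hPT : ((P : Subgroup M).map ι).map ψ ≤ T := by
    rintro _ ⟨z, hz, rfl⟩
    have h1 : ψ z ∈ (Q' : Subgroup G) := by
      rw [← hc, Sylow.smul_def]
      exact ⟨z, hQ hz, rfl⟩
    exact Subgroup.map_subtype_le _ h1
  have key := hT.pow_centralizes hPT (g := ψ (g : G)) (by
    rintro _ ⟨_, ⟨b, hb, rfl⟩, rfl⟩
    obtain ⟨d, hd, hdg⟩ := hgP b hb
    refine ⟨ι d, ⟨d, hd, rfl⟩, ?_⟩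
    show ψ (((d : H)) : G) = _
    rw [hdg, Subgroup.coe_mul, Subgroup.coe_mul, Subgroup.coe_inv, map_mul, map_mul, map_inv]
    rfl) (ψ (ι a)) ⟨ι a, ⟨a, haP, rfl⟩, rfl⟩
  rw [← map_pow, ← map_mul, ← map_mul] at key
  have h2 : g ^ e * (a : H) = (a : H) * g ^ e := by
    refine Subtype.ext ((MulAut.conj c).injective ?_)
    simpa [ψ, ι] using key
  have h3 := congrArg π h2
  rw [map_mul, map_mul, map_pow, hax, hg, map_mul] at h3
  -- `π m` is a power of `x`
  obtain ⟨j, hj⟩ := (show π (m : H) ∈ Subgroup.zpowers x from m.2)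
  refine hne ?_
  -- powers of `x` do not change conjugation on `⟨x⟩`
  have hstep : ∀ i : ℕ, ∀ z ∈ Subgroup.zpowers x,
      (π (m : H) * π h₀) ^ i * z * ((π (m : H) * π h₀) ^ i)⁻¹ = π h₀ ^ i * z * (π h₀ ^ i)⁻¹ ∧
        π h₀ ^ i * z * (π h₀ ^ i)⁻¹ ∈ Subgroup.zpowers x := by
    intro i
    induction i with
    | zero => intro z hz; simp [hz]
    | succ i ih =>
      intro z hz
      obtain ⟨e1, e2⟩ := ih z hz
      have e3 : ∀ w : A, w ^ (i + 1) * z * (w ^ (i + 1))⁻¹ = w * (w ^ i * z * (w ^ i)⁻¹) * w⁻¹ := fun w => by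
        rw [pow_succ']; group
      refine ⟨?_, by rw [e3]; exact hyl _ e2⟩
      rw [e3, e3, e1]
      obtain ⟨k, hk⟩ := hyl _ e2
      calc π (m : H) * π h₀ * (π h₀ ^ i * z * (π h₀ ^ i)⁻¹) * (π (m : H) * π h₀)⁻¹
          = π (m : H) * (π h₀ * (π h₀ ^ i * z * (π h₀ ^ i)⁻¹) * (π h₀)⁻¹) * (π (m : H))⁻¹ := by group
        _ = π h₀ * (π h₀ ^ i * z * (π h₀ ^ i)⁻¹) * (π h₀)⁻¹ := by
            rw [← hk, ← hj]; group
  have := (hstep e x (Subgroup.mem_zpowers x)).1
  rw [h3, mul_inv_cancel_right, eq_mul_inv_iff_mul_eq] at this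
  exact this.symm

/-- The seven-cycle and its automorphism of order three. -/
theorem alt7_data : ∃ x y : Alt 7, x ^ 7 = 1 ∧ x ≠ 1 ∧ y * x * y⁻¹ = x ^ 2 ∧ y ^ 3 = 1 :=
  ⟨tri 0 1 2 * tri 2 3 4 * tri 4 5 6, tri 1 2 4 * tri 3 6 5, by decide +kernel⟩

/-- No alternating section of degree at least seven. -/
theorem lt_seven {G : Type*} [Group G] [Finite G] {T : Subgroup G} {e : ℕ} (hT : Controlled T e)
    (he : ¬ 3 ∣ e) (hsyl : ¬ 7 ∣ T.index) {r : ℕ} (H : Subgroup G) (K : Subgroup H) [K.Normal]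
    (h : Nonempty (↥H ⧸ K ≃* Alt r)) : r < 7 := by
  by_contra hr
  obtain ⟨φ⟩ := h
  obtain ⟨x, y, hx7, hx1, hyx, hy3⟩ := alt7_data
  have : Fact (Nat.Prime 7) := ⟨by norm_num⟩
  let f : Alt 7 →* Alt r := viaA (Fin.castLEEmb (by omega))
  have hf : Function.Injective f := viaA_injective _
  refine no_section hT hsyl H (φ.toMonoidHom.comp (QuotientGroup.mk' K))
    (φ.surjective.comp (QuotientGroup.mk'_surjective K)) (x := f x) (y := f y) (l := 7) ?_ ?_ ?_
  · rw [orderOf_injective f hf, orderOf_eq_prime hx7 hx1]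
  · rw [← map_inv, ← map_mul, ← map_mul, hyx, map_pow]
    exact pow_mem (Subgroup.mem_zpowers _) 2
  · intro h
    rw [← map_pow, ← map_mul, ← map_mul] at h
    have h1 := hf h
    have key : ∀ i : ℕ, y ^ i * x * (y ^ i)⁻¹ = x ^ 2 ^ i := by
      intro i
      induction i with
      | zero => simp
      | succ i ih =>
        rw [show y ^ (i + 1) * x * (y ^ (i + 1))⁻¹ = y * (y ^ i * x * (y ^ i)⁻¹) * y⁻¹ by rw [pow_succ']; group, ih,
          ← conj_pow, hyx, ← pow_mul, ← pow_succ']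
    have h2 := key e
    rw [h1, mul_inv_cancel_right] at h2
    have h3 : 2 ^ e % 7 = 1 := by
      have h4 := pow_inj_mod.1 (show x ^ 1 = x ^ 2 ^ e by rw [pow_one]; exact h2)
      rw [orderOf_eq_prime hx7 hx1] at h4
      exact h4.symm
    obtain ⟨a, b, hb, rfl⟩ : ∃ a b, (b = 1 ∨ b = 2) ∧ e = 3 * a + b := ⟨e / 3, e % 3, by omega, by omega⟩
    rw [pow_add, pow_mul, Nat.mul_mod, Nat.pow_mod] at h3
    rcases hb with rfl | rfl <;> simp at h3

end CfsgLib.AltExceptional
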