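import Cfsg.Agent.Lib.AltExceptional.Automizer
import Cfsg.Agent.Lib.Twisted.Frob
import Cfsg.Agent.Lib.ChevStr.TorusOrder
import Cfsg.Agent.Lib.ChevField.Fixed

/-!
The diagonal subgroup of a Chevalley group controls fusion in itself through the monomial subgroup,
which acts on it through the Weyl group; and passage to an extension field.
-/

set_option autoImplicit false

namespace CfsgLib.AltExceptional

open Cfsg.Lie CfsgLib.ChevStr CfsgLib.Twisted
open scoped MatrixGroups

variable {D : ChevalleyDatum} {F : Type*} [Field F] (C : ChevCore D F)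

include C in
theorem diagonal_comm :
    ∀ a ∈ D.diagonalSubgroup F, ∀ b ∈ D.diagonalSubgroup F, a * b = b * a := by
  intro a ha b hb
  rw [C.diagonalSubgroup_eq] at ha hb
  obtain ⟨c, rfl⟩ := ha
  obtain ⟨d, rfl⟩ := hb
  rw [← map_mul, ← map_mul, mul_comm]

include C in
/-- Conjugation between diagonal elements is monomial. -/
theorem diagonal_fusion [Fintype F] {x : GL D.Idx F} (hx : x ∈ D.group F) :
    ∃ n ∈ D.monomialSubgroup F, ∀ t ∈ D.diagonalSubgroup F,
      x * t * x⁻¹ ∈ D.diagonalSubgroup F → x * t * x⁻¹ = n * t * n⁻¹ := by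
  classical
  set A := chevAmbient C
  obtain ⟨u, hu, n, hn, v, hv, -, rfl⟩ := A.nf x hx
  refine ⟨n, hn, fun a ha hb => ?_⟩
  set b := u * n * v * a * (u * n * v)⁻¹ with hb'
  have hrel : u * (n * a) * (a⁻¹ * v * a) = b * u * b⁻¹ * (b * n) * v := by
    rw [hb']; group
  have hu' : b * u * b⁻¹ ∈ A.U := A.H_conj_U b hb u hu
  have hv' : a⁻¹ * v * a ∈ A.U := by simpa using A.H_conj_U a⁻¹ (inv_mem ha) v hv
  have e := A.nf_unique u hu (n * a) (A.N.mul_mem hn (A.H_le ha)) _ hv' _ hu' (b * n)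
    (A.N.mul_mem (A.H_le hb) hn) v hv hrel
  rw [e, mul_inv_cancel_right]

/-- A power of a monomial element fixing every root is diagonal. -/
theorem pow_mem_diagonal {n : GL D.Idx F} (hn : n ∈ D.monomialSubgroup F) {k : ℕ}
    (h : C.rootAction ⟨n, hn⟩ ^ k = 1) : n ^ k ∈ D.diagonalSubgroup F := by
  refine C.mem_diagonal_of_moves_one (pow_mem hn k) ?_
  have h1 := C.moves_permOf ((⟨n, hn⟩ : D.monomialSubgroup F) ^ k)
  change C.Moves _ (C.rootAction ((⟨n, hn⟩ : D.monomialSubgroup F) ^ k)) at h1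
  rw [map_pow, h] at h1
  exact h1

theorem rootAction_mem_weyl (n : D.monomialSubgroup F) : C.rootAction n ∈ C.hR.weyl :=
  (C.moves_permOf n).1

/-- A monomial element acting as `-1` on the roots inverts the torus. -/
theorem inv_of_neg {n : GL D.Idx F} (hn : n ∈ D.monomialSubgroup F)
    (h : ∀ s : Fin D.nroots, (C.rootAction ⟨n, hn⟩ s : ℕ) = D.neg s) :
    ∀ t ∈ D.diagonalSubgroup F, n * t * n⁻¹ = t⁻¹ := by
  set w := C.rootAction ⟨n, hn⟩ with hwdef
  have hw : C.Moves n w := C.moves_permOf ⟨n, hn⟩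
  obtain ⟨m, hm, hact⟩ := C.exists_rep hw.1
  have hmm := C.rep_mem_monomial hm
  have hd : m⁻¹ * n ∈ D.diagonalSubgroup F :=
    C.mem_diagonal_of_moves_one (mul_mem (inv_mem hmm) hn)
      (by simpa using ChevCore.Moves.mul C (ChevCore.Moves.inv C hmm (ChevCore.Acts.moves C hact)) hw)
  intro t ht
  have htn : n * t * n⁻¹ = m * t * m⁻¹ := by
    have := diagonal_comm C _ hd _ ht
    calc n * t * n⁻¹ = m * (m⁻¹ * n * t) * n⁻¹ := by group
      _ = m * t * m⁻¹ := by rw [this]; group
  rw [htn]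
  have ht' : m * t * m⁻¹ ∈ D.diagonalSubgroup F := C.conj_diagonal_mem hmm ht
  rw [C.diagonalSubgroup_eq] at ht ht'
  obtain ⟨c, rfl⟩ := ht
  obtain ⟨c', hc'⟩ := ht'
  obtain ⟨-, e, he⟩ := hact
  have key : ∀ s : Fin D.nroots,
      C.R.torusChar c' (C.R.α (w s)) = C.R.torusChar c (C.R.α s) := by
    intro s
    obtain ⟨he1, -, he2⟩ := he s
    have he0 : (e s : F) ≠ 0 := by rcases he1 with h | h <;> simp [h]
    have h1 : C.R.torus c' * C.xGL (w s) ((e s : F) * 1) * (C.R.torus c')⁻¹ =
        m * (C.R.torus c * C.xGL s 1 * (C.R.torus c)⁻¹) * m⁻¹ := by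
      rw [← he2, hc']; group
    rw [C.acts_torus, C.acts_torus, he2] at h1
    have h2 := C.xGL_injective (w s).isLt h1
    rw [mul_one, mul_one, mul_comm (e s : F)] at h2
    exact Units.ext (mul_right_cancel₀ he0 h2)
  rw [← hc', eq_inv_iff_mul_eq_one, ← map_mul, C.torus_eq_one_iff]
  funext i
  have hs : D.neg (D.simple i.val) < D.nroots := C.R.neg_lt _ (C.R.simple_lt i)
  have h1 := key ⟨_, hs⟩
  rw [h, C.R.neg_neg _ (C.R.simple_lt i), C.R.α_neg _ (C.R.simple_lt i), ← neg_one_zsmul,
    C.R.torusChar_zsmul, zpow_neg_one] at h1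
  have h2 : monMap (fun i j => D.cartan j.val (D.simple i.val)) (c' * c) i =
      C.R.torusChar (c' * c) (C.R.α (D.simple i.val)) := by
    rw [C.R.torusChar_root _ (C.R.simple_lt i)]; rfl
  rw [h2, C.R.torusChar_mul, h1, inv_mul_cancel]

include C in
/-- The diagonal subgroup with an exponent of the Weyl group. -/
theorem controlled_diagonal [Fintype F] {e : ℕ} (he : ∀ w ∈ C.hR.weyl, w ^ e = 1) :
    Controlled ((D.diagonalSubgroup F).subgroupOf (D.group F)) e := by
  refine ⟨fun a ha b hb => Subtype.ext (diagonal_comm C _ ha _ hb), fun x => ?_⟩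
  obtain ⟨n, hn, hfus⟩ := diagonal_fusion C x.2
  refine ⟨⟨n, C.monomial_le_group hn⟩, fun t ht => Subtype.ext ?_,
    fun t ht htx => Subtype.ext (hfus _ ht htx)⟩
  exact diagonal_comm C _ (pow_mem_diagonal C hn (he _ (rootAction_mem_weyl C _))) _ ht

/-- The group over a field as a subgroup over a larger one. -/
noncomputable def groupMap {K : Type*} [Field K] (f : K →+* F) : D.group K →* D.group F :=
  ((ChevField.mapGL f).comp (D.group K).subtype).codRestrict (D.group F)
    fun g => ChevField.group_map_le f ⟨g, g.2, rfl⟩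

theorem groupMap_injective {K : Type*} [Field K] (f : K →+* F) :
    Function.Injective (groupMap (D := D) f) := fun _ _ h =>
  Subtype.ext (ChevField.mapGL_injective f (congrArg Subtype.val h))

end CfsgLib.AltExceptional
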