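import Cfsg.Agent.Lib.AltExceptional.G2Three

/-!
Alternating sections of the Chevalley groups of type G2.
-/

set_option autoImplicit false

namespace CfsgLib.AltExceptional

open Cfsg.Lie CfsgLib.ChevStr CfsgLib.AltDegree
open scoped MatrixGroups

/-- An extension field with prescribed congruence. -/
theorem exists_extension' {F : Type*} [Field F] [Fintype F] (p : ℕ) [Fact p.Prime] [CharP F p]
    {M : ℕ} (hM : 0 < M) (hp : ¬ p ∣ M) :
    ∃ (L : Type) (_ : Field L) (_ : Fintype L) (_ : F →+* L), CharP L p ∧ M ∣ Fintype.card L - 1 := by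
  have hn : 0 < M.totient := Nat.totient_pos.2 hM
  have : NeZero M.totient := ⟨hn.ne'⟩
  let L := FiniteField.Extension F p M.totient
  have : Finite L := Module.finite_of_finite F
  refine ⟨L, inferInstance, Fintype.ofFinite L, algebraMap F L,
    charP_of_injective_ringHom (algebraMap F L).injective p, ?_⟩
  rw [← @Nat.card_eq_fintype_card L (Fintype.ofFinite L), FiniteField.natCard_extension,
    Nat.card_eq_fintype_card]
  obtain ⟨k, -, hk⟩ := FiniteField.card F p
  have hc : (Fintype.card F).Coprime M := by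
    rw [hk]
    exact ((Nat.Prime.coprime_iff_not_dvd Fact.out).2 hp).pow_left _
  exact (Nat.modEq_iff_dvd' (Nat.one_le_pow _ _ Fintype.card_pos)).1 (Nat.ModEq.pow_totient hc).symm

/-- Elements for degree seven. -/
theorem alt7_five : ∃ x y : Alt 7, x ^ 5 = 1 ∧ x ≠ 1 ∧ y * x * y⁻¹ = x ^ 2 ∧ y ^ 6 * x ≠ x * y ^ 6 :=
  ⟨tri 0 1 2 * tri 2 3 4, tri 1 2 4 * tri 4 3 5 * tri 3 5 6, by decide +kernel⟩

/-- Elements for degree eight. -/
theorem alt8_data : ∃ a b y u v : Alt 8, a * b = b * a ∧ a ^ 3 = 1 ∧ b ^ 3 = 1 ∧ b ≠ 1 ∧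
    (a ≠ 1 ∧ a ≠ b ∧ a ≠ b ^ 2) ∧ y * a * y⁻¹ = b ∧ y * b * y⁻¹ = a⁻¹ ∧ u ^ 5 = 1 ∧ u ≠ 1 ∧ v ^ 5 = 1 ∧ v ≠ 1 ∧
    b * u = u * b ∧ b * v = v * b ∧
    ∀ i j : Fin 5, i ≠ 0 → j ≠ 0 → u ^ i.val * v ^ j.val ≠ v ^ j.val * u ^ i.val :=
  ⟨tri 0 1 2, tri 5 6 7, tri 0 5 1 * tri 1 6 2 * tri 6 2 7, tri 0 1 2 * tri 2 3 4, tri 0 2 1 * tri 1 3 4,
    by decide +kernel, by decide +kernel, by decide +kernel, by decide +kernel, ⟨by decide +kernel, by decide +kernel, by decide +kernel⟩, by decide +kernel, by decide +kernel, by decide +kernel, by decide +kernel, by decide +kernel, by decide +kernel, by decide +kernel, by decide +kernel, by decide +kernel⟩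

/-- A section isomorphic to a smaller alternating group. -/
theorem exists_smaller {G : Type*} [Group G] {r s : ℕ} (hrs : s ≤ r) (H : Subgroup G) (π : H →* Alt r)
    (hπ : Function.Surjective π) :
    ∃ (H' : Subgroup G) (π' : H' →* Alt s), Function.Surjective π' := by
  let f : Alt s →* Alt r := viaA (Fin.castLEEmb hrs)
  have hf : Function.Injective f := viaA_injective _
  let H₀ : Subgroup H := f.range.comap π
  let e := H₀.equivMapOfInjective H.subtype H.subtype_injective
  refine ⟨H₀.map H.subtype,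
    ((MonoidHom.ofInjective hf).symm.toMonoidHom.comp (π.subgroupComap f.range)).comp e.symm.toMonoidHom, ?_⟩
  refine ((MonoidHom.ofInjective hf).symm.surjective.comp fun z => ?_).comp e.symm.surjective
  obtain ⟨x, hx⟩ := hπ z.1
  exact ⟨⟨x, show π x ∈ f.range by rw [hx]; exact z.2⟩, Subtype.ext hx⟩

/-- Degree bound of alternating sections of G2. -/
theorem g2_alt_bound {F : Type*} [Field F] [Fintype F] (p : ℕ) [Fact p.Prime] [CharP F p]
    {r : ℕ} (H : Subgroup (chevG2.group F)) (K : Subgroup H) [K.Normal] (h : Nonempty (H ⧸ K ≃* Alt r)) :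
    r ≤ 6 + (if p = 5 then 1 else 0) := by
  classical
  obtain ⟨φ⟩ := h
  by_contra hr
  have hp : p.Prime := Fact.out
  split_ifs at hr with h5
  · subst h5
    obtain ⟨L, i1, i2, ι, hchar, hd⟩ := exists_extension' (F := F) 5 (M := 3) (by norm_num) (by norm_num)
    let e := H.equivMapOfInjective (groupMap ι) (groupMap_injective ι)
    obtain ⟨H', π', hπ'⟩ := exists_smaller (s := 8) (by omega) (H.map (groupMap ι))
      ((φ.toMonoidHom.comp (QuotientGroup.mk' K)).comp e.symm.toMonoidHom)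
      ((φ.surjective.comp (QuotientGroup.mk'_surjective K)).comp e.symm.surjective)
    obtain ⟨a, b, y, u, v, hab, ha, hb, hb1, ⟨ha1, hab1, hab2⟩, hya, hyb, hu, hu1, hv, hv1, hbu, hbv, huv⟩ :=
      alt8_data
    refine g2_no_nine_section hd H' π' hπ' hab ha hb hb1 ?_ hya hyb hu hu1 hv hv1 hbu hbv huv
    intro hmem
    obtain ⟨k, hk, hka⟩ := Finset.mem_image.1 ((mem_zpowers_iff_mem_range_orderOf).1 hmem)
    rw [orderOf_eq_prime hb hb1, Finset.mem_range] at hk
    interval_cases k
    · exact ha1 (by rw [← hka, pow_zero])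
    · exact hab1 (by rw [← hka, pow_one])
    · exact hab2 hka.symm
  · obtain ⟨L, i1, i2, ι, hchar, hd⟩ := exists_extension' (F := F) p (M := 5) (by norm_num)
      (fun hd => h5 ((Nat.prime_dvd_prime_iff_eq hp (by norm_num)).1 hd))
    have : Fact (Nat.Prime 5) := ⟨by norm_num⟩
    let e := H.equivMapOfInjective (groupMap ι) (groupMap_injective ι)
    obtain ⟨H', π', hπ'⟩ := exists_smaller (s := 7) (by omega) (H.map (groupMap ι))
      ((φ.toMonoidHom.comp (QuotientGroup.mk' K)).comp e.symm.toMonoidHom)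
      ((φ.surjective.comp (QuotientGroup.mk'_surjective K)).comp e.symm.surjective)
    obtain ⟨x, y, hx, hx1, hyx, hne⟩ := alt7_five
    exact no_section (controlled_diagonal (coreG2 L) fun w hw => weylG2_pow hw)
      (not_dvd_index_diagG2 L (by norm_num) le_rfl hd) H' π' hπ' (x := x) (y := y) (l := 5)
      (orderOf_eq_prime hx hx1) (by rw [hyx]; exact pow_mem (Subgroup.mem_zpowers _) 2) hne

end CfsgLib.AltExceptional
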