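import Cfsg.Agent.Lib.AltExceptional.D4Three
import Cfsg.Agent.Lib.AltExceptional.G2Alt

/-!
Alternating sections of the groups ³D₄(q).
-/

set_option autoImplicit false

namespace CfsgLib.AltExceptional

open Cfsg.Lie CfsgLib.ChevStr CfsgLib.Twisted CfsgLib.AltDegree CfsgLib.ChevField
open scoped MatrixGroups commutatorElement

/-- Elements of degree eight: a nine-group, an element of order four and two elements of order five. -/
theorem d4_alt8_data : ∃ a b y u v : Alt 8, a * b = b * a ∧ a ^ 3 = 1 ∧ b ^ 3 = 1 ∧ b ≠ 1 ∧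
    (a ≠ 1 ∧ a ≠ b ∧ a ≠ b ^ 2) ∧ y * a * y⁻¹ = b ∧ y * b * y⁻¹ = a⁻¹ ∧ u ^ 5 = 1 ∧ u ≠ 1 ∧ v ^ 5 = 1 ∧ v ≠ 1 ∧
    b * u = u * b ∧ b * v = v * b ∧ u ^ 2 * v ^ 2 * (u ^ 2)⁻¹ * (v ^ 2)⁻¹ = a :=
  ⟨tri 0 1 2, tri 5 6 7, tri 0 5 1 * tri 1 6 2 * tri 6 2 7, tri 0 1 2 * tri 2 3 4, tri 0 2 1 * tri 1 3 4,
    by decide +kernel, by decide +kernel, by decide +kernel, by decide +kernel,
    ⟨by decide +kernel, by decide +kernel, by decide +kernel⟩, by decide +kernel, by decide +kernel,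
    by decide +kernel, by decide +kernel, by decide +kernel, by decide +kernel, by decide +kernel, by decide +kernel,
    by decide +kernel⟩

/-- Passage of ³D₄(q) to the extension of degree `k` when `k ≡ 1` modulo 3. -/
theorem twisted_map_le {K L : Type*} [Field K] [Fintype K] [Field L] (f : K →+* L) (q k : ℕ)
    (hK : Fintype.card K = q ^ 3) (hk : k % 3 = 1) :
    (twistedD4 K q).map (mapGL f) ≤ twistedD4 L (q ^ k) := by
  have hpow : ∀ t : K, t ^ q ^ k = t ^ q := fun t => by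
    obtain ⟨i, rfl⟩ : ∃ i, k = 3 * i + 1 := ⟨k / 3, by omega⟩
    rw [pow_succ, pow_mul q, pow_mul, ← hK, FiniteField.pow_card_pow]
  have hpow2 : ∀ t : K, t ^ (q ^ k) ^ 2 = t ^ q ^ 2 := fun t => by
    rw [pow_two (q ^ k), pow_mul, hpow, hpow, ← pow_mul, pow_two]
  rw [Subgroup.map_le_iff_le_comap]
  refine (Subgroup.closure_le _).2 ?_
  rintro g ⟨w, hw, hg⟩
  refine Subgroup.subset_closure ⟨w.map fun p => (p.1, f p.2), ?_, ?_⟩
  · rcases hw with ⟨t, ht, r, hr, rfl⟩ | ⟨t, rs, hrs, rfl⟩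
    · exact Or.inl ⟨f t, by rw [← map_pow, hpow, ht], r, hr, rfl⟩
    · refine Or.inr ⟨f t, rs, hrs, ?_⟩
      simp only [List.map_cons, List.map_nil, ← map_pow, hpow, hpow2]
  · rw [coe_mapGL, hg]
    simp only [ChevalleyDatum.wordMat, ← RingHom.mapMatrix_apply, map_list_prod, List.map_map]
    congr 1
    exact List.map_congr_left fun p _ => CfsgLib.ChevStr.x_map f p.1 p.2

/-- Degree bound of alternating sections of ³D₄. -/
theorem d4_alt_bound {K : Type*} [Field K] [Fintype K] (p a : ℕ) [Fact p.Prime] [CharP K p] (ha : 1 ≤ a)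
    (hK : Fintype.card K = (p ^ a) ^ 3) {r : ℕ} (H : Subgroup (twistedD4 K (p ^ a))) (N : Subgroup H) [N.Normal]
    (h : Nonempty (H ⧸ N ≃* Alt r)) : r ≤ 6 + (if p = 5 then 1 else 0) := by
  classical
  obtain ⟨φ⟩ := h
  by_contra hr
  have hp : p.Prime := Fact.out
  let L := FiniteField.Extension K p 4
  have : Finite L := Module.finite_of_finite K
  let : Fintype L := Fintype.ofFinite L
  have hchar : CharP L p := charP_of_injective_ringHom (algebraMap K L).injective p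
  have : ExpChar L p := ExpChar.prime hp
  have hL : Fintype.card L = p ^ (a * 4) * p ^ (a * 4) * p ^ (a * 4) := by
    rw [← Nat.card_eq_fintype_card, FiniteField.natCard_extension, Nat.card_eq_fintype_card, hK]
    ring
  have hq : 2 ≤ p ^ (a * 4) := le_trans hp.two_le (Nat.le_self_pow (by omega) p)
  have hle : (twistedD4 K (p ^ a)).map (mapGL (algebraMap K L)) ≤ twistedD4 L (p ^ (a * 4)) := by
    rw [pow_mul]; exact twisted_map_le _ _ _ hK rfl
  let emb : twistedD4 K (p ^ a) →* twistedD4 L (p ^ (a * 4)) :=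
    ((mapGL (algebraMap K L)).comp (twistedD4 K (p ^ a)).subtype).codRestrict _ fun g => hle ⟨g, g.2, rfl⟩
  have hemb : Function.Injective emb := fun g g' e =>
    Subtype.ext (mapGL_injective (algebraMap K L) (congrArg Subtype.val e))
  let e := H.equivMapOfInjective emb hemb
  have hmod : ∀ m, m ≠ 0 → (p ^ a) ^ 4 % m = 1 → m ∣ p ^ (a * 4) - 1 := fun m _ h => by
    rw [pow_mul, ← h]; exact Nat.dvd_sub_mod _
  split_ifs at hr with h5
  · subst h5
    obtain ⟨H', π', hπ'⟩ := exists_smaller (s := 8) (by omega) (H.map emb)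
      ((φ.toMonoidHom.comp (QuotientGroup.mk' N)).comp e.symm.toMonoidHom)
      ((φ.surjective.comp (QuotientGroup.mk'_surjective N)).comp e.symm.surjective)
    obtain ⟨x, b, y, u, v, hxb, hx, hb, hb1, ⟨hx1, hxb1, hxb2⟩, hya, hyb, hu, hu1, hv, hv1, hbu, hbv, huv⟩ :=
      d4_alt8_data
    have hd : 3 ∣ 5 ^ (a * 4) - 1 := hmod 3 (by norm_num) (by
      rw [← pow_mul, mul_comm, pow_mul, Nat.pow_mod]; norm_num)
    have : CharP L 5 := hchar
    refine d4_no_nine_section hL hq hd H' π' hπ' hxb hx hb hb1 ?_ hya hyb hu hu1 hv hv1 hbu hbv huv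
    intro hmem
    obtain ⟨k, hk, hka⟩ := Finset.mem_image.1 ((mem_zpowers_iff_mem_range_orderOf).1 hmem)
    rw [orderOf_eq_prime hb hb1, Finset.mem_range] at hk
    interval_cases k
    · exact hx1 (by rw [← hka, pow_zero])
    · exact hxb1 (by rw [← hka, pow_one])
    · exact hxb2 hka.symm
  · have hd : 5 ∣ p ^ (a * 4) - 1 := hmod 5 (by norm_num) (by
      have h1 : (p ^ a) % 5 ≠ 0 := fun e => h5 ((Nat.prime_dvd_prime_iff_eq (by norm_num) hp).1
        ((Nat.Prime.dvd_of_dvd_pow (by norm_num : Nat.Prime 5)) (Nat.dvd_of_mod_eq_zero e))).symm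
      have h2 : ∀ r : Fin 5, r.val ≠ 0 → r.val ^ 4 % 5 = 1 := by decide
      rw [Nat.pow_mod]
      exact h2 ⟨p ^ a % 5, Nat.mod_lt _ (by norm_num)⟩ h1)
    have : Fact (Nat.Prime 5) := ⟨by norm_num⟩
    obtain ⟨H', π', hπ'⟩ := exists_smaller (s := 7) (by omega) (H.map emb)
      ((φ.toMonoidHom.comp (QuotientGroup.mk' N)).comp e.symm.toMonoidHom)
      ((φ.surjective.comp (QuotientGroup.mk'_surjective N)).comp e.symm.surjective)
    obtain ⟨x, y, hx, hx1, hyx, hne⟩ := alt7_five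
    exact no_section (controlledD4 L hL hq) (five_not_dvd_index L hL hq hd) H' π' hπ' (x := x) (y := y) (l := 5)
      (orderOf_eq_prime hx hx1) (by rw [hyx]; exact pow_mem (Subgroup.mem_zpowers _) 2) hne

end CfsgLib.AltExceptional
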