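import Cfsg.Agent.Lib.AltExceptional.D4Torus
import Cfsg.Agent.Lib.ChevField.Fixed

/-!
The centraliser in ³D₄(q) of a torus element of order three fixed by the rotation: its elements
differ from their images under the field automorphism by central torus elements, so its commutators
are fixed by the field automorphism.
-/

set_option autoImplicit false

namespace CfsgLib.AltExceptional

open Cfsg.Lie CfsgLib.ChevStr CfsgLib.Twisted CfsgLib.ChevField
open scoped MatrixGroups

variable (K : Type*) [Field K] [Fintype K] (p n : ℕ) [ExpChar K p]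

/-- The field automorphism `x ↦ x ^ p ^ n`. -/
noncomputable def frobQ : K ≃+* K := iterateFrobeniusEquiv K p n

theorem frobQ_apply (x : K) : frobQ K p n x = x ^ p ^ n := iterateFrobeniusEquiv_def K p n x

/-- The field automorphism on matrices. -/
noncomputable def d4Phi : GL chevD4.Idx K →* GL chevD4.Idx K :=
  mapGL (frobQ K p n).toRingHom

theorem d4Phi_xGL (r : ℕ) (t : K) :
    d4Phi K p n ((coreD4 K).xGL r t) = (coreD4 K).xGL r (t ^ p ^ n) := by
  rw [← frobQ_apply K p n t]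
  exact mapGL_xGL (coreD4 K) (frobQ K p n) r t

theorem d4Phi_nS (i : Fin chevD4.rank) : d4Phi K p n ((coreD4 K).nS i) = (coreD4 K).nS i :=
  mapGL_nS (coreD4 K) (frobQ K p n) i

variable {K}

theorem d4Phi_torus (c : Fin chevD4.rank → Kˣ) :
    d4Phi K p n ((coreD4 K).R.torus c) = (coreD4 K).R.torus (c ^ p ^ n) := by
  refine (mapGL_torus (coreD4 K) (frobQ K p n) c).trans (congrArg _ ?_)
  funext k
  refine Units.ext ?_
  simp [frobQ_apply]

omit [Fintype K] [ExpChar K p] in
theorem d4Chi_pow (c : Fin chevD4.rank → Kˣ) (m : ℕ) (k : Fin chevD4.rank) :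
    d4Chi (c ^ m) k = d4Chi c k ^ m :=
  map_pow ({ toFun := fun d : Fin chevD4.rank → Kˣ => d4Chi d k
             map_one' := by simp [d4Chi, RootData.torusChar]
             map_mul' := fun a b => d4Chi_mul a b k } : (Fin chevD4.rank → Kˣ) →* Kˣ) c m

/-- A torus element with small values is fixed. -/
theorem d4Phi_fixed {c : Fin chevD4.rank → Kˣ} (h : ∀ k, d4Chi c k ^ p ^ n = d4Chi c k) :
    d4Phi K p n ((coreD4 K).R.torus c) = (coreD4 K).R.torus c := by
  rw [d4Phi_torus]
  exact d4_torus_ext (by rw [d4Chi_pow, h]) (by rw [d4Chi_pow, h]) (by rw [d4Chi_pow, h]) (by rw [d4Chi_pow, h])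

/-- Trivial on the roots fixed by the graph automorphism. -/
def D4Deg (c : Fin chevD4.rank → Kˣ) : Prop :=
  d4Chi c d4i1 = 1 ∧ d4Chi c d4i0 * d4Chi c d4i2 * d4Chi c d4i3 = 1

theorem d4_long_facts :
    (∀ r : Fin chevD4.nroots, d4aSym.root r.val = r.val → d4aSym.sign r.val = 1 ∧ d4Long (rootDataD4.α r) = true) ∧
    (∀ r : Fin chevD4.nroots, chevD4.IsPosRoot r.val →
      (rootDataD4.α r d4i0 + rootDataD4.α r d4i2 + rootDataD4.α r d4i3) % 3 = 0 → r.val ∈ [14, 22, 23]) ∧
    (∀ r ∈ [14, 22, 23], r < chevD4.nroots ∧ d4aSym.root r = r) ∧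
    (rootDataD4.α 14 d4i0 = 0 ∧ rootDataD4.α 14 d4i1 = 1 ∧ rootDataD4.α 14 d4i2 = 0 ∧ rootDataD4.α 14 d4i3 = 0) ∧
    (rootDataD4.α 22 d4i0 = 1 ∧ rootDataD4.α 22 d4i1 = 1 ∧ rootDataD4.α 22 d4i2 = 1 ∧ rootDataD4.α 22 d4i3 = 1) := by
  decide +kernel

omit [Fintype K] in
theorem D4Deg.char {c : Fin chevD4.rank → Kˣ} (h : D4Deg c) {v : Fin chevD4.rank → ℤ} (hv : d4Long v = true) :
    rootDataD4.torusChar c v = 1 := by
  rw [d4_char_long c hv, h.1, h.2, one_zpow, one_zpow, one_mul]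

omit [Fintype K] in
/-- Elements generated by positive roots fixed by the graph automorphism commute with degenerate
torus elements. -/
theorem D4Deg.commute_Ucl {c : Fin chevD4.rank → Kˣ} (h : D4Deg c) {u : GL chevD4.Idx K}
    (hu : u ∈ (coreD4 K).Ucl {r | r ∈ [14, 22, 23]}) :
    (coreD4 K).R.torus c * u = u * (coreD4 K).R.torus c := by
  have hle : (coreD4 K).Ucl {r | r ∈ [14, 22, 23]} ≤ Subgroup.centralizer {(coreD4 K).R.torus c} := by
    refine (coreD4 K).Ucl_le fun r hr t => ?_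
    rw [Subgroup.mem_centralizer_singleton_iff]
    obtain ⟨hr', hroot⟩ := d4_long_facts.2.2.1 r hr
    have e := (coreD4 K).acts_torus c ⟨r, hr'⟩ t
    rw [show (coreD4 K).R.torusChar c ((coreD4 K).R.α ((⟨r, hr'⟩ : Fin chevD4.nroots) : ℕ)) = 1 from
      h.char (d4_long_facts.1 ⟨r, hr'⟩ hroot).2, Units.val_one, one_mul, mul_inv_eq_iff_eq_mul] at e
    exact e.symm
  exact (Subgroup.mem_centralizer_singleton_iff.1 (hle hu)).symm

variable {p n}

/-- On these elements the endomorphism is the field automorphism. -/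
theorem act_eq_phi_Ucl {u : GL chevD4.Idx K} (hu : u ∈ (coreD4 K).Ucl {r | r ∈ [14, 22, 23]}) :
    (frobD4 K p n).act u = d4Phi K p n u := by
  have hle : (coreD4 K).Ucl {r | r ∈ [14, 22, 23]} ≤
      { carrier := {g | g ∈ chevD4.group K ∧ (frobD4 K p n).act g = d4Phi K p n g}
        one_mem' := ⟨one_mem _, by rw [(frobD4 K p n).act_one, map_one]⟩
        mul_mem' := fun {a b} ha hb => ⟨mul_mem ha.1 hb.1, by
          rw [(frobD4 K p n).act_mul ha.1 hb.1, ha.2, hb.2, map_mul]⟩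
        inv_mem' := fun {a} ha => ⟨inv_mem ha.1, by rw [(frobD4 K p n).act_inv ha.1, ha.2, map_inv]⟩ } := by
    refine (coreD4 K).Ucl_le fun r hr t => ⟨(coreD4 K).xGL_mem_group _ _, ?_⟩
    obtain ⟨hr', hroot⟩ := d4_long_facts.2.2.1 r hr
    rw [(frobD4 K p n).act_word (root := d4aSym.root) (fun _ => rfl) hr', hroot, d4Phi_xGL]
    show (coreD4 K).xGL r ((d4aSym.sign r : K) * t ^ p ^ n) = _
    rw [(d4_long_facts.1 ⟨r, hr'⟩ hroot).1, Int.cast_one, one_mul]
  exact (hle hu).2

variable (hn : Fintype.card K = (p ^ n) * (p ^ n) * (p ^ n)) (hq : 2 ≤ p ^ n)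

include hn hq

/-- Fixed unipotent elements commuting with the element of order three. -/
theorem unipotent_cent {c : Fin chevD4.rank → Kˣ} (h1 : d4Chi c d4i1 = 1) (h0 : d4Chi c d4i0 ^ 3 = 1)
    (hne : d4Chi c d4i0 ≠ 1) (h2 : d4Chi c d4i2 = d4Chi c d4i0) (h3 : d4Chi c d4i3 = d4Chi c d4i0)
    {u : GL chevD4.Idx K} (hu : u ∈ chevD4.posUnipotent K) (hu1 : u ∈ twistedD4 K (p ^ n))
    (hc : (coreD4 K).R.torus c * u * ((coreD4 K).R.torus c)⁻¹ = u) :
    u ∈ (coreD4 K).Ucl {r | r ∈ [14, 22, 23]} ∧ d4Phi K p n u = u := by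
  classical
  set C := coreD4 K
  have hmem : u ∈ C.Ucl {r | r ∈ [14, 22, 23]} := by
    set L := C.rootList {r | chevD4.IsPosRoot r}
    have hset : {r | r ∈ L} = {r | chevD4.IsPosRoot r} := C.setOf_mem_rootList fun r hr => hr.1
    have hpos : ∀ r ∈ L, chevD4.IsPosRoot r := fun r hr => (Set.ext_iff.1 hset r).1 hr
    rw [C.posUnipotent_eq, ← hset] at hu
    obtain ⟨t, rfl⟩ := C.exists_word (L := L) (ChevCore.sorted_filter _) (hset ▸ C.R.isClosed_pos) u hu
    rw [torus_conj_word C c L (fun r hr => (hpos r hr).1)] at hc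
    have hz := C.word_injective (L := L) (ChevCore.sorted_filter _) hpos _ _ hc
    refine Subgroup.list_prod_mem _ fun x hx => ?_
    simp only [List.map_map, List.mem_map, Function.comp] at hx
    obtain ⟨r, hr, rfl⟩ := hx
    by_cases htr : t r = 0
    · rw [htr, C.xGL_zero]; exact one_mem _
    refine C.xGL_mem_Ucl ?_ _
    show r ∈ [14, 22, 23]
    refine d4_long_facts.2.1 ⟨r, (hpos r hr).1⟩ (hpos r hr) ?_
    have hval : rootDataD4.torusChar c (rootDataD4.α r) = 1 :=
      Units.ext (mul_left_eq_self₀.1 (hz r hr) |>.resolve_right htr)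
    rw [d4_char, h1, h2, h3, one_zpow, mul_one, ← zpow_add, ← zpow_add,
      ← orderOf_dvd_iff_zpow_eq_one, orderOf_eq_prime h0 hne] at hval
    exact Int.emod_eq_zero_of_dvd hval
  exact ⟨hmem, (act_eq_phi_Ucl hmem).symm.trans (le_fixedD4 K hn hu1).2⟩

/-- An element centralising the element of order three differs from its image by a degenerate torus
element, and commutes with all of these. -/
theorem cent_defect {c : Fin chevD4.rank → Kˣ}
    (hcH : (coreD4 K).R.torus c ∈ chevD4.diagonalSubgroup K ⊓ twistedD4 K (p ^ n))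
    (h1 : d4Chi c d4i1 = 1) (h0 : d4Chi c d4i0 ^ 3 = 1)
    (hne : d4Chi c d4i0 ≠ 1) (h2 : d4Chi c d4i2 = d4Chi c d4i0) (h3 : d4Chi c d4i3 = d4Chi c d4i0)
    {g : GL chevD4.Idx K} (hg : g ∈ twistedD4 K (p ^ n))
    (hgc : g * (coreD4 K).R.torus c = (coreD4 K).R.torus c * g) :
    (∃ d, D4Deg d ∧ d4Phi K p n g = g * (coreD4 K).R.torus d) ∧
      ∀ d : Fin chevD4.rank → Kˣ, D4Deg d → g * (coreD4 K).R.torus d = (coreD4 K).R.torus d * g := by
  classical
  set C := coreD4 K with hC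
  set A := chevAmbient C
  have gen := gensD4 K hn hq
  obtain ⟨u, hu, m, hm, v, hv, hV, rfl⟩ := gen.twist.nf hg
  set z := C.R.torus c
  have hzH : z ∈ chevD4.diagonalSubgroup K := hcH.1
  have hzN : z ∈ chevD4.monomialSubgroup K := le_sup_left (b := Subgroup.closure _) hzH
  have hconj : ∀ x ∈ chevD4.negUnipotent K, z * x * z⁻¹ ∈ chevD4.negUnipotent K := by
    intro x hx
    rw [C.negUnipotent_eq] at hx ⊢
    exact (Subgroup.mem_normalizer_iff.1 (C.torus_normalizes _ ⟨c, rfl⟩) x).1 hx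
  obtain ⟨e1, e2, e3⟩ := A.nf_unique' (u := u) (n := m) (v := v) (u' := z * u * z⁻¹) (n' := z * m * z⁻¹)
    (v' := z * v * z⁻¹) hu.1 hm.1 hv.1 (A.H_conj_U z hzH u hu.1)
    (mul_mem (mul_mem hzN hm.1) (inv_mem hzN)) (A.H_conj_U z hzH v hv.1) hV
    (by
      rw [show z * m * z⁻¹ * (z * v * z⁻¹) * (z * m * z⁻¹)⁻¹ = z * (m * v * m⁻¹) * z⁻¹ by group]
      exact hconj _ hV)
    (by
      rw [show z * u * z⁻¹ * (z * m * z⁻¹) * (z * v * z⁻¹) = z * (u * m * v) * z⁻¹ by group, ← hgc,
        mul_inv_cancel_right])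
  obtain ⟨huS, huφ⟩ := unipotent_cent hn hq h1 h0 hne h2 h3 hu.1 hu.2 e1.symm
  obtain ⟨hvS, hvφ⟩ := unipotent_cent hn hq h1 h0 hne h2 h3 hv.1 hv.2 e3.symm
  obtain ⟨w, hw, -⟩ := C.exists_moves hm.1
  have hfix : (frobD4 K p n).act m = m := (gen.le_fixed hm.2).2
  have hρ : Commute rhoD4 w := (frobD4 K p n).commute_of_fixed hm.1 hw hfix
  have hplus : d4Plus w = true := by
    refine (d4_spec hw.1 hρ).2.2.resolve_right fun hmin => ?_
    obtain ⟨c', k1, k2⟩ := conj_torus_char C hm.1 hw c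
    rw [show m * z * m⁻¹ = z by
      rw [show m * z = z * m from (mul_inv_eq_iff_eq_mul.1 e2.symm).symm, mul_inv_cancel_right]] at k1
    have h4 : ∀ s : Fin chevD4.nroots,
        rootDataD4.torusChar c (rootDataD4.α (w s)) = rootDataD4.torusChar c (rootDataD4.α s) := fun s => by
      refine Eq.trans (?_ : C.R.torusChar c (C.R.α (w s)) = _) (k2 s)
      have := congrArg (fun g : GL chevD4.Idx K =>
        (g : Matrix chevD4.Idx chevD4.Idx K) (Sum.inr (w s)) (Sum.inr (w s))) k1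
      simpa [z, C.R.coe_torus, C.R.wt_inr, Units.val_inj] using this
    have h5 := List.all_eq_true.1 hmin d4i0 (List.mem_finRange _)
    have h6 := h4 ⟨chevD4.simple d4i0.val, rootDataD4.simple_lt d4i0⟩
    set vec : Fin chevD4.rank → ℤ := fun i =>
      rootDataD4.α (w ⟨chevD4.simple d4i0.val, rootDataD4.simple_lt d4i0⟩) i + if i = d4i0 then 1 else 0 with hvec
    have h7 : rootDataD4.torusChar c vec = d4Chi c d4i0 * d4Chi c d4i0 := by
      rw [show vec = rootDataD4.α (w ⟨chevD4.simple d4i0.val, rootDataD4.simple_lt d4i0⟩) +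
        rootDataD4.α (chevD4.simple d4i0.val) from funext fun i => by
          simp [hvec, rootDataD4.α_simple, Pi.single_apply], rootDataD4.torusChar_add, h6]
      rfl
    rw [d4_char_long c (v := vec) h5, h1, h2, h3, one_zpow, mul_one,
      show d4Chi c d4i0 * d4Chi c d4i0 * d4Chi c d4i0 = d4Chi c d4i0 ^ 3 by rw [pow_succ, pow_two],
      h0, one_zpow] at h7
    refine hne ?_
    calc d4Chi c d4i0 = d4Chi c d4i0 ^ 3 * (d4Chi c d4i0 * d4Chi c d4i0)⁻¹ := by
          rw [pow_succ, pow_two, mul_assoc, mul_comm (d4Chi c d4i0) (_⁻¹), ← mul_assoc, mul_inv_rev]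
          group
      _ = 1 := by rw [h0, ← h7, inv_one, one_mul]
  have hmcomm : ∀ d : Fin chevD4.rank → Kˣ, D4Deg d → m * C.R.torus d = C.R.torus d * m := by
    intro d hd
    obtain ⟨d', k1, k2⟩ := conj_torus_char C hm.1 hw d
    rw [← mul_inv_eq_iff_eq_mul, k1]
    refine torus_eq_of_char C fun j => ?_
    obtain ⟨s, hs⟩ := w.surjective ⟨chevD4.simple j.val, rootDataD4.simple_lt j⟩
    show rootDataD4.torusChar d' (rootDataD4.α (chevD4.simple j.val)) =
      rootDataD4.torusChar d (rootDataD4.α (chevD4.simple j.val))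
    have k3 : rootDataD4.torusChar d' (rootDataD4.α (w s)) = rootDataD4.torusChar d (rootDataD4.α s) := k2 s
    rw [hs] at k3
    rw [k3]
    have hkey : ∀ i : Fin chevD4.rank,
        rootDataD4.torusChar d (rootDataD4.α (w ⟨chevD4.simple i.val, rootDataD4.simple_lt i⟩)) =
          rootDataD4.torusChar d (rootDataD4.α (chevD4.simple i.val)) := by
      intro i
      have h5 := List.all_eq_true.1 hplus i (List.mem_finRange _)
      set vec : Fin chevD4.rank → ℤ := fun l =>
        rootDataD4.α (w ⟨chevD4.simple i.val, rootDataD4.simple_lt i⟩) l - if l = i then 1 else 0 with hvec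
      rw [show rootDataD4.α (w ⟨chevD4.simple i.val, rootDataD4.simple_lt i⟩) =
        rootDataD4.α (chevD4.simple i.val) + vec from funext fun l => by
          simp [hvec, rootDataD4.α_simple, Pi.single_apply], rootDataD4.torusChar_add, hd.char (v := vec) h5, mul_one]
    rw [show chevD4.simple j.val = (w s : ℕ) by rw [hs]]
    rw [reflDataD4.α_weyl w hw.1 s]
    conv_lhs => rw [show rootDataD4.α s = ∑ i, rootDataD4.α s i • rootDataD4.α (chevD4.simple i.val) from
      funext fun l => by simp [rootDataD4.α_simple, Pi.single_apply]]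
    rw [d4_char d, d4_char d]
    have hsum : ∀ f : Fin chevD4.rank → Fin chevD4.rank → ℤ,
        rootDataD4.torusChar d (∑ i, rootDataD4.α s i • f i) =
          ∏ i, rootDataD4.torusChar d (f i) ^ rootDataD4.α s i := by
      intro f
      let χ : Multiplicative (Fin chevD4.rank → ℤ) →* Kˣ :=
        { toFun := fun v => rootDataD4.torusChar d v.toAdd
          map_one' := by simp [RootData.torusChar]
          map_mul' := fun a b => rootDataD4.torusChar_add d _ _ }
      calc rootDataD4.torusChar d (∑ i, rootDataD4.α s i • f i)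
          = χ (∏ i, Multiplicative.ofAdd (f i) ^ rootDataD4.α s i) := by
            show _ = rootDataD4.torusChar d (Multiplicative.toAdd _)
            simp [toAdd_prod]
        _ = _ := by
            rw [map_prod]
            exact Finset.prod_congr rfl fun i _ => map_zpow χ _ _
    rw [← d4_char d, ← d4_char d, hsum, hsum]
    exact Finset.prod_congr rfl fun i _ => by rw [hkey i]
  have hcomm : ∀ d : Fin chevD4.rank → Kˣ, D4Deg d →
      u * m * v * C.R.torus d = C.R.torus d * (u * m * v) := by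
    intro d hd
    have ku : C.R.torus d * u = u * C.R.torus d := hd.commute_Ucl huS
    have kv : C.R.torus d * v = v * C.R.torus d := hd.commute_Ucl hvS
    rw [mul_assoc (u * m), ← kv, ← mul_assoc, mul_assoc u m, hmcomm d hd, ← mul_assoc u, ← ku]
    group
  refine ⟨?_, hcomm⟩
  -- the defect of the monomial part
  obtain ⟨m₀, hm₀, hact⟩ := C.exists_rep hw.1
  have hm₀N := C.rep_mem_monomial hm₀
  have hm₀φ : d4Phi K p n m₀ = m₀ := by
    have hle : Subgroup.closure (Set.range C.nS) ≤ (d4Phi K p n).eqLocus (MonoidHom.id _) :=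
      (Subgroup.closure_le _).2 (by rintro _ ⟨i, rfl⟩; exact d4Phi_nS K p n i)
    exact hle hm₀
  have hd₀ : m₀⁻¹ * m ∈ C.R.torus.range := C.diagonalSubgroup_eq ▸
    C.mem_diagonal_of_moves_one (mul_mem (inv_mem hm₀N) hm.1)
      (by simpa using ChevCore.Moves.mul C (ChevCore.Moves.inv C hm₀N (ChevCore.Acts.moves C hact)) hw)
  obtain ⟨c₀, hc₀⟩ := hd₀
  set d := c₀⁻¹ * c₀ ^ p ^ n with hd
  have hmφ : d4Phi K p n m = m * C.R.torus d := by
    have e : m = m₀ * C.R.torus c₀ := by rw [hc₀, mul_inv_cancel_left]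
    conv_lhs => rw [e, map_mul, hm₀φ, d4Phi_torus]
    rw [hd, map_mul, map_inv, ← mul_assoc, e, mul_inv_cancel_right]
  have hlong : ∀ s : Fin chevD4.nroots, d4aSym.root s.val = s.val →
      rootDataD4.torusChar d (rootDataD4.α s) = 1 := by
    intro s hs
    obtain ⟨t, ht⟩ := hw.2 s 1
    have hws : d4aSym.root (w s).val = (w s).val := by
      have h : (rhoD4 (w s)).val = (w (rhoD4 s)).val := congrArg Fin.val (DFunLike.congr_fun hρ.eq s)
      rwa [show rhoD4 s = s from Fin.ext hs] at h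
    have hG : m ∈ chevD4.group K := C.monomial_le_group hm.1
    have e1 := congrArg (frobD4 K p n).act ht
    rw [(frobD4 K p n).act_mul (mul_mem hG (C.xGL_mem_group _ _)) (inv_mem hG),
      (frobD4 K p n).act_mul hG (C.xGL_mem_group _ _), (frobD4 K p n).act_inv hG, hfix,
      (frobD4 K p n).act_word (root := d4aSym.root) (fun _ => rfl) s.isLt, hs,
      (frobD4 K p n).act_word (root := d4aSym.root) (fun _ => rfl) (w s).isLt, hws] at e1
    change m * C.xGL s.val ((d4aSym.sign s.val : K) * 1 ^ p ^ n) * m⁻¹ =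
      C.xGL (w s).val ((d4aSym.sign (w s).val : K) * t ^ p ^ n) at e1
    rw [(d4_long_facts.1 s hs).1, (d4_long_facts.1 (w s) hws).1, Int.cast_one, one_pow, one_mul, one_mul,
      ht] at e1
    have e2 := congrArg (d4Phi K p n) ht
    rw [map_mul, map_mul, map_inv, d4Phi_xGL, d4Phi_xGL, ← e1, ← ht, hmφ, one_pow] at e2
    have e4 : C.R.torus d * C.xGL s 1 * (C.R.torus d)⁻¹ = C.xGL s 1 := by
      refine mul_left_cancel (a := m) (mul_right_cancel (b := m⁻¹) ?_)
      rw [← e2]; group; rfl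
    rw [C.acts_torus] at e4
    have e5 := C.xGL_injective s.isLt e4
    rw [mul_one] at e5
    exact Units.ext e5
  have hdeg : D4Deg d := by
    obtain ⟨-, -, hr, ⟨a0, a1, a2, a3⟩, b0, b1, b2, b3⟩ := d4_long_facts
    have hA := hlong ⟨14, (hr 14 (by simp)).1⟩ (hr 14 (by simp)).2
    have hB := hlong ⟨22, (hr 22 (by simp)).1⟩ (hr 22 (by simp)).2
    rw [d4_char] at hA hB
    simp only [a0, a1, a2, a3, zpow_zero, zpow_one, one_mul, mul_one] at hA
    simp only [b0, b1, b2, b3, zpow_one, hA, mul_one] at hB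
    exact ⟨hA, hB⟩
  refine ⟨d, hdeg, ?_⟩
  have kv : C.R.torus d * v = v * C.R.torus d := hdeg.commute_Ucl hvS
  rw [map_mul, map_mul, huφ, hvφ, hmφ, mul_assoc (u * m) v, ← kv]
  group

/-- Commutators of elements centralising the element of order three are fixed by the field
automorphism. -/
theorem phi_commutator {c : Fin chevD4.rank → Kˣ}
    (hcH : (coreD4 K).R.torus c ∈ chevD4.diagonalSubgroup K ⊓ twistedD4 K (p ^ n))
    (h1 : d4Chi c d4i1 = 1) (h0 : d4Chi c d4i0 ^ 3 = 1)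
    (hne : d4Chi c d4i0 ≠ 1) (h2 : d4Chi c d4i2 = d4Chi c d4i0) (h3 : d4Chi c d4i3 = d4Chi c d4i0)
    {X : Subgroup (GL chevD4.Idx K)} (hX : X ≤ twistedD4 K (p ^ n))
    (hXc : ∀ g ∈ X, g * (coreD4 K).R.torus c = (coreD4 K).R.torus c * g) :
    ∀ x ∈ ⁅X, X⁆, d4Phi K p n x = x := by
  intro x hx
  refine (show ⁅X, X⁆ ≤ (d4Phi K p n).eqLocus (MonoidHom.id _) from ?_) hx
  refine Subgroup.commutator_le.2 fun g hg k hk => ?_
  obtain ⟨⟨d, hd, e1⟩, hgc⟩ := cent_defect hn hq hcH h1 h0 hne h2 h3 (hX hg) (hXc g hg)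
  obtain ⟨⟨d', hd', e2⟩, hkc⟩ := cent_defect hn hq hcH h1 h0 hne h2 h3 (hX hk) (hXc k hk)
  show d4Phi K p n (g * k * g⁻¹ * k⁻¹) = g * k * g⁻¹ * k⁻¹
  rw [map_mul, map_mul, map_mul, map_inv, map_inv, e1, e2]
  set D := (coreD4 K).R.torus d
  set D' := (coreD4 K).R.torus d'
  have c1 : Commute k D := hkc d hd
  have c2 : Commute g D' := hgc d' hd'
  have c3 : Commute D D' := by
    show (coreD4 K).R.torus d * (coreD4 K).R.torus d' = (coreD4 K).R.torus d' * (coreD4 K).R.torus d
    rw [← map_mul, ← map_mul, mul_comm]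
  calc g * D * (k * D') * (g * D)⁻¹ * (k * D')⁻¹
      = g * (D * k) * D' * D⁻¹ * g⁻¹ * D'⁻¹ * k⁻¹ := by group
    _ = g * k * (D * D' * D⁻¹) * g⁻¹ * D'⁻¹ * k⁻¹ := by rw [← c1.eq]; group
    _ = g * k * (D' * g⁻¹) * D'⁻¹ * k⁻¹ := by rw [c3.eq]; group
    _ = g * k * g⁻¹ * k⁻¹ := by rw [← c2.inv_left.eq]; group

end CfsgLib.AltExceptional
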