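import Cfsg.Agent.Lib.Twisted.Sparse

/-!
Evaluation of words in root elements with coefficients in the field of twenty-five elements, written
on the basis `1, ω` and packed in a natural number, applied to the coordinate vectors.
-/

set_option autoImplicit false

namespace CfsgLib.AltExceptional

open Cfsg.Lie CfsgLib.Twisted
open scoped Matrix

/-- Sum of two codes. -/
def addC (x y : ℕ) : ℕ := (x % 5 + y % 5) % 5 + 5 * ((x / 5 % 5 + y / 5 % 5) % 5)

/-- Product of two codes, with `ω * ω = -1 - ω`. -/
def mulC (x y : ℕ) : ℕ :=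
  (x % 5 * (y % 5) + 4 * (x / 5 % 5 * (y / 5 % 5))) % 5 +
    5 * ((x % 5 * (y / 5 % 5) + x / 5 % 5 * (y % 5) + 4 * (x / 5 % 5 * (y / 5 % 5))) % 5)

/-- Code of an integer. -/
def intC (i : ℤ) : ℕ := (i % 5).toNat

/-- Power of a code. -/
def powC (t : ℕ) : ℕ → ℕ
  | 0 => 1
  | k + 1 => mulC (powC t k) t

variable (D : ChevalleyDatum)

/-- One root element applied to a coded vector. -/
def stepVec (r t : ℕ) (v : List ℕ) : List ℕ :=
  (List.range (D.rank + D.nroots)).map fun i =>
    ((items D r).filter fun it => decide (it.1.1 = i)).foldr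
      (fun it acc => addC (mulC (mulC (intC it.2.2) (powC t it.2.1)) (v.getD it.1.2 0)) acc) (v.getD i 0)

/-- A word applied to a coded vector. -/
def evalWord (w : List (ℕ × ℕ)) (v : List ℕ) : List ℕ := w.foldr (fun p v => stepVec D p.1 p.2 v) v

/-- A coordinate vector. -/
def unitVec (j : ℕ) : List ℕ :=
  (List.range (D.rank + D.nroots)).map fun i => if i = j then 1 else 0

/-- The conditions on a word. -/
def wordOK (w : List (ℕ × ℕ)) : Bool :=
  w.all fun p => decide (p.1 < D.nroots) && decide (D.negIdx.getD p.1 0 ≠ p.1) &&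
    (items D p.1).all fun it => decide (it.1.2 < D.rank + D.nroots)

/-- The test for equality of two words. -/
def sameEval (v w : List (ℕ × ℕ)) : Bool :=
  wordOK D v && wordOK D w && (List.range (D.rank + D.nroots)).all fun j =>
    evalWord D v (unitVec D j) == evalWord D w (unitVec D j)

variable {F : Type*} [Field F] (ω : F)

/-- Value of a code. -/
def evC (x : ℕ) : F := ((x % 5 : ℕ) : F) + ((x / 5 % 5 : ℕ) : F) * ω

variable [CharP F 5] (hω : ω ^ 2 + ω + 1 = 0)

theorem cast_five : (5 : F) = 0 := by simpa using CharP.cast_eq_zero F 5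

theorem cast_mod (k : ℕ) : ((k % 5 : ℕ) : F) = k := (CharP.cast_eq_mod F 5 k).symm

theorem code_parts {a b : ℕ} :
    evC ω (a % 5 + 5 * (b % 5)) = (a : F) + (b : F) * ω := by
  rw [evC, show (a % 5 + 5 * (b % 5)) % 5 = a % 5 by omega,
    show (a % 5 + 5 * (b % 5)) / 5 % 5 = b % 5 by omega, cast_mod, cast_mod]

theorem evC_add (x y : ℕ) : evC ω (addC x y) = evC ω x + evC ω y := by
  rw [addC, code_parts]
  simp only [evC, Nat.cast_add]
  ring

include hω in
theorem evC_mul (x y : ℕ) : evC ω (mulC x y) = evC ω x * evC ω y := by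
  rw [mulC, code_parts]
  simp only [evC, Nat.cast_add, Nat.cast_mul]
  linear_combination (-((x / 5 % 5 : ℕ) : F) * ((y / 5 % 5 : ℕ) : F)) * hω +
    ((x / 5 % 5 : ℕ) : F) * ((y / 5 % 5 : ℕ) : F) * (1 + ω) * cast_five (F := F)

theorem evC_int (i : ℤ) : evC ω (intC i) = (i : F) := by
  have h1 : ((i % 5).toNat : ℤ) = i % 5 := Int.toNat_of_nonneg (Int.emod_nonneg _ (by norm_num))
  have h2 : (i % 5).toNat < 5 := by omega
  rw [intC, evC, Nat.mod_eq_of_lt h2, Nat.div_eq_of_lt h2, Nat.zero_mod, Nat.cast_zero, zero_mul, add_zero]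
  calc ((i % 5).toNat : F) = (((i % 5).toNat : ℤ) : F) := (Int.cast_natCast _).symm
    _ = ((i % 5 : ℤ) : F) := by rw [h1]
    _ = (i : F) := by
      conv_rhs => rw [← Int.emod_add_mul_ediv i 5]
      push_cast
      rw [cast_five (F := F)]; ring

omit [CharP F 5] in
theorem evC_one : evC ω 1 = 1 := by simp [evC]

omit [CharP F 5] in
theorem evC_zero : evC ω 0 = 0 := by simp [evC]

include hω in
theorem evC_powC (t k : ℕ) : evC ω (powC t k) = evC ω t ^ k := by
  induction k with
  | zero => rw [powC, evC_one, pow_zero]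
  | succ k ih => rw [powC, evC_mul ω hω, ih, pow_succ]

/-- The vector of a coded list. -/
def vecC (v : List ℕ) : D.Idx → F := fun a => evC ω (v.getD (code D a) 0)

variable {D}

omit [CharP F 5] in
theorem code_lt (a : D.Idx) : code D a < D.rank + D.nroots := by
  rcases a with i | s
  · exact Nat.lt_add_right _ i.isLt
  · exact Nat.add_lt_add_left s.isLt _

omit [CharP F 5] in
theorem code_surj {j : ℕ} (hj : j < D.rank + D.nroots) : ∃ a : D.Idx, code D a = j := by
  by_cases h : j < D.rank
  · exact ⟨Sum.inl ⟨j, h⟩, rfl⟩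
  · exact ⟨Sum.inr ⟨j - D.rank, by omega⟩, Nat.add_sub_cancel' (by omega)⟩

include hω in
theorem fold_items (t : ℕ) (v : List ℕ) (a : D.Idx) : ∀ (l : List Item) (acc : ℕ),
    (∀ it ∈ l, it.1.2 < D.rank + D.nroots) →
    evC ω ((l.filter fun it => decide (it.1.1 = code D a)).foldr
      (fun it acc => addC (mulC (mulC (intC it.2.2) (powC t it.2.1)) (v.getD it.1.2 0)) acc) acc) =
      evC ω acc + ∑ b : D.Idx, evalAt l (evC ω t) (code D a, code D b) * vecC D ω v b := by
  intro l acc
  induction l with
  | nil => simp [evalAt]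
  | cons it l ih =>
    intro hl
    have hit := hl it List.mem_cons_self
    have ih' := ih fun x hx => hl x (List.mem_cons_of_mem _ hx)
    have hsplit : ∀ b : D.Idx, evalAt (it :: l) (evC ω t) (code D a, code D b) =
        (if it.1 = (code D a, code D b) then (it.2.2 : F) * evC ω t ^ it.2.1 else 0) +
          evalAt l (evC ω t) (code D a, code D b) := by
      intro b
      rw [show it :: l = [it] ++ l from rfl, evalAt_append]
      congr 1
      by_cases h : it.1 = (code D a, code D b) <;> simp [evalAt, h]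
    simp only [hsplit, add_mul, Finset.sum_add_distrib]
    by_cases hrow : it.1.1 = code D a
    · rw [List.filter_cons_of_pos (by simp [hrow]), List.foldr_cons, evC_add, ih',
        evC_mul ω hω, evC_mul ω hω, evC_int, evC_powC ω hω]
      obtain ⟨b₀, hb₀⟩ := code_surj (D := D) hit
      have hS : ∑ b : D.Idx, (if it.1 = (code D a, code D b) then (it.2.2 : F) * evC ω t ^ it.2.1 else 0) *
          vecC D ω v b = (it.2.2 : F) * evC ω t ^ it.2.1 * evC ω (v.getD it.1.2 0) := by
        rw [Finset.sum_eq_single b₀ (fun b _ hb => by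
            rw [if_neg, zero_mul]
            intro e
            exact hb (code_injective D (by rw [hb₀, e])))
          (fun h => absurd (Finset.mem_univ _) h), if_pos (Prod.ext hrow hb₀.symm)]
        simp only [vecC, hb₀]
      rw [hS]
      ring
    · rw [List.filter_cons_of_neg (by simp [hrow]), ih']
      have h0 : ∑ b : D.Idx, (if it.1 = (code D a, code D b) then (it.2.2 : F) * evC ω t ^ it.2.1 else 0) *
          vecC D ω v b = 0 :=
        Finset.sum_eq_zero fun b _ => by
          rw [if_neg (fun e => hrow (congrArg Prod.fst e)), zero_mul]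
      rw [h0, zero_add]

include hω in
theorem step_eq {r : ℕ} (hr : r < D.nroots) (hneg : D.negIdx.getD r 0 ≠ r)
    (hl : ∀ it ∈ items D r, it.1.2 < D.rank + D.nroots) (t : ℕ) (v : List ℕ) :
    D.x F r (evC ω t) *ᵥ vecC D ω v = vecC D ω (stepVec D r t v) := by
  funext a
  have h : (stepVec D r t v).getD (code D a) 0 =
      ((items D r).filter fun it => decide (it.1.1 = code D a)).foldr
        (fun it acc => addC (mulC (mulC (intC it.2.2) (powC t it.2.1)) (v.getD it.1.2 0)) acc)
        (v.getD (code D a) 0) := by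
    simp [stepVec, List.getD_eq_getElem?_getD, code_lt a]
  rw [show vecC D ω (stepVec D r t v) a = evC ω ((stepVec D r t v).getD (code D a) 0) from rfl, h,
    fold_items ω hω t v a _ _ hl]
  simp only [Matrix.mulVec, dotProduct, ChevalleyDatum.x, dif_pos hr, xMat_eq_items ⟨r, hr⟩ hneg,
    add_mul, Finset.sum_add_distrib]
  congr 1
  simp [Matrix.one_apply, vecC]

include hω in
theorem word_eq : ∀ {w : List (ℕ × ℕ)}, wordOK D w = true → ∀ v : List ℕ,
    D.wordMat F (w.map fun p => (p.1, evC ω p.2)) *ᵥ vecC D ω v = vecC D ω (evalWord D w v) := by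
  intro w
  induction w with
  | nil => intro _ v; simp [ChevalleyDatum.wordMat, evalWord]
  | cons p w ih =>
    intro h v
    simp only [wordOK, List.all_cons, Bool.and_eq_true] at h
    obtain ⟨⟨⟨hr, hneg⟩, hl⟩, hw⟩ := h
    have e : D.wordMat F ((p :: w).map fun p => (p.1, evC ω p.2)) =
        D.x F p.1 (evC ω p.2) * D.wordMat F (w.map fun p => (p.1, evC ω p.2)) := by
      simp [ChevalleyDatum.wordMat]
    rw [e, ← Matrix.mulVec_mulVec, ih (by simpa [wordOK] using hw)]
    exact step_eq ω hω (of_decide_eq_true hr) (of_decide_eq_true hneg)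
      (fun it hit => of_decide_eq_true (List.all_eq_true.1 hl it hit)) _ _

include hω in
/-- Words with equal evaluations have equal matrices. -/
theorem wordMat_eq_of_sameEval {v w : List (ℕ × ℕ)} (h : sameEval D v w = true) :
    D.wordMat F (v.map fun p => (p.1, evC ω p.2)) = D.wordMat F (w.map fun p => (p.1, evC ω p.2)) := by
  simp only [sameEval, Bool.and_eq_true, List.all_eq_true, List.mem_range, beq_iff_eq] at h
  obtain ⟨⟨hv, hw⟩, hj⟩ := h
  refine Matrix.ext_of_mulVec_single fun b => ?_
  have hu : (Pi.single b 1 : D.Idx → F) = vecC D ω (unitVec D (code D b)) := by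
    funext a
    by_cases hab : a = b
    · subst hab; simp [vecC, unitVec, List.getD_eq_getElem?_getD, code_lt, evC_one]
    · have : code D a ≠ code D b := fun e => hab (code_injective D e)
      simp [vecC, unitVec, List.getD_eq_getElem?_getD, code_lt, this, hab, evC_zero]
  rw [hu, word_eq ω hω hv, word_eq ω hω hw, hj _ (code_lt b)]

end CfsgLib.AltExceptional
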