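import Cfsg.Agent.Lib.AltExceptional.D4Cent
import Cfsg.Agent.Lib.AltExceptional.WordEval

/-!
An element of ³D₄(q), in characteristic 5, built from roots fixed by the graph automorphism, which
carries a lift of the rotation into the torus.
-/

set_option autoImplicit false

namespace CfsgLib.AltExceptional

open Cfsg.Lie CfsgLib.ChevStr CfsgLib.Twisted CfsgLib.ChevField
open scoped MatrixGroups

theorem d4_word_facts :
    (∀ r ∈ [0, 1, 9, 14, 22, 23], r < chevD4.nroots ∧ d4aSym.root r = r ∧ d4Long (rootDataD4.α r) = true ∧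
      (chevD4.IsPosRoot r ∨ chevD4.IsNegRoot r)) ∧
    chevD4.simple d4i1.val = 14 ∧ chevD4.neg 14 = 9 ∧ chevD4.neg 22 = 1 ∧
    (∀ s : Fin chevD4.nroots, (reflDataD4.wordPerm [d4i0, d4i2, d4i3] ⟨chevD4.simple d4i1.val,
      rootDataD4.simple_lt d4i1⟩).val = 22 ∧
      (reflDataD4.sPerm d4i1 (reflDataD4.wordPerm [d4i0, d4i2, d4i3]
        (reflDataD4.sPerm d4i1 ((reflDataD4.wordPerm [d4i0, d4i2, d4i3])⁻¹ s)))).val = (d4Rot s).val ∧
      (reflDataD4.wordPerm [d4i0, d4i2, d4i3]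
        (reflDataD4.sPerm d4i1 ((reflDataD4.wordPerm [d4i0, d4i2, d4i3])⁻¹ s))).val =
      ((reflDataD4.wordPerm [d4i0, d4i2, d4i3] *
        reflDataD4.sPerm d4i1 * (reflDataD4.wordPerm [d4i0, d4i2, d4i3])⁻¹)⁻¹ s).val) := by
  decide +kernel

/-- The word of the representative of the rotation. -/
def rotWord : List (ℕ × ℕ) := [(14, 1), (9, 4), (14, 1), (22, 1), (1, 4), (22, 1)]

/-- The word of the element carrying it into the torus. -/
def carryWord : List (ℕ × ℕ) := [(14, 14), (22, 13), (23, 12), (9, 5), (1, 6), (0, 5)]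

/-- The word of the torus element. -/
def torusWord : List (ℕ × ℕ) :=
  [(14, 24), (9, 20), (14, 24), (14, 4), (9, 1), (14, 4), (22, 24), (1, 20), (22, 24), (22, 4), (1, 1), (22, 4)]

set_option maxRecDepth 10000 in
theorem carry_check : sameEval chevD4 (carryWord ++ rotWord) (torusWord ++ carryWord) = true := by
  decide +kernel

variable {K : Type*} [Field K] [Fintype K] {p n : ℕ} [ExpChar K p]
  (hn : Fintype.card K = (p ^ n) * (p ^ n) * (p ^ n)) (hq : 2 ≤ p ^ n)

include hn hq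

/-- Elements of the roots fixed by the graph automorphism lie in ³D₄(q). -/
theorem long_mem {r : ℕ} (hr : r ∈ [0, 1, 9, 14, 22, 23]) {t : K} (ht : t ^ p ^ n = t) :
    (coreD4 K).xGL r t ∈ twistedD4 K (p ^ n) := by
  classical
  set C := coreD4 K
  have g := gensD4 K hn hq
  have hact : ∀ {r : ℕ}, r ∈ [0, 1, 9, 14, 22, 23] → ∀ {t : K}, t ^ p ^ n = t →
      (frobD4 K p n).act (C.xGL r t) = C.xGL r t := by
    intro r hr t ht
    obtain ⟨hr', hroot, -, -⟩ := d4_word_facts.1 r hr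
    rw [(frobD4 K p n).act_word (root := d4aSym.root) (fun _ => rfl) hr', hroot]
    show C.xGL r ((d4aSym.sign r : K) * t ^ p ^ n) = _
    rw [(d4_long_facts.1 ⟨r, hr'⟩ hroot).1, Int.cast_one, one_mul, ht]
  have hpos : ∀ x ∈ chevD4.posUnipotent K, (frobD4 K p n).act x = x → x ∈ twistedD4 K (p ^ n) := fun x hx he =>
    g.twist.U1_le x hx he
  obtain ⟨hr', -, -, hpn⟩ := d4_word_facts.1 r hr
  rcases hpn with hp | hnR
  · exact hpos _ (C.xGL_mem_posUnipotent hp t) (hact hr ht)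
  · obtain ⟨w, hw, hc, hneg⟩ := Gens.exists_longest_commute (φ := frobD4 K p n)
    obtain ⟨m, hmN, hm1, hmv⟩ := g.exists_rep_twist hw hc
    have hwr : chevD4.IsPosRoot (w ⟨r, hr'⟩) := by
      have h1 := hneg ⟨chevD4.neg r, C.R.neg_lt r hr'⟩
        ((C.R.isPos_neg_iff hr').2 hnR)
      rw [C.hR.apply_neg hw ⟨r, hr'⟩, C.R.isNeg_neg_iff (w ⟨r, hr'⟩).isLt] at h1
      exact h1
    obtain ⟨u, hu⟩ := hmv.2 ⟨r, hr'⟩ t
    have hG : m ∈ chevD4.group K := C.monomial_le_group hmN
    have h2 : C.xGL (w ⟨r, hr'⟩) u ∈ twistedD4 K (p ^ n) := by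
      refine hpos _ (C.xGL_mem_posUnipotent hwr u) ?_
      rw [← hu, (frobD4 K p n).act_mul (mul_mem hG (C.xGL_mem_group _ _)) (inv_mem hG),
        (frobD4 K p n).act_mul hG (C.xGL_mem_group _ _), (frobD4 K p n).act_inv hG,
        (g.le_fixed hm1).2, hact hr ht]
    have h3 : C.xGL r t = m⁻¹ * C.xGL (w ⟨r, hr'⟩) u * m := by rw [← hu]; group; rfl
    rw [h3]
    exact mul_mem (mul_mem (inv_mem hm1) h2) hm1

variable [CharP K 5] {ω : K} (hω : ω ^ 2 + ω + 1 = 0) (hωq : ω ^ p ^ n = ω)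

include hω hωq in
/-- A lift of the rotation fixed by the field automorphism and an element carrying it into the torus. -/
theorem exists_carry :
    ∃ x g : GL chevD4.Idx K, x ∈ chevD4.monomialSubgroup K ⊓ twistedD4 K (p ^ n) ∧
      (coreD4 K).Moves x d4Rot ∧ d4Phi K p n x = x ∧ g ∈ twistedD4 K (p ^ n) ∧
      (∀ d : Fin chevD4.rank → Kˣ, D4Deg d → g * (coreD4 K).R.torus d = (coreD4 K).R.torus d * g) ∧
      g * x * g⁻¹ ∈ chevD4.diagonalSubgroup K := by
  classical
  set C := coreD4 K with hC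
  let ev : ℕ × ℕ → ℕ × K := fun q => (q.1, evC ω q.2)
  have hfix : ∀ x : ℕ, (evC ω x) ^ p ^ n = evC ω x := fun x => by
    rw [← frobQ_apply K p n, evC, map_add, map_mul, map_natCast, map_natCast, frobQ_apply, hωq]
  have hroots : ∀ w ∈ [rotWord, carryWord], ∀ q ∈ w, q.1 ∈ [0, 1, 9, 14, 22, 23] := by decide +kernel
  have hmem : ∀ w ∈ [rotWord, carryWord], C.wordGL (w.map ev) ∈ twistedD4 K (p ^ n) := by
    intro w hw
    refine Subgroup.list_prod_mem _ fun y hy => ?_
    simp only [List.map_map, List.mem_map] at hy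
    obtain ⟨q, hq', rfl⟩ := hy
    exact long_mem hn hq (hroots w hw q hq') (hfix _)
  obtain ⟨-, hs14, hn14, hn22, htab⟩ := d4_word_facts
  have hm1 : evC ω 4 = -1 := by
    rw [evC, show 4 % 5 = 4 from rfl, show 4 / 5 % 5 = 0 from rfl, Nat.cast_zero, zero_mul, add_zero]
    linear_combination (cast_five (F := K))
  have hrot : C.wordGL (rotWord.map ev) = C.nGL 14 1 * C.nGL 22 1 := by
    rw [ChevCore.nGL, ChevCore.nGL, ← C.wordGL_append]
    simp [rotWord, ev, ChevalleyDatum.nWord, hn14, hn22, evC_one, hm1]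
  obtain ⟨m, hm, hact⟩ := C.exists_rep (reflDataD4.wordPerm_mem [d4i0, d4i2, d4i3])
  have hmN := C.rep_mem_monomial hm
  obtain ⟨e, he, hconj⟩ := C.nGL_conj hact ⟨chevD4.simple d4i1.val, rootDataD4.simple_lt d4i1⟩
  rw [(htab ⟨14, by decide +kernel⟩).1] at hconj
  have h14 : C.nGL 14 1 = C.nS d4i1 := by rw [ChevCore.nS, hs14]
  have hN14 : C.nGL 14 1 ∈ chevD4.monomialSubgroup K := h14 ▸ C.nS_mem_monomial d4i1
  have hmv14 : C.Moves (C.nGL 14 1) (reflDataD4.sPerm d4i1) :=
    h14 ▸ ChevCore.Acts.moves C (C.acts_nS d4i1)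
  set w := reflDataD4.wordPerm [d4i0, d4i2, d4i3] * reflDataD4.sPerm d4i1 *
    (reflDataD4.wordPerm [d4i0, d4i2, d4i3])⁻¹ with hw
  have h22 : C.nGL 22 1 ∈ chevD4.monomialSubgroup K ∧ C.Moves (C.nGL 22 1) w := by
    have hk : C.Moves (m * C.nS d4i1 * m⁻¹) w := ChevCore.Acts.moves C
      (ChevCore.Acts.mul C (ChevCore.Acts.mul C hact (C.acts_nS d4i1)) (ChevCore.Acts.inv C hact))
    have hkN : m * C.nS d4i1 * m⁻¹ ∈ chevD4.monomialSubgroup K :=
      mul_mem (mul_mem hmN (C.nS_mem_monomial d4i1)) (inv_mem hmN)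
    have he1 : m * C.nS d4i1 * m⁻¹ = C.nGL 22 (e : K) := by
      have := hconj 1
      rwa [mul_one] at this
    rcases he with rfl | rfl
    · rw [show C.nGL 22 1 = m * C.nS d4i1 * m⁻¹ by rw [he1, Int.cast_one]]
      exact ⟨hkN, hk⟩
    · have : C.nGL 22 1 = (m * C.nS d4i1 * m⁻¹)⁻¹ := by
        rw [he1, Int.cast_neg, Int.cast_one, C.nGL_neg, inv_inv]
      rw [this]
      refine ⟨inv_mem hkN, ?_⟩
      have hinv := ChevCore.Moves.inv C hkN hk
      have hww : w⁻¹ = w := Equiv.ext fun s => Fin.ext (by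
        rw [← (htab s).2.2]
        rfl)
      rwa [hww] at hinv
  have hmoves : C.Moves (C.nGL 14 1 * C.nGL 22 1) d4Rot := by
    have h := ChevCore.Moves.mul C hmv14 h22.2
    rwa [show reflDataD4.sPerm d4i1 * w = d4Rot from Equiv.ext fun s => Fin.ext (htab s).2.1] at h
  refine ⟨C.wordGL (rotWord.map ev), C.wordGL (carryWord.map ev),
    ⟨hrot ▸ mul_mem hN14 h22.1, hmem _ (by simp)⟩, hrot ▸ hmoves, ?_, hmem _ (by simp), ?_, ?_⟩
  · show mapGL (frobQ K p n).toRingHom _ = _
    rw [mapGL_wordGL, List.map_map]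
    congr 1
    refine List.map_congr_left fun q _ => ?_
    simp only [ev, Function.comp, frobQ_apply, hfix]
  · intro d hd
    have hle : C.wordGL (carryWord.map ev) ∈ Subgroup.centralizer {C.R.torus d} := by
      refine Subgroup.list_prod_mem _ fun y hy => ?_
      simp only [List.map_map, List.mem_map] at hy
      obtain ⟨q, hq', rfl⟩ := hy
      rw [Subgroup.mem_centralizer_singleton_iff]
      obtain ⟨hr, -, hlong, -⟩ := d4_word_facts.1 q.1 (hroots _ (by simp) q hq')
      have e := C.acts_torus d ⟨q.1, hr⟩ (evC ω q.2)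
      rw [show C.R.torusChar d (C.R.α ((⟨q.1, hr⟩ : Fin chevD4.nroots) : ℕ)) = 1 from hd.char hlong,
        Units.val_one, one_mul, mul_inv_eq_iff_eq_mul] at e
      exact e.symm
    exact Subgroup.mem_centralizer_singleton_iff.1 hle
  · have key : C.wordGL (carryWord.map ev) * C.wordGL (rotWord.map ev) =
        C.wordGL (torusWord.map ev) * C.wordGL (carryWord.map ev) := by
      rw [← C.wordGL_append, ← C.wordGL_append, ← List.map_append, ← List.map_append]
      refine Units.ext ?_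
      rw [C.coe_wordGL, C.coe_wordGL]
      exact wordMat_eq_of_sameEval ω hω carry_check
    rw [key, mul_inv_cancel_right]
    have h24 : evC ω 24 = ω ^ 2 := by
      rw [evC]
      norm_num
      linear_combination (1 + ω) * cast_five (F := K) - hω
    have h20 : evC ω 20 = -(ω ^ 2)⁻¹ := by
      have h3 : ω ^ 2 * ω = 1 := by linear_combination (ω - 1) * hω
      rw [← eq_inv_of_mul_eq_one_right h3, evC]
      norm_num
      linear_combination ω * cast_five (F := K)
    have hω0 : ω ^ 2 ≠ 0 := fun e => by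
      have h3 : ω ^ 2 * ω = 1 := by linear_combination (ω - 1) * hω
      rw [e, zero_mul] at h3
      exact zero_ne_one h3
    have hT : C.wordGL (torusWord.map ev) = C.hGL 14 (ω ^ 2) * C.hGL 22 (ω ^ 2) := by
      rw [ChevCore.hGL, ChevCore.hGL, ← C.wordGL_append]
      simp [torusWord, ev, ChevalleyDatum.hWord, ChevalleyDatum.nWord, hn14, hn22, h24, h20, hm1, evC_one]
    rw [hT]
    exact mul_mem (Subgroup.subset_closure ⟨14, _, by decide +kernel, hω0, C.coe_hGL _ _⟩)
      (Subgroup.subset_closure ⟨22, _, by decide +kernel, hω0, C.coe_hGL _ _⟩)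

end CfsgLib.AltExceptional
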