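import Cfsg.Agent.Lib.AltExceptional.D4Weyl
import Cfsg.Agent.Lib.AltExceptional.ChevTorus
import Cfsg.Agent.Lib.TwistedStr.Structure

/-!
The torus of ³D₄(q) controls fusion in itself through a group of exponent 6; Sylow subgroups for the
primes 3 and 5 relative to it and to its normaliser.
-/

set_option autoImplicit false

namespace CfsgLib.AltExceptional

open Cfsg.Lie CfsgLib.ChevStr CfsgLib.Twisted
open scoped MatrixGroups

variable (K : Type*) [Field K] [Fintype K] {p n : ℕ} [ExpChar K p]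
  (hn : Fintype.card K = (p ^ n) * (p ^ n) * (p ^ n)) (hq : 2 ≤ p ^ n)

include hn hq

theorem controlledD4 :
    Controlled ((chevD4.diagonalSubgroup K ⊓ twistedD4 K (p ^ n)).subgroupOf (twistedD4 K (p ^ n))) 6 := by
  classical
  have g := gensD4 K hn hq
  set C := coreD4 K
  refine ⟨fun a ha b hb => Subtype.ext (diagonal_comm C _ ha.1 _ hb.1), fun x => ?_⟩
  obtain ⟨m, hm, hfus⟩ : ∃ m ∈ chevD4.monomialSubgroup K ⊓ twistedD4 K (p ^ n),
      ∀ t ∈ chevD4.diagonalSubgroup K, (x : GL chevD4.Idx K) * t * (x : GL chevD4.Idx K)⁻¹ ∈ chevD4.diagonalSubgroup K →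
        (x : GL chevD4.Idx K) * t * (x : GL chevD4.Idx K)⁻¹ = m * t * m⁻¹ := by
    obtain ⟨u, hu, m, hm, v, hv, -, hx⟩ := g.twist.nf x.2
    refine ⟨m, hm, fun a ha hb => ?_⟩
    set A := chevAmbient C
    set b := (x : GL chevD4.Idx K) * a * (x : GL chevD4.Idx K)⁻¹ with hb'
    have hrel : u * (m * a) * (a⁻¹ * v * a) = b * u * b⁻¹ * (b * m) * v := by
      rw [hb', hx]; group
    have hu' : b * u * b⁻¹ ∈ A.U := A.H_conj_U b hb u hu.1
    have hv' : a⁻¹ * v * a ∈ A.U := by simpa using A.H_conj_U a⁻¹ (inv_mem ha) v hv.1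
    have e := A.nf_unique u hu.1 (m * a) (A.N.mul_mem hm.1 (A.H_le ha)) _ hv' _ hu' (b * m)
      (A.N.mul_mem (A.H_le hb) hm.1) v hv.1 hrel
    rw [e, mul_inv_cancel_right]
  refine ⟨⟨m, hm.2⟩, fun t ht => Subtype.ext ?_, fun t ht htx => Subtype.ext (hfus _ ht.1 htx.1)⟩
  obtain ⟨w, hw, -⟩ := C.exists_moves hm.1
  have h6 := (d4_spec hw.1 ((frobD4 K p n).commute_of_fixed hm.1 hw (g.le_fixed hm.2).2)).1
  refine diagonal_comm C _ (pow_mem_diagonal C hm.1 ?_) _ ht.1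
  rw [C.rootAction_eq (n := ⟨m, hm.1⟩) hw, h6]

theorem d4_index {S : Subgroup (GL chevD4.Idx K)} (hS : S ≤ twistedD4 K (p ^ n)) :
    (S.subgroupOf (twistedD4 K (p ^ n))).index * Nat.card S = (p ^ n) ^ 12 * ((p ^ n) ^ 2 - 1) *
      ((p ^ n) ^ 6 - 1) * ((p ^ n) ^ 8 + (p ^ n) ^ 4 + 1) := by
  rw [← card_twistedD4 K hn hq, ← Subgroup.index_mul_card (S.subgroupOf (twistedD4 K (p ^ n))),
    Nat.card_congr (Subgroup.subgroupOfEquivOfLe hS).toEquiv]

theorem d4_index_eq : ((chevD4.diagonalSubgroup K ⊓ twistedD4 K (p ^ n)).subgroupOf (twistedD4 K (p ^ n))).index =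
    (p ^ n) ^ 12 * (p ^ n + 1) * ((p ^ n) ^ 3 + 1) * ((p ^ n) ^ 8 + (p ^ n) ^ 4 + 1) := by
  have h := d4_index K hn hq (S := chevD4.diagonalSubgroup K ⊓ twistedD4 K (p ^ n)) inf_le_right
  rw [card_H1D4 K hn hq] at h
  obtain ⟨a, ha⟩ : ∃ a, p ^ n = a + 1 := ⟨p ^ n - 1, by omega⟩
  rw [ha] at h ⊢
  have e2 : (a + 1) ^ 2 - 1 = (a + 2) * a := Nat.sub_eq_of_eq_add (by ring)
  have e3 : (a + 1) ^ 3 - 1 = a * (a * a + 3 * a + 3) := Nat.sub_eq_of_eq_add (by ring)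
  have e6 : (a + 1) ^ 6 - 1 = ((a + 1) ^ 3 + 1) * (a * (a * a + 3 * a + 3)) := Nat.sub_eq_of_eq_add (by ring)
  rw [Nat.add_sub_cancel, e2, e3, e6] at h
  have ha0 : 0 < a := by omega
  refine Nat.eq_of_mul_eq_mul_right (show 0 < a * (a * (a * a + 3 * a + 3)) by positivity) ?_
  rw [h]
  ring

theorem five_not_dvd_index (h5 : 5 ∣ p ^ n - 1) :
    ¬ 5 ∣ ((chevD4.diagonalSubgroup K ⊓ twistedD4 K (p ^ n)).subgroupOf (twistedD4 K (p ^ n))).index := by
  rw [d4_index_eq K hn hq]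
  intro h
  have hm : (p ^ n) % 5 = 1 := by omega
  have h' := Nat.mod_eq_zero_of_dvd h
  generalize p ^ n = Q at hm h'
  simp [Nat.mul_mod, Nat.add_mod, Nat.pow_mod, hm] at h'

theorem three_not_dvd_index (h3 : 3 ∣ p ^ n - 1) :
    ¬ 3 ∣ ((chevD4.monomialSubgroup K ⊓ twistedD4 K (p ^ n)).subgroupOf (twistedD4 K (p ^ n))).index := by
  classical
  set C := coreD4 K
  have g := gensD4 K hn hq
  set N1 := chevD4.monomialSubgroup K ⊓ twistedD4 K (p ^ n)
  set H1 := chevD4.diagonalSubgroup K ⊓ twistedD4 K (p ^ n)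
  have hle : H1 ≤ N1 := inf_le_inf_right _ (le_sup_left (b := Subgroup.closure _))
  let θ : N1 →* Equiv.Perm (Fin chevD4.nroots) := C.rootAction.comp (Subgroup.inclusion inf_le_left)
  have hker : θ.ker = H1.subgroupOf N1 := by
    ext x
    rw [MonoidHom.mem_ker, Subgroup.mem_subgroupOf]
    refine ⟨fun h => ⟨C.mem_diagonal_of_moves_one x.2.1 ?_, x.2.2⟩, fun h => ?_⟩
    · have h1 := C.moves_permOf (Subgroup.inclusion (inf_le_left : N1 ≤ _) x)
      change C.Moves _ (θ x) at h1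
      rwa [h] at h1
    · have h' : (x : GL chevD4.Idx K) ∈ C.R.torus.range := C.diagonalSubgroup_eq ▸ h.1
      obtain ⟨c, hc⟩ := h'
      refine C.rootAction_eq ?_
      show C.Moves (x : GL chevD4.Idx K) 1
      rw [← hc]
      exact C.moves_torus c
  obtain ⟨m, hm1, hm2, hmv⟩ := g.exists_rep_twist d4Rot_mem.1 d4Rot_mem.2
  have h3r : 3 ∣ Nat.card θ.range := by
    have hmem : d4Rot ∈ θ.range := ⟨⟨m, hm1, hm2⟩, C.rootAction_eq hmv⟩
    have ho : orderOf (⟨d4Rot, hmem⟩ : θ.range) = 3 := by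
      rw [Subgroup.orderOf_mk]
      refine orderOf_eq_prime ?_ d4Rot_eq.2.2.2
      rw [pow_succ, pow_two, d4Rot_eq.1]
      calc d4Rot2 * d4Rot = d4Rot * d4Rot * d4Rot := by rw [d4Rot_eq.1]
        _ = 1 := by rw [mul_assoc, d4Rot_eq.1, d4Rot_eq.2.1]
    rw [← ho]; exact orderOf_dvd_natCard _
  intro hd
  obtain ⟨a, ha⟩ := hd
  obtain ⟨b, hb⟩ := h3r
  have h1 := d4_index K hn hq (S := N1) inf_le_right
  have h2 := Subgroup.index_mul_card θ.ker
  rw [Subgroup.index_ker, hker, Nat.card_congr (Subgroup.subgroupOfEquivOfLe hle).toEquiv, hb] at h2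
  have h4 := d4_index K hn hq (S := H1) inf_le_right
  rw [← h2, ha] at h1
  rw [d4_index_eq K hn hq, ← h1] at h4
  have h5 := Nat.eq_of_mul_eq_mul_right (show 0 < Nat.card H1 from Nat.card_pos)
    (show _ * Nat.card H1 = 9 * (a * b) * Nat.card H1 by rw [h4]; ring)
  have h6 : ((p ^ n) ^ 12 * (p ^ n + 1) * ((p ^ n) ^ 3 + 1) * ((p ^ n) ^ 8 + (p ^ n) ^ 4 + 1)) % 9 = 0 := by
    omega
  have hm : (p ^ n) % 9 = 1 ∨ (p ^ n) % 9 = 4 ∨ (p ^ n) % 9 = 7 := by omega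
  generalize p ^ n = Q at hm h6
  rcases hm with h | h | h <;> simp [Nat.mul_mod, Nat.add_mod, Nat.pow_mod, h] at h6

end CfsgLib.AltExceptional
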