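import Cfsg.Agent.Lib.AltExceptional.G2Sylow

/-!
An elementary abelian section of order nine of G2 in characteristic 5, acted on fixed-point-freely by
an element of order four, cannot have a line centralised by two non-commuting elements of order five.
-/

set_option autoImplicit false

namespace CfsgLib.AltExceptional

open Cfsg.Lie CfsgLib.ChevStr
open scoped MatrixGroups

/-- Transport of a Sylow subgroup by Frattini. -/
theorem normalizer_lift {H : Type*} [Group H] [Finite H] (l : ℕ) [Fact l.Prime] (M Q : Subgroup H) (h : H)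
    (hh : ∀ m ∈ M, h * m * h⁻¹ ∈ M) (hQM : Q ≤ M) (hQ : IsPGroup l Q) (hd : ¬ l ∣ Q.relIndex M) :
    ∃ m ∈ M, ∀ b ∈ Q, m * h * b * (m * h)⁻¹ ∈ Q := by
  classical
  let φ : M →* M :=
    { toFun := fun m => ⟨h * m * h⁻¹, hh m m.2⟩
      map_one' := Subtype.ext (by simp)
      map_mul' := fun a b => Subtype.ext (by simp [mul_assoc]) }
  have hφi : Function.Injective φ := fun a b e => Subtype.ext (by
    simpa [φ] using congrArg Subtype.val e)
  have hφ : Function.Surjective φ := Finite.injective_iff_surjective.1 hφi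
  let S : Sylow l M := (hQ.comap_subtype (K := M)).toSylow hd
  obtain ⟨m, hm⟩ := MulAction.exists_smul_eq M (S.mapSurjective hφ) S
  refine ⟨m, m.2, fun b hb => ?_⟩
  have h1 : m * φ ⟨b, hQM hb⟩ * m⁻¹ ∈ (S : Subgroup M) := by
    rw [← hm, Sylow.smul_def]
    exact ⟨φ ⟨b, hQM hb⟩, ⟨⟨b, hQM hb⟩, hb, rfl⟩, rfl⟩
  have h2 : ((m * φ ⟨b, hQM hb⟩ * m⁻¹ : M) : H) ∈ Q := h1
  simpa [φ, mul_assoc] using h2

/-- A lift of prime power order centralising a 3-subgroup of order at most nine. -/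
theorem exists_five_lift {H A : Type*} [Group H] [Finite H] [Group A] (π : H →* A) (hπ : Function.Surjective π)
    {b u : A} (hb : b ^ 3 = 1) (hu : u ^ 5 = 1) (hu1 : u ≠ 1) (hbu : Commute b u)
    {Q : Subgroup H} (hQb : ∀ q ∈ Q, π q ∈ Subgroup.zpowers b) (hQc : Nat.card Q ∣ 3 ^ 2)
    (hd : ¬ 3 ∣ Q.relIndex ((Subgroup.zpowers b).comap π)) :
    ∃ (h : H) (k m : ℕ), h ^ 5 ^ k = 1 ∧ ¬ 5 ∣ m ∧ π h = u ^ m ∧ ∀ q ∈ Q, h * q = q * h := by
  classical
  have : Fact (Nat.Prime 3) := ⟨by norm_num⟩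
  have : Fact (Nat.Prime 5) := ⟨by norm_num⟩
  obtain ⟨h₀, hh₀⟩ := hπ u
  obtain ⟨m₀, hm₀, hnorm⟩ := normalizer_lift 3 ((Subgroup.zpowers b).comap π) Q h₀ (fun m hm => by
      show π _ ∈ Subgroup.zpowers b
      obtain ⟨i, hi⟩ := hm
      rw [map_mul, map_mul, map_inv, hh₀, ← hi]
      show u * b ^ i * u⁻¹ ∈ Subgroup.zpowers b
      rw [(hbu.zpow_left i).symm.eq, mul_inv_cancel_right]
      exact zpow_mem (Subgroup.mem_zpowers b) i) hQb (IsPGroup.of_card_dvd_pow (n := 2) hQc) hd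
  set g := m₀ * h₀
  obtain ⟨k, m, hm, ho⟩ := Nat.exists_eq_pow_mul_and_not_dvd (orderOf_pos g).ne' 5 (by norm_num)
  set h := g ^ m
  have hord : h ^ 5 ^ k = 1 := by rw [← pow_mul, mul_comm, ← ho, pow_orderOf_eq_one]
  have hpow : ∀ i : ℕ, ∀ q ∈ Q, g ^ i * q * (g ^ i)⁻¹ ∈ Q := by
    intro i
    induction i with
    | zero => intro q hq; simpa using hq
    | succ i ih =>
      intro q hq
      rw [show g ^ (i + 1) * q * (g ^ (i + 1))⁻¹ = g * (g ^ i * q * (g ^ i)⁻¹) * g⁻¹ by rw [pow_succ']; group]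
      exact hnorm _ (ih q hq)
  refine ⟨h, k, m, hord, hm, ?_, ?_⟩
  · obtain ⟨i, hi⟩ := hm₀
    have h1 : π h = (b ^ i) ^ m * u ^ m := by
      rw [map_pow, map_mul, hh₀, ← hi, (hbu.zpow_left i).mul_pow]
    have h2 : (π h) ^ 5 ^ k = 1 := by rw [← map_pow, hord, map_one]
    rw [h1, ((hbu.zpow_left i).pow_pow m m).mul_pow] at h2
    have hu5 : (u ^ m) ^ 5 = 1 := by rw [← pow_mul, mul_comm, pow_mul, hu, one_pow]
    have hb3 : ((b ^ i) ^ m) ^ 3 = 1 := by
      rw [← pow_mul, mul_comm, pow_mul, ← zpow_natCast (b ^ i) 3, ← zpow_mul, mul_comm, zpow_mul,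
        zpow_natCast, hb, one_zpow, one_pow]
    rcases Nat.eq_zero_or_pos k with rfl | hk
    · exfalso
      rw [pow_zero, pow_one, pow_one] at h2
      have h3 : (u ^ m) ^ 3 = 1 := by
        have := congrArg (fun x => x ^ 3) h2
        simp only [one_pow] at this
        rwa [((hbu.zpow_left i).pow_pow m m).mul_pow, hb3, one_mul] at this
      have h4 : u ^ m = 1 := by
        exact orderOf_eq_one_iff.1 (Nat.eq_one_of_dvd_coprimes (by norm_num : Nat.Coprime 3 5)
          (orderOf_dvd_of_pow_eq_one h3) (orderOf_dvd_of_pow_eq_one hu5))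
      have h5 : orderOf u = 5 := orderOf_eq_prime hu hu1
      exact hm (h5 ▸ orderOf_dvd_of_pow_eq_one h4)
    · have h3 : (u ^ m) ^ 5 ^ k = 1 := by
        obtain ⟨j, rfl⟩ : ∃ j, k = j + 1 := ⟨k - 1, by omega⟩
        rw [pow_succ', pow_mul, hu5, one_pow]
      rw [h3, mul_one] at h2
      have h4 : (b ^ i) ^ m = 1 := orderOf_eq_one_iff.1
        (Nat.eq_one_of_dvd_coprimes ((by norm_num : Nat.Coprime 3 5).pow_right k)
          (orderOf_dvd_of_pow_eq_one hb3) (orderOf_dvd_of_pow_eq_one h2))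
      rw [h1, h4, one_mul]
  · have : Fintype Q := Fintype.ofFinite _
    let σ : Equiv.Perm Q :=
      Equiv.ofBijective (fun q => ⟨h * q * h⁻¹, hpow m q q.2⟩)
        (Finite.injective_iff_bijective.1 fun a b e => Subtype.ext (by simpa using congrArg Subtype.val e))
    have hσ : ∀ (i : ℕ) (q : Q), ((σ ^ i) q : H) = h ^ i * q * (h ^ i)⁻¹ := by
      intro i
      induction i with
      | zero => intro q; simp
      | succ i ih =>
        intro q
        rw [pow_succ', Equiv.Perm.mul_apply, pow_succ']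
        show h * ((σ ^ i) q : H) * h⁻¹ = _
        rw [ih q]; group
    have hσ5 : σ ^ 5 ^ k = 1 := by
      ext q
      rw [hσ, hord]; simp
    let Fix : Subgroup Q :=
      { carrier := {q | h * (q : H) = q * h}
        one_mem' := by simp
        mul_mem' := fun {x y} (hx : h * (x : H) = x * h) (hy : h * (y : H) = y * h) => by
          show h * ((x : H) * y) = x * y * h
          rw [← mul_assoc, hx, mul_assoc, hy, mul_assoc]
        inv_mem' := fun {x} (hx : h * (x : H) = x * h) => by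
          show h * (x : H)⁻¹ = (x : H)⁻¹ * h
          exact (Commute.inv_right (show Commute h (x : H) from hx)).eq }
    have hFix : ∀ q : Q, q ∈ Fix ↔ σ q = q := fun q => by
      show h * (q : H) = q * h ↔ _
      rw [Subtype.ext_iff]
      exact mul_inv_eq_iff_eq_mul.symm
    have hmod := Equiv.Perm.card_compl_support_modEq (p := 5) (n := k) hσ5
    have hcard : Nat.card Fix = σ.supportᶜ.card := by
      rw [Nat.card_eq_fintype_card, Fintype.card_subtype]
      congr 1
      ext q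
      simp [hFix q]
    rw [← hcard, ← Nat.card_eq_fintype_card] at hmod
    have hdvd := (Subgroup.card_subgroup_dvd_card Fix).trans hQc
    obtain ⟨j, hj, he⟩ := (Nat.dvd_prime_pow Nat.prime_three).1 hdvd
    obtain ⟨i, hi, he'⟩ := (Nat.dvd_prime_pow Nat.prime_three).1 hQc
    have htop : Fix = ⊤ := Subgroup.eq_top_of_card_eq _ (by
      have hmod' : Nat.card Fix % 5 = Nat.card Q % 5 := hmod
      rw [he, he'] at hmod' ⊢
      interval_cases j <;> interval_cases i <;> simp_all)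
    intro q hq
    have : (⟨q, hq⟩ : Q) ∈ Fix := htop ▸ Subgroup.mem_top _
    exact this

variable {L : Type*} [Field L] [Fintype L]

/-- A subgroup of the torus fixed by a rotation has at most three elements. -/
theorem card_fixed_le {n : GL chevG2.Idx L} (hn : n ∈ chevG2.monomialSubgroup L)
    (hw : (coreG2 L).Moves n g2Rot) (Z : Subgroup (GL chevG2.Idx L)) (hZ : Z ≤ chevG2.diagonalSubgroup L)
    (hc : ∀ z ∈ Z, n * z = z * n) : Nat.card Z ≤ 3 := by
  classical
  have hex : ∀ z : Z, ∃ c, (coreG2 L).R.torus c = (z : GL chevG2.Idx L) := fun z => by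
    have := hZ z.2
    rw [(coreG2 L).diagonalSubgroup_eq] at this
    exact this
  choose c hc' using hex
  have hfix : ∀ z : Z, _ := fun z => rot_fixed hn hw (c := c z) (by rw [hc']; exact hc z z.2)
  let f : Z → rootsOfUnity 3 L := fun z =>
    ⟨rootDataG2.torusChar (c z) (rootDataG2.α (chevG2.simple g2i.val)), (hfix z).1⟩
  have hf : Function.Injective f := fun x y e => Subtype.ext (by
    rw [← hc' x, ← hc' y]
    refine torus_eq_of_char (coreG2 L) fun j => ?_
    rcases g2_fin_cases j with rfl | rfl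
    · exact congrArg Subtype.val e
    · exact (hfix x).2.trans (hfix y).2.symm)
  exact (Nat.card_le_card_of_injective f hf).trans (card_rootsOfUnity L 3)

/-- A 3-torsion subgroup of order nine in the torus has the torus as centraliser. -/
theorem centralizer_three {A : Subgroup (GL chevG2.Idx L)} (hA : A ≤ chevG2.diagonalSubgroup L)
    (h9 : Nat.card A = 9) (h3 : ∀ a ∈ A, a ^ 3 = 1) {g : GL chevG2.Idx L} (hg : g ∈ chevG2.group L)
    (hc : ∀ a ∈ A, g * a = a * g) : g ∈ chevG2.diagonalSubgroup L := by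
  classical
  have : Finite A := Nat.finite_of_card_ne_zero (by omega)
  set C := coreG2 L
  have hex : ∀ z : A, ∃ c, C.R.torus c = (z : GL chevG2.Idx L) := fun z => by
    have := hA z.2
    rw [C.diagonalSubgroup_eq] at this
    exact this
  choose c hc' using hex
  have hχ : ∀ (z : A) (j : Fin chevG2.rank),
      rootDataG2.torusChar (c z) (rootDataG2.α (chevG2.simple j.val)) ∈ rootsOfUnity 3 L := fun z j => by
    rw [mem_rootsOfUnity]
    have h1 : C.R.torus (c z ^ 3) = C.R.torus 1 := by rw [map_pow, hc', map_one]; exact h3 _ z.2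
    have h2 := congrArg (fun g : GL chevG2.Idx L => (g : Matrix chevG2.Idx chevG2.Idx L)
      (Sum.inr ⟨_, rootDataG2.simple_lt j⟩) (Sum.inr ⟨_, rootDataG2.simple_lt j⟩)) h1
    simp only [C.R.coe_torus, Matrix.diagonal_apply_eq, C.R.wt_inr, Units.val_inj] at h2
    have h3' : C.R.torusChar (c z ^ 3) (C.R.α (chevG2.simple j.val)) =
        C.R.torusChar (c z) (C.R.α (chevG2.simple j.val)) ^ 3 := by
      simp only [pow_succ, pow_zero, one_mul, RootData.torusChar_mul]
    exact (h3'.symm.trans h2).trans (by simp [RootData.torusChar])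
  let f : A → rootsOfUnity 3 L × rootsOfUnity 3 L := fun z => (⟨_, hχ z g2i⟩, ⟨_, hχ z g2j⟩)
  have hf : Function.Injective f := fun x y e => Subtype.ext (by
    rw [← hc' x, ← hc' y]
    refine torus_eq_of_char C fun j => ?_
    rcases g2_fin_cases j with rfl | rfl
    · exact congrArg (fun q => ((q : rootsOfUnity 3 L × rootsOfUnity 3 L).1 : Lˣ)) e
    · exact congrArg (fun q => ((q : rootsOfUnity 3 L × rootsOfUnity 3 L).2 : Lˣ)) e)
  have hk : Nat.card (rootsOfUnity 3 L) ≤ 3 := card_rootsOfUnity L 3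
  have hle := Nat.card_le_card_of_injective f hf
  rw [h9, Nat.card_prod] at hle
  have hk3 : Nat.card (rootsOfUnity 3 L) = 3 := by nlinarith
  have hsurj : Function.Surjective f :=
    ((Nat.bijective_iff_injective_and_card f).2 ⟨hf, by rw [h9, Nat.card_prod, hk3]⟩).2
  obtain ⟨ω, hω⟩ := @exists_ne (rootsOfUnity 3 L)
    (Finite.one_lt_card_iff_nontrivial.1 (by omega)) 1
  have hoω : orderOf ω = 3 := orderOf_eq_prime (Subtype.ext (by rw [Subgroup.coe_pow]; exact ω.2)) hω
  obtain ⟨z₁, hz₁⟩ := hsurj (ω, 1)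
  obtain ⟨z₂, hz₂⟩ := hsurj (1, ω)
  have hzero : ∀ k : ℤ, (ω : Lˣ) ^ k = 1 ↔ (k % 3) = 0 := fun k => by
    rw [← orderOf_dvd_iff_zpow_eq_one, Subgroup.orderOf_coe, hoω]
    omega
  have e11 := congrArg (fun q => ((q : rootsOfUnity 3 L × rootsOfUnity 3 L).1 : Lˣ)) hz₁
  have e12 := congrArg (fun q => ((q : rootsOfUnity 3 L × rootsOfUnity 3 L).2 : Lˣ)) hz₁
  have e21 := congrArg (fun q => ((q : rootsOfUnity 3 L × rootsOfUnity 3 L).1 : Lˣ)) hz₂
  have e22 := congrArg (fun q => ((q : rootsOfUnity 3 L × rootsOfUnity 3 L).2 : Lˣ)) hz₂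
  simp only [f, OneMemClass.coe_one] at e11 e12 e21 e22
  have k1 : ∀ v, rootDataG2.torusChar (c z₁) v = (ω : Lˣ) ^ v g2i := fun v => by
    rw [g2_char, e11, e12, one_zpow, mul_one]
  have k2 : ∀ v, rootDataG2.torusChar (c z₂) v = (ω : Lˣ) ^ v g2j := fun v => by
    rw [g2_char, e21, e22, one_zpow, one_mul]
  refine centralizer_le_diagonal C hA (fun w hw hwfix => ?_) (fun s => ?_) hg hc
  · refine (g2_spec hw).2.2 fun i j => ?_
    have e1 := hwfix (c z₁) (by rw [hc']; exact z₁.2) ⟨_, rootDataG2.simple_lt j⟩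
    have e2 := hwfix (c z₂) (by rw [hc']; exact z₂.2) ⟨_, rootDataG2.simple_lt j⟩
    have e1' := (k1 _).symm.trans (e1.trans (k1 _))
    have e2' := (k2 _).symm.trans (e2.trans (k2 _))
    rw [← mul_inv_eq_one, ← zpow_neg, ← zpow_add, ← sub_eq_add_neg, hzero] at e1' e2'
    dsimp only at e1' e2'
    rw [C.R.α_simple, Pi.single_apply] at e1' e2'
    rcases g2_fin_cases i with rfl | rfl
    · exact e1'
    · exact e2'
  · have h := List.all_eq_true.1 g2_coef.2.2.2.2.1 s (List.mem_finRange s)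
    simp only [Bool.or_eq_true, bne_iff_ne, ne_eq] at h
    rcases h with h | h
    · exact ⟨c z₁, by rw [hc']; exact z₁.2, fun e => h ((hzero _).1 ((k1 _).symm.trans e))⟩
    · exact ⟨c z₂, by rw [hc']; exact z₂.2, fun e => h ((hzero _).1 ((k2 _).symm.trans e))⟩

set_option maxHeartbeats 1000000 in
/-- The local obstruction in characteristic 5. -/
theorem g2_no_nine_section [CharP L 5] (hq : 3 ∣ Fintype.card L - 1) {A : Type*} [Group A] [Finite A]
    (H : Subgroup (chevG2.group L)) (π : H →* A) (hπ : Function.Surjective π)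
    {a b y u v : A} (hab : Commute a b) (ha : a ^ 3 = 1) (hb : b ^ 3 = 1) (hb1 : b ≠ 1)
    (hnb : a ∉ Subgroup.zpowers b) (hya : y * a * y⁻¹ = b) (hyb : y * b * y⁻¹ = a⁻¹)
    (hu : u ^ 5 = 1) (hu1 : u ≠ 1) (hv : v ^ 5 = 1) (hv1 : v ≠ 1) (hbu : Commute b u) (hbv : Commute b v)
    (huv : ∀ i j : Fin 5, i ≠ 0 → j ≠ 0 → u ^ i.val * v ^ j.val ≠ v ^ j.val * u ^ i.val) : False := by
  classical
  have : Fact (Nat.Prime 3) := ⟨by norm_num⟩
  have : Fact (Nat.Prime 5) := ⟨by norm_num⟩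
  set C := coreG2 L
  -- the section `V`
  let V : Subgroup A :=
    { carrier := {x | ∃ i j : ℤ, x = a ^ i * b ^ j}
      one_mem' := ⟨0, 0, by simp⟩
      mul_mem' := by
        rintro _ _ ⟨i, j, rfl⟩ ⟨i', j', rfl⟩
        refine ⟨i + i', j + j', ?_⟩
        rw [zpow_add, zpow_add, mul_assoc, ← mul_assoc (b ^ j), (hab.symm.zpow_zpow j i').eq]
        group
      inv_mem' := by
        rintro _ ⟨i, j, rfl⟩
        refine ⟨-i, -j, ?_⟩
        rw [mul_inv_rev, zpow_neg, zpow_neg, ((hab.symm.zpow_zpow j i).inv_inv).eq] }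
  have haV : a ∈ V := ⟨1, 0, by simp⟩
  have hbV : b ∈ V := ⟨0, 1, by simp⟩
  have hVc : ∀ x ∈ V, ∀ z ∈ V, x * z = z * x := by
    rintro _ ⟨i, j, rfl⟩ _ ⟨i', j', rfl⟩
    exact (((Commute.zpow_zpow_self a i i').mul_right (hab.zpow_zpow i j')).mul_left
      ((hab.symm.zpow_zpow j i').mul_right (Commute.zpow_zpow_self b j j'))).eq
  have hyV : ∀ x ∈ V, y * x * y⁻¹ ∈ V := by
    rintro _ ⟨i, j, rfl⟩
    refine ⟨-j, i, ?_⟩
    rw [show y * (a ^ i * b ^ j) * y⁻¹ = (y * a ^ i * y⁻¹) * (y * b ^ j * y⁻¹) by group, ← conj_zpow,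
      ← conj_zpow, hya, hyb, inv_zpow, ← zpow_neg, (hab.symm.zpow_zpow i (-j)).eq]
  have hred : ∀ {c : A}, c ^ 3 = 1 → ∀ i : ℤ, ∃ k : Fin 3, c ^ i = c ^ k.val := fun {c} hc i => by
    refine ⟨⟨(i % 3).toNat, by omega⟩, ?_⟩
    show c ^ i = c ^ (i % 3).toNat
    rw [← zpow_natCast, Int.toNat_of_nonneg (Int.emod_nonneg _ (by norm_num))]
    conv_lhs => rw [← Int.emod_add_mul_ediv i 3, zpow_add, zpow_mul,
      show c ^ (3 : ℤ) = 1 by exact_mod_cast hc, one_zpow, mul_one]
  have hob : orderOf b = 3 := orderOf_eq_prime hb hb1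
  have ha1 : a ≠ 1 := fun e => hnb (e ▸ one_mem _)
  have hoa : orderOf a = 3 := orderOf_eq_prime ha ha1
  have hVcard : Nat.card V = 9 := by
    refine (Nat.card_eq_of_bijective (fun k : Fin 3 × Fin 3 =>
      (⟨a ^ k.1.val * b ^ k.2.val, k.1.val, k.2.val, by simp⟩ : V)) ⟨?_, ?_⟩).symm.trans (by simp)
    · rintro ⟨i, j⟩ ⟨i', j'⟩ e
      have e' : a ^ i.val * b ^ j.val = a ^ i'.val * b ^ j'.val := congrArg Subtype.val e
      have e2 : (a ^ i'.val)⁻¹ * a ^ i.val = b ^ j'.val * (b ^ j.val)⁻¹ := by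
        rw [eq_mul_inv_iff_mul_eq, mul_assoc, e', inv_mul_cancel_left]
      have hii : i = i' := by
        by_contra hne
        refine hnb ?_
        have hm : a ^ ((i.val : ℤ) - i'.val) ∈ Subgroup.zpowers b := by
          rw [sub_eq_neg_add, zpow_add, zpow_neg, zpow_natCast, zpow_natCast, e2]
          exact mul_mem (pow_mem (Subgroup.mem_zpowers b) _) (inv_mem (pow_mem (Subgroup.mem_zpowers b) _))
        have := i.isLt
        have := i'.isLt
        have hne' : i.val ≠ i'.val := fun e => hne (Fin.ext e)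
        obtain ⟨x, z, hxz⟩ : IsCoprime ((i.val : ℤ) - i'.val) 3 := by
          rw [Int.isCoprime_iff_gcd_eq_one]
          interval_cases h : i.val <;> interval_cases h' : i'.val <;> first | omega | decide
        have := zpow_mem hm x
        rw [← zpow_mul, mul_comm, show x * ((i.val : ℤ) - i'.val) = 1 - z * 3 by linarith, zpow_sub, zpow_one,
          mul_comm z, zpow_mul, show a ^ (3 : ℤ) = 1 by exact_mod_cast ha, one_zpow, inv_one, mul_one] at this
        exact this
      subst hii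
      have hj : j.val = j'.val := pow_injOn_Iio_orderOf (by rw [hob]; exact j.isLt) (by rw [hob]; exact j'.isLt)
        (mul_left_cancel e')
      exact Prod.ext rfl (Fin.ext hj)
    · rintro ⟨_, i, j, rfl⟩
      obtain ⟨i', hi⟩ := hred ha i
      obtain ⟨j', hj⟩ := hred hb j
      exact ⟨(i', j'), Subtype.ext (show a ^ i'.val * b ^ j'.val = a ^ i * b ^ j by rw [hi, hj])⟩
  set M := V.comap π with hMdef
  -- lift
  obtain ⟨h₀, hh₀⟩ := hπ y
  obtain ⟨P, hPM, hP, hPd, m, hm, hgP⟩ := frattini_lift 3 M h₀ (fun x hx => by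
    show π _ ∈ V
    rw [map_mul, map_mul, map_inv, hh₀]; exact hyV _ hx)
  set g := m * h₀
  have hgπ : ∀ x ∈ V, π g * x * (π g)⁻¹ = y * x * y⁻¹ := fun x hx => by
    rw [map_mul, hh₀, show π m * y * x * (π m * y)⁻¹ = π m * (y * x * y⁻¹) * (π m)⁻¹ by group,
      hVc _ hm _ (hyV x hx), mul_inv_cancel_right]
  have hMπ : M.map π = V := Subgroup.map_comap_eq_self_of_surjective hπ V
  have hPV : P.map π = V := by
    have hle : P.map π ≤ V := hMπ ▸ Subgroup.map_mono hPM
    refine le_antisymm hle ?_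
    have h1 : (P.map π).relIndex V ∣ P.relIndex M := by
      rw [← hMπ, Subgroup.relIndex_map_map]
      have hker : π.ker ≤ M := fun x hx => show π x ∈ V by rw [MonoidHom.mem_ker.1 hx]; exact one_mem _
      rw [sup_eq_left.2 hker]
      exact Subgroup.relIndex_dvd_of_le_left M le_sup_left
    have h2 : (P.map π).relIndex V ∣ 3 ^ 2 := by
      rw [show (3 : ℕ) ^ 2 = 9 from rfl, ← hVcard]; exact Subgroup.index_dvd_card _
    obtain ⟨j, -, hj⟩ := (Nat.dvd_prime_pow Nat.prime_three).1 h2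
    rcases Nat.eq_zero_or_pos j with rfl | hj0
    · exact Subgroup.relIndex_eq_one.1 (by simpa using hj)
    · exact absurd (dvd_trans (by rw [hj]; exact dvd_pow_self 3 hj0.ne') h1) hPd
  -- into the monomial group
  let ι : H →* chevG2.group L := H.subtype
  obtain ⟨c₁, hc₁⟩ := exists_conj_le 3 (T := (chevG2.monomialSubgroup L).subgroupOf (chevG2.group L))
    (hP.map ι) (not_dvd_index_monoG2 L hq)
  let ψ : H →* GL chevG2.Idx L :=
    (chevG2.group L).subtype.comp ((MulAut.conj c₁).toMonoidHom.comp ι)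
  have hψG : ∀ x, ψ x ∈ chevG2.group L := fun x => SetLike.coe_mem _
  have hψi : Function.Injective ψ :=
    (chevG2.group L).subtype_injective.comp ((MulAut.conj c₁).injective.comp H.subtype_injective)
  have hψN : ∀ x ∈ P, ψ x ∈ chevG2.monomialSubgroup L := fun x hx => hc₁ (ι x) ⟨x, hx, rfl⟩
  let θ : P →* Equiv.Perm (Fin chevG2.nroots) :=
    C.rootAction.comp ((ψ.comp P.subtype).codRestrict _ fun x => hψN x x.2)
  have hθ : ∀ x : P, C.Moves (ψ x) (θ x) := fun x => C.moves_permOf _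
  have hθcases : ∀ x : P, θ x = 1 ∨ θ x = g2Rot ∨ θ x = g2Rot2 := fun x => by
    obtain ⟨k, hk⟩ := hP x
    exact weylG2_three (rootAction_mem_weyl C _) (k := k) (by rw [← map_pow, hk, map_one])
  set B : Subgroup H := P ⊓ (chevG2.diagonalSubgroup L).comap ψ with hBdef
  have hBker : ∀ x : P, θ x = 1 ↔ (x : H) ∈ B := fun x => by
    refine ⟨fun h => ⟨x.2, C.mem_diagonal_of_moves_one (hψN x x.2) (h ▸ hθ x)⟩, fun h => ?_⟩
    have h' : ψ x ∈ chevG2.diagonalSubgroup L := h.2
    rw [C.diagonalSubgroup_eq] at h'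
    obtain ⟨c, hc⟩ := h'
    refine C.rootAction_eq ?_
    show C.Moves (ψ x) 1
    rw [← hc]
    exact C.moves_torus c
  have hrot : ∀ (x : H) (hx : x ∈ P), x ∉ B → (θ ⟨x, hx⟩ = g2Rot ∨ θ ⟨x, hx⟩ = g2Rot2) ∧
      ∃ n ∈ chevG2.monomialSubgroup L, C.Moves n g2Rot ∧ ∀ z, ψ x * z = z * ψ x → n * z = z * n := by
    intro x hx hxB
    rcases hθcases ⟨x, hx⟩ with h | h | h
    · exact absurd ((hBker ⟨x, hx⟩).1 h) hxB
    · exact ⟨Or.inl h, ψ x, hψN x hx, h ▸ hθ ⟨x, hx⟩, fun z hz => hz⟩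
    · refine ⟨Or.inr h, ψ x * ψ x, mul_mem (hψN x hx) (hψN x hx), ?_, fun z hz => ?_⟩
      · have h2 := ChevCore.Moves.mul C (hθ ⟨x, hx⟩) (hθ ⟨x, hx⟩)
        rwa [h, g2Rot_eq.2.2] at h2
      · exact ((show Commute (ψ x) z from hz).mul_left hz).eq
  have hBi : B.relIndex P ≤ 3 := by
    have hker : θ.ker = B.subgroupOf P := by
      ext x; rw [MonoidHom.mem_ker, Subgroup.mem_subgroupOf, hBker]
    rw [Subgroup.relIndex, ← hker, Subgroup.index_ker]
    have hfin : Nat.card ({1, g2Rot, g2Rot2} : Finset (Equiv.Perm (Fin chevG2.nroots))) ≤ 3 := by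
      rw [Nat.card_eq_fintype_card, Fintype.card_coe]
      exact Finset.card_le_three
    refine le_trans (Nat.card_le_card_of_injective (fun z : θ.range => (⟨z.1, ?_⟩ :
      ({1, g2Rot, g2Rot2} : Finset (Equiv.Perm (Fin chevG2.nroots))))) ?_) hfin
    · obtain ⟨x, hx⟩ := z.2
      simp only [Finset.mem_insert, Finset.mem_singleton]
      rw [← hx]; exact hθcases x
    · exact fun z z' e => Subtype.ext (congrArg (fun q : ({1, g2Rot, g2Rot2} : Finset _) => q.1) e)
  have hBab : ∀ x ∈ B, ∀ z ∈ B, x * z = z * x := fun x hx z hz =>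
    hψi (by rw [map_mul, map_mul]; exact diagonal_comm C _ hx.2 _ hz.2)
  -- conjugation by `g` on `P`
  let γ : H →* H := (MulAut.conj g).toMonoidHom
  have hγP : P.map γ = P := by
    refine Subgroup.eq_of_le_of_card_ge (by rintro _ ⟨x, hx, rfl⟩; exact hgP x hx) ?_
    rw [Subgroup.card_map_of_injective (MulAut.conj g).injective]
  set B' := B.map γ with hB'def
  have hB'P : B' ≤ P := hγP ▸ Subgroup.map_mono inf_le_left
  -- `B'` differs from `B`
  have hne : B' ≠ B := by
    intro e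
    have hinv : ∀ x ∈ B.map π, y * x * y⁻¹ ∈ B.map π := by
      rintro _ ⟨x, hx, rfl⟩
      have hxV : π x ∈ V := hPM hx.1
      refine ⟨γ x, e ▸ ⟨x, hx, rfl⟩, ?_⟩
      show π (g * x * g⁻¹) = _
      rw [map_mul, map_mul, map_inv, hgπ _ hxV]
    have hnb' : B.map π ≠ ⊥ := by
      intro hbot
      have h1 : B ≤ π.ker := fun x hx => by
        have : π x ∈ B.map π := ⟨x, hx, rfl⟩
        rwa [hbot, Subgroup.mem_bot] at this
      have h2 := Subgroup.relIndex_dvd_of_le_left P h1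
      rw [Subgroup.relIndex_ker, hPV, hVcard] at h2
      have h3 : B.relIndex P ≠ 0 := Subgroup.index_ne_zero_of_finite
      have := Nat.le_of_dvd (Nat.pos_of_ne_zero h3) h2
      omega
    obtain ⟨x, hx, hx1⟩ := (B.map π).ne_bot_iff_exists_ne_one.1 hnb' |> fun ⟨x, h⟩ => (⟨x.1, x.2, fun e => h (Subtype.ext e)⟩ : ∃ x, x ∈ B.map π ∧ x ≠ 1)
    obtain ⟨i, j, rfl⟩ : x ∈ V := hPV ▸ Subgroup.map_mono inf_le_left hx
    obtain ⟨i', hi⟩ := hred ha i
    obtain ⟨j', hj⟩ := hred hb j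
    rw [hi, hj] at hx hx1
    have hy := hinv _ hx
    rw [show y * (a ^ i'.val * b ^ j'.val) * y⁻¹ = (y * a * y⁻¹) ^ i'.val * (y * b * y⁻¹) ^ j'.val by
      rw [conj_pow, conj_pow]; group, hya, hyb] at hy
    -- both generators
    have hmem : a ∈ B.map π := by
      have hgen : ∀ k l : ℤ, a ^ (k * i'.val + l * -(j'.val : ℤ)) * b ^ (k * j'.val + l * i'.val) ∈ B.map π := by
        intro k l
        have := mul_mem (zpow_mem hx k) (zpow_mem hy l)
        rw [(hab.pow_pow _ _).mul_zpow, ((hab.symm.inv_right).pow_pow _ _).mul_zpow, ← zpow_natCast, ← zpow_natCast,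
          ← zpow_natCast, ← zpow_natCast, inv_zpow, ← zpow_neg, ← zpow_mul, ← zpow_mul, ← zpow_mul, ← zpow_mul,
          mul_assoc, ← mul_assoc (b ^ _) (b ^ _), ← zpow_add, (hab.symm.zpow_zpow _ _).eq, ← mul_assoc,
          ← zpow_add] at this
        convert this using 3 <;> ring
      have key : ∀ e f : Fin 3, (e ≠ 0 ∨ f ≠ 0) → ∃ k l : Fin 3,
          ((k.val : ℤ) * e.val + (l.val : ℤ) * -(f.val : ℤ)) % 3 = 1 ∧
            ((k.val : ℤ) * f.val + (l.val : ℤ) * e.val) % 3 = 0 := by decide +kernel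
      have hij : i' ≠ 0 ∨ j' ≠ 0 := by
        by_contra h
        push Not at h
        simp [h.1, h.2] at hx1
      obtain ⟨k, l, e1, e2⟩ := key i' j' hij
      have := hgen k.val l.val
      rw [← zpow_mod_orderOf a, ← zpow_mod_orderOf b, hoa, hob] at this
      push_cast at this
      rw [e1, e2, zpow_one, zpow_zero, mul_one] at this
      exact this
    obtain ⟨x₀, hx₀, hπx₀⟩ := hmem
    have hctl : Controlled ((chevG2.diagonalSubgroup L).subgroupOf (chevG2.group L)) 6 :=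
      controlled_diagonal C fun w hw => weylG2_pow hw
    let ψ' : H →* chevG2.group L := (MulAut.conj c₁).toMonoidHom.comp ι
    have h6 := hctl.pow_centralizes (P := B.map ψ') (by rintro _ ⟨z, hz, rfl⟩; exact hz.2)
      (g := ψ' g) (by
        rintro _ ⟨z, hz, rfl⟩
        exact ⟨γ z, e ▸ ⟨z, hz, rfl⟩, by simp [γ, map_mul]⟩) _ ⟨x₀, hx₀, rfl⟩
    rw [← map_pow, ← map_mul, ← map_mul] at h6
    have h6' : π (g ^ 6 * x₀) = π (x₀ * g ^ 6) :=
      congrArg π (((MulAut.conj c₁).injective.comp H.subtype_injective) h6)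
    rw [map_mul, map_mul, map_pow, hπx₀] at h6'
    have c2 : ∀ x ∈ V, π g ^ 2 * x * (π g ^ 2)⁻¹ = y * (y * x * y⁻¹) * y⁻¹ := fun x hx => by
      rw [pow_two, show π g * π g * x * (π g * π g)⁻¹ = π g * (π g * x * (π g)⁻¹) * (π g)⁻¹ by group, hgπ x hx,
        hgπ _ (hyV x hx)]
    have c2a : π g ^ 2 * a * (π g ^ 2)⁻¹ = a⁻¹ := by rw [c2 a haV, hya, hyb]
    have c6 : π g ^ 6 * a * (π g ^ 6)⁻¹ = a⁻¹ := by
      have e1 : π g ^ 2 * a⁻¹ * (π g ^ 2)⁻¹ = a := by rw [← conj_inv, c2a, inv_inv]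
      rw [show π g ^ 6 * a * (π g ^ 6)⁻¹ = π g ^ 2 * (π g ^ 2 * (π g ^ 2 * a * (π g ^ 2)⁻¹) * (π g ^ 2)⁻¹) * (π g ^ 2)⁻¹
        by group, c2a, e1, c2a]
    rw [h6', mul_inv_cancel_right] at c6
    have : a ^ 2 = 1 := by rw [pow_two]; exact mul_eq_one_iff_eq_inv.2 c6
    exact ha1 (by have h3 := ha; rw [pow_succ, this, one_mul] at h3; exact h3)
  -- an element outside `B`
  obtain ⟨x', hx'B', hx'B⟩ : ∃ x ∈ B', x ∉ B := by
    by_contra h
    push Not at h
    exact hne (Subgroup.eq_of_le_of_card_ge h (by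
      rw [hB'def, Subgroup.card_map_of_injective (MulAut.conj g).injective]))
  obtain ⟨hx'θ, n, hn, hnw, hncomm⟩ := hrot x' (hB'P hx'B') hx'B
  set Z : Subgroup H := B ⊓ B'
  have hB'ab : ∀ x ∈ B', ∀ z ∈ B', x * z = z * x := by
    rintro _ ⟨x, hx, rfl⟩ _ ⟨z, hz, rfl⟩
    rw [← map_mul, ← map_mul, hBab x hx z hz]
  have hZfix : ∀ z ∈ Z, n * ψ z = ψ z * n := fun z hz =>
    hncomm _ (by rw [← map_mul, ← map_mul, hB'ab _ hx'B' _ hz.2])
  have hZcard : Nat.card Z ≤ 3 := by
    rw [← Subgroup.card_map_of_injective hψi]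
    exact card_fixed_le hn hnw (Z.map ψ) (by rintro _ ⟨z, hz, rfl⟩; exact hz.1.2)
      (by rintro _ ⟨z, hz, rfl⟩; exact hZfix z hz)
  have hBZ : B'.relIndex B ≤ 3 := by
    refine le_trans (Subgroup.relIndex_le_of_le_right inf_le_left Subgroup.index_ne_zero_of_finite) ?_
    rw [hB'def, ← hγP, Subgroup.relIndex_map_map_of_injective _ _ (MulAut.conj g).injective]
    exact hBi
  have hBcard : Nat.card B = Nat.card Z * B'.relIndex B := by
    rw [← Subgroup.card_mul_index (B'.subgroupOf B), Subgroup.relIndex]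
    congr 1
    rw [← Subgroup.card_map_of_injective (f := B.subtype) B.subtype_injective, Subgroup.subgroupOf_map_subtype, inf_comm]
  have hPB : Nat.card P = Nat.card B * B.relIndex P := by
    rw [← Subgroup.card_mul_index (B.subgroupOf P), Subgroup.relIndex,
      Nat.card_congr (Subgroup.subgroupOfEquivOfLe inf_le_left).toEquiv]
  have hP9 : 9 ∣ Nat.card P := by
    rw [← hVcard, ← hPV]; exact Subgroup.card_map_dvd P π
  obtain ⟨kP, hkP⟩ := IsPGroup.iff_card.1 hP
  have hP27 : Nat.card P ≤ 27 := by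
    rw [hPB, hBcard]
    calc Nat.card Z * B'.relIndex B * B.relIndex P ≤ 3 * 3 * 3 := by gcongr
      _ = 27 := rfl
  have hcases : Nat.card P = 9 ∨ Nat.card P = 27 := by
    have h2 : kP ≤ 3 := by
      by_contra h
      have : 3 ^ 4 ≤ 3 ^ kP := Nat.pow_le_pow_right (by norm_num) (by omega)
      omega
    have h3 : 2 ≤ kP := by
      by_contra h
      have : 3 ^ kP ≤ 3 ^ 1 := Nat.pow_le_pow_right (by norm_num) (by omega)
      rw [hkP] at hP9
      have := Nat.le_of_dvd (pow_pos (by norm_num) _) hP9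
      omega
    rw [hkP]
    interval_cases kP <;> simp
  have hBP : B ≠ P := fun e => hx'B (e ▸ hB'P hx'B')
  rcases hcases with h9 | h27
  · -- order nine
    have habP : ∀ x ∈ P, ∀ z ∈ P, x * z = z * x := fun x hx z hz =>
      congrArg Subtype.val (IsPGroup.commutative_of_card_eq_prime_sq (p := 3) (G := P) h9 ⟨x, hx⟩ ⟨z, hz⟩)
    have hBfix : ∀ z ∈ B, n * ψ z = ψ z * n := fun z hz =>
      hncomm _ (by rw [← map_mul, ← map_mul, habP _ (hB'P hx'B') _ hz.1])
    obtain ⟨a₀, ha₀, ha₀1⟩ : ∃ a₀ ∈ B, a₀ ≠ 1 := by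
      by_contra h
      push Not at h
      exact hne (by rw [hB'def, (Subgroup.eq_bot_iff_forall B).2 h, Subgroup.map_bot])
    have ht5 := trace_fixed hn hnw ha₀.2 (hBfix a₀ ha₀) (fun e => ha₀1 (hψi (by rw [e, map_one])))
    have hBc : Nat.card B ≤ 3 := by
      rw [← Subgroup.card_map_of_injective hψi]
      exact card_fixed_le hn hnw (B.map ψ) (by rintro _ ⟨z, hz, rfl⟩; exact hz.2)
        (by rintro _ ⟨z, hz, rfl⟩; exact hBfix z hz)
    have hB3 : Nat.card B = 3 := by nlinarith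
    have ha₁ : g * a₀ * g⁻¹ ∈ B' := ⟨a₀, ha₀, rfl⟩
    have ha₁B : g * a₀ * g⁻¹ ∉ B := by
      intro h
      have hZB : Z ≠ ⊥ := fun e => ha₀1 (by
        have : g * a₀ * g⁻¹ ∈ Z := ⟨h, ha₁⟩
        rw [e, Subgroup.mem_bot] at this
        simpa using this)
      have hZdvd : Nat.card Z ∣ 3 := hB3 ▸ Subgroup.card_dvd_of_le inf_le_left
      have hZ3 : Nat.card Z = 3 := ((Nat.prime_three).eq_one_or_self_of_dvd _ hZdvd).resolve_left
        fun e => hZB (Subgroup.card_eq_one.1 e)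
      have e1 : Z = B := Subgroup.eq_of_le_of_card_ge inf_le_left (by omega)
      exact hne (Subgroup.eq_of_le_of_card_ge (e1 ▸ inf_le_right : B ≤ B') (by
        rw [hB'def, Subgroup.card_map_of_injective (MulAut.conj g).injective])).symm
    have hm1 : C.Moves (ψ (g * a₀ * g⁻¹)) g2Rot ∨ C.Moves (ψ (g * a₀ * g⁻¹)) g2Rot2 :=
      (hrot _ (hB'P ha₁) ha₁B).1.imp (fun h => by have h' := hθ ⟨_, hB'P ha₁⟩; rwa [h] at h')
        (fun h => by have h' := hθ ⟨_, hB'P ha₁⟩; rwa [h] at h')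
    have htr := trace_rot (hψN _ (hB'P ha₁)) hm1
    rw [map_mul, map_mul, map_inv, Units.val_mul, Units.val_mul, Matrix.trace_units_conj, ht5] at htr
    have h6 : ((6 : ℕ) : L) = 0 := by push_cast; linear_combination htr
    rw [CharP.cast_eq_zero_iff L 5] at h6
    omega
  · -- order twenty-seven
    have hB9 : Nat.card B = 9 ∧ Nat.card Z = 3 := by
      have h1 : Nat.card B * B.relIndex P = 27 := by rw [← hPB, h27]
      rw [hBcard] at h1 ⊢
      have h2 : Nat.card Z * B'.relIndex B * B.relIndex P = 27 := h1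
      constructor <;> nlinarith
    obtain ⟨hB9, hZ3⟩ := hB9
    have hB'9 : Nat.card B' = 9 := by rw [hB'def, Subgroup.card_map_of_injective (MulAut.conj g).injective, hB9]
    have hcover : ∀ q ∈ P, ∃ s ∈ B, ∃ s' ∈ B', q = s * s' := by
      intro q hq
      let f : B.subgroupOf P →* P := Subgroup.subtype _
      have hkey : ∀ k : ℕ, θ ⟨x', hB'P hx'B'⟩ ^ k = θ ⟨q, hq⟩ → ∃ s ∈ B, ∃ s' ∈ B', q = s * s' := by
        intro k hk
        refine ⟨q * (x' ^ k)⁻¹, ?_, x' ^ k, pow_mem hx'B' k, by group⟩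
        refine (hBker (⟨q, hq⟩ * (⟨x', hB'P hx'B'⟩ ^ k)⁻¹)).1 ?_
        rw [map_mul, map_inv, map_pow, hk, mul_inv_cancel]
      obtain ⟨hr1, hr2, hr3⟩ := g2Rot_eq
      rcases hθcases ⟨q, hq⟩ with h | h | h
      · exact hkey 0 (by rw [h, pow_zero])
      · rcases hx'θ with h' | h'
        · exact hkey 1 (by rw [h, h', pow_one])
        · exact hkey 2 (by rw [h, h', pow_two, hr3])
      · rcases hx'θ with h' | h'
        · exact hkey 2 (by rw [h, h', pow_two, hr1])
        · exact hkey 1 (by rw [h, h', pow_one])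
    have hZcent : ∀ z ∈ Z, ∀ q ∈ P, z * q = q * z := by
      intro z hz q hq
      obtain ⟨s, hs, s', hs', rfl⟩ := hcover q hq
      rw [← mul_assoc, hBab z hz.1 s hs, mul_assoc, hB'ab z hz.2 s' hs', mul_assoc]
    set ZP := Z.subgroupOf P
    have hZPn : ZP.Normal := ⟨fun z hz x => by
      rw [Subgroup.mem_subgroupOf] at hz ⊢
      push_cast
      rw [← hZcent _ hz _ x.2, mul_inv_cancel_right]
      exact hz⟩
    have hZ27 : Nat.card (P ⧸ ZP) = 9 := by
      have h1 := Subgroup.card_eq_card_quotient_mul_card_subgroup ZP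
      rw [h27, Nat.card_congr (Subgroup.subgroupOfEquivOfLe (inf_le_left.trans inf_le_left : Z ≤ P)).toEquiv, hZ3] at h1
      omega
    have hcomm : ∀ x ∈ P, ∀ z ∈ P, x * z * x⁻¹ * z⁻¹ ∈ Z := by
      intro x hx z hz
      have h := IsPGroup.commutative_of_card_eq_prime_sq (p := 3) (G := P ⧸ ZP) hZ27
        (QuotientGroup.mk ⟨x, hx⟩) (QuotientGroup.mk ⟨z, hz⟩)
      rw [← mul_inv_eq_one, mul_inv_rev, ← mul_assoc, ← QuotientGroup.mk_mul, ← QuotientGroup.mk_inv,
        ← QuotientGroup.mk_mul, ← QuotientGroup.mk_inv, ← QuotientGroup.mk_mul, QuotientGroup.eq_one_iff,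
        Subgroup.mem_subgroupOf] at h
      exact h
    have hz3 : ∀ z ∈ Z, z ^ 3 = 1 := fun z hz => by
      have : (⟨z, hz⟩ : Z) ^ 3 = 1 := by rw [← hZ3]; exact pow_card_eq_one'
      exact congrArg Subtype.val this
    obtain ⟨nH, hnH, hnHw⟩ : ∃ x ∈ P, C.Moves (ψ x) g2Rot := by
      rcases hx'θ with h | h
      · exact ⟨x', hB'P hx'B', h ▸ hθ ⟨x', hB'P hx'B'⟩⟩
      · refine ⟨x' * x', mul_mem (hB'P hx'B') (hB'P hx'B'), ?_⟩
        have h2 := ChevCore.Moves.mul C (hθ ⟨x', hB'P hx'B'⟩) (hθ ⟨x', hB'P hx'B'⟩)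
        rw [h, g2Rot_eq.2.2] at h2
        rw [map_mul]; exact h2
    have hB3 : ∀ t ∈ B, t ^ 3 = 1 := by
      intro t ht
      have hd := hcomm nH hnH t ht.1
      set d := nH * t * nH⁻¹ * t⁻¹ with hddef
      have e1 : nH * t * nH⁻¹ = d * t := by rw [hddef]; group
      have e2 : nH * (nH * t * nH⁻¹) * nH⁻¹ = d * (d * t) := by
        rw [e1, show nH * (d * t) * nH⁻¹ = (nH * d) * t * nH⁻¹ by group, ← hZcent d hd nH hnH,
          show d * nH * t * nH⁻¹ = d * (nH * t * nH⁻¹) by group, e1]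
      have h := rot_norm (hψN nH hnH) hnHw ht.2
      rw [← map_inv, ← map_mul, ← map_mul, ← map_mul, ← map_mul, ← map_mul, ← map_mul] at h
      have h' := (map_eq_one_iff ψ hψi).1 h
      rw [e2, e1] at h'
      have hdt : d * t = t * d := hZcent d hd t ht.1
      have : t ^ 3 * d ^ 3 = 1 := by
        rw [← h']
        have c1 : ∀ z, t * (d * z) = d * (t * z) := fun z => by rw [← mul_assoc, ← hdt, mul_assoc]
        simp only [pow_succ, pow_zero, one_mul, mul_assoc, c1, ← hdt]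
      rwa [hz3 d hd, mul_one] at this
    have hexp : ∀ q ∈ P, q ^ 3 = 1 := by
      intro q hq
      obtain ⟨s, hs, s', hs', rfl⟩ := hcover q hq
      have hs'3 : s' ^ 3 = 1 := by
        obtain ⟨t, ht, rfl⟩ := hs'
        rw [← map_pow, hB3 t ht, map_one]
      have hd := hcomm s' (hB'P hs') s hs.1
      set d := s' * s * s'⁻¹ * s⁻¹ with hddef
      have e1 : s' * s = d * s * s' := by rw [hddef]; group
      have cs : Commute d s := hZcent d hd s hs.1
      have cs' : Commute d s' := hZcent d hd s' (hB'P hs')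
      have r1 : ∀ z, s * (d * z) = d * (s * z) := fun z => by rw [← mul_assoc, ← cs.eq, mul_assoc]
      have r2 : ∀ z, s' * (d * z) = d * (s' * z) := fun z => by rw [← mul_assoc, ← cs'.eq, mul_assoc]
      calc (s * s') ^ 3 = s * (s' * s) * (s' * s) * s' := by simp [pow_succ, mul_assoc]
        _ = s * (d * s * s') * (d * s * s') * s' := by rw [e1]
        _ = d * d * (s * s * (s' * s) * s' * s') := by simp only [mul_assoc, r1, r2]
        _ = d * d * (s * s * (d * s * s') * s' * s') := by rw [e1]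
        _ = d * d * d * (s * s * s * s' * s' * s') := by simp only [mul_assoc, r1, r2]
        _ = d ^ 3 * (s ^ 3 * s' ^ 3) := by simp [pow_succ, mul_assoc]
        _ = 1 := by rw [hz3 d hd, hB3 s hs, hs'3]; simp
    -- the line of `b`
    set Q : Subgroup H := P ⊓ (Subgroup.zpowers b).comap π
    have hker : Nat.card (P ⊓ π.ker : Subgroup H) = 3 := by
      have h1 := Subgroup.card_mul_index (π.ker.subgroupOf P)
      rw [← Subgroup.relIndex, Subgroup.relIndex_ker, hPV, hVcard, h27,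
        ← Subgroup.card_map_of_injective (f := P.subtype) P.subtype_injective, Subgroup.subgroupOf_map_subtype, inf_comm] at h1
      omega
    have hQb : Q.map π = Subgroup.zpowers b := by
      refine le_antisymm (by rintro _ ⟨x, hx, rfl⟩; exact hx.2) (Subgroup.zpowers_le.2 ?_)
      obtain ⟨x, hx, hxb⟩ : b ∈ P.map π := hPV ▸ hbV
      exact ⟨x, ⟨hx, by show π x ∈ Subgroup.zpowers b; rw [hxb]; exact Subgroup.mem_zpowers b⟩, hxb⟩
    have hQ9 : Nat.card Q = 9 := by
      have h1 := Subgroup.card_mul_index (π.ker.subgroupOf Q)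
      rw [← Subgroup.relIndex, Subgroup.relIndex_ker, hQb, Nat.card_zpowers, hob,
        ← Subgroup.card_map_of_injective (f := Q.subtype) Q.subtype_injective, Subgroup.subgroupOf_map_subtype] at h1
      have e : π.ker ⊓ Q = P ⊓ π.ker := by
        ext x
        simp only [Q, Subgroup.mem_inf, Subgroup.mem_comap, MonoidHom.mem_ker]
        exact ⟨fun h => ⟨h.2.1, h.1⟩, fun h => ⟨h.2, h.1, by rw [h.2]; exact one_mem _⟩⟩
      rw [e, hker] at h1
      omega
    have hQd : ¬ 3 ∣ Q.relIndex ((Subgroup.zpowers b).comap π) := by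
      have hQle : Q ≤ (Subgroup.zpowers b).comap π := inf_le_right
      have e1 := Subgroup.relIndex_mul_relIndex _ _ M hQle
        (Subgroup.comap_mono (Subgroup.zpowers_le.2 hbV))
      have e2 := Subgroup.relIndex_mul_relIndex Q P M inf_le_left hPM
      have e3 : ((Subgroup.zpowers b).comap π).relIndex M = 3 := by
        rw [hMdef, Subgroup.relIndex_comap, Subgroup.map_comap_eq_self_of_surjective hπ, Subgroup.relIndex]
        have h1 := Subgroup.card_mul_index ((Subgroup.zpowers b).subgroupOf V)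
        rw [Nat.card_congr (Subgroup.subgroupOfEquivOfLe (Subgroup.zpowers_le.2 hbV)).toEquiv, Nat.card_zpowers,
          hob, hVcard] at h1
        omega
      have e4 : Q.relIndex P = 3 := by
        have h1 := Subgroup.card_mul_index (Q.subgroupOf P)
        rw [Nat.card_congr (Subgroup.subgroupOfEquivOfLe (inf_le_left : Q ≤ P)).toEquiv, hQ9, h27] at h1
        rw [Subgroup.relIndex]; omega
      rw [e3, ← e2, e4] at e1
      have : Q.relIndex ((Subgroup.zpowers b).comap π) = P.relIndex M := by omega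
      rwa [this]
    obtain ⟨gu, ku, mu, hgu, hmu, hπu, hcu⟩ := exists_five_lift π hπ hb hu hu1 hbu (fun q hq => (Subgroup.mem_inf.1 hq).2) (by rw [hQ9]; norm_num) hQd
    obtain ⟨gv, kv, mv, -, hmv, hπv, hcv⟩ := exists_five_lift π hπ hb hv hv1 hbv (fun q hq => (Subgroup.mem_inf.1 hq).2) (by rw [hQ9]; norm_num) hQd
    have hune : Subgroup.zpowers (ψ gu) ≠ ⊥ := by
      rw [Ne, Subgroup.zpowers_eq_bot, map_eq_one_iff ψ hψi]
      intro e
      rw [e, map_one] at hπu
      exact hmu (orderOf_eq_prime hu hu1 ▸ orderOf_dvd_of_pow_eq_one hπu.symm)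
    obtain ⟨c₂, hc₂, hc₂T⟩ := exists_conj_diag L 5 (by norm_num) hq (Q := Q.map ψ) (U := Subgroup.zpowers (ψ gu))
      (by rintro _ ⟨x, -, rfl⟩; exact hψG x) ((hP.to_le inf_le_left).map ψ)
      (Subgroup.zpowers_le.2 (hψG gu))
      (by
        refine IsPGroup.of_card_dvd_pow (n := ku) ?_
        rw [Nat.card_zpowers]
        exact orderOf_dvd_of_pow_eq_one (by rw [← map_pow, hgu, map_one]))
      hune (by
        rintro _ ⟨q, hq, rfl⟩ _ ⟨i, rfl⟩
        refine (Commute.zpow_right ?_ i).eq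
        show ψ q * ψ gu = ψ gu * ψ q
        rw [← map_mul, ← map_mul, hcu q hq])
    let φ : H →* GL chevG2.Idx L := (MulAut.conj c₂).toMonoidHom.comp ψ
    have hφi : Function.Injective φ := (MulAut.conj c₂).injective.comp hψi
    have hφG : ∀ x, φ x ∈ chevG2.group L := fun x => mul_mem (mul_mem hc₂ (hψG x)) (inv_mem hc₂)
    have hA2 : Q.map φ ≤ chevG2.diagonalSubgroup L := by
      rintro _ ⟨q, hq, rfl⟩; exact hc₂T _ ⟨q, hq, rfl⟩
    have hcent : ∀ x : H, (∀ q ∈ Q, x * q = q * x) → φ x ∈ chevG2.diagonalSubgroup L := fun x hx =>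
      centralizer_three hA2 (by rw [Subgroup.card_map_of_injective hφi, hQ9])
        (by rintro _ ⟨q, hq, rfl⟩; rw [← map_pow, hexp q hq.1, map_one]) (hφG x)
        (by rintro _ ⟨q, hq, rfl⟩; rw [← map_mul, ← map_mul, hx q hq])
    have h1 := diagonal_comm C _ (hcent gu hcu) _ (hcent gv hcv)
    rw [← map_mul, ← map_mul] at h1
    have h2 := congrArg π (hφi h1)
    rw [map_mul, map_mul, hπu, hπv] at h2
    refine huv ⟨mu % 5, Nat.mod_lt _ (by norm_num)⟩ ⟨mv % 5, Nat.mod_lt _ (by norm_num)⟩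
      (fun e => hmu (Nat.dvd_of_mod_eq_zero (congrArg Fin.val e)))
      (fun e => hmv (Nat.dvd_of_mod_eq_zero (congrArg Fin.val e))) ?_
    rw [← pow_eq_pow_mod mu hu, ← pow_eq_pow_mod mv hv]
    exact h2

end CfsgLib.AltExceptional
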