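import Cfsg.Agent.Lib.AltExceptional.D4Elt
import Cfsg.Agent.Lib.AltExceptional.D4Sylow
import Cfsg.Agent.Lib.AltExceptional.G2Three

/-!
An elementary abelian section of order nine of ³D₄(q) in characteristic 5, acted on fixed-point-freely
by an element of order four, cannot have one line commuting with elements of order five whose
commutator gives the other line.
-/

set_option autoImplicit false

namespace CfsgLib.AltExceptional

open Cfsg.Lie CfsgLib.ChevStr CfsgLib.Twisted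
open scoped MatrixGroups commutatorElement

theorem exists_mul_two (m : ℕ) (hm : ¬ 5 ∣ m) : ∃ k : ℕ, (m * k) % 5 = 2 := by
  have h : ∀ r : Fin 5, r ≠ 0 → ∃ k : Fin 5, (r.val * k.val) % 5 = 2 := by decide
  obtain ⟨k, hk⟩ := h ⟨m % 5, Nat.mod_lt _ (by norm_num)⟩
    (fun e => hm (Nat.dvd_of_mod_eq_zero (congrArg Fin.val e)))
  exact ⟨k.val, by rw [Nat.mul_mod, Nat.mod_eq_of_lt k.isLt]; exact hk⟩

variable {K : Type*} [Field K] [Fintype K] {p n : ℕ} [ExpChar K p]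
  (hn : Fintype.card K = (p ^ n) * (p ^ n) * (p ^ n)) (hq : 2 ≤ p ^ n)

set_option maxHeartbeats 2000000 in
include hn hq in
/-- The local obstruction in characteristic 5. -/
theorem d4_no_nine_section [CharP K 5] (h3q : 3 ∣ p ^ n - 1) {A : Type*} [Group A] [Finite A]
    (H : Subgroup (twistedD4 K (p ^ n))) (π : H →* A) (hπ : Function.Surjective π)
    {a b y u v : A} (hab : Commute a b) (ha : a ^ 3 = 1) (hb : b ^ 3 = 1) (hb1 : b ≠ 1)
    (hnb : a ∉ Subgroup.zpowers b) (hya : y * a * y⁻¹ = b) (hyb : y * b * y⁻¹ = a⁻¹)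
    (hu : u ^ 5 = 1) (hu1 : u ≠ 1) (hv : v ^ 5 = 1) (hv1 : v ≠ 1) (hbu : Commute b u) (hbv : Commute b v)
    (huv : ⁅u ^ 2, v ^ 2⁆ = a) : False := by
  classical
  have : Fact (Nat.Prime 3) := ⟨by norm_num⟩
  have : Fact (Nat.Prime 5) := ⟨by norm_num⟩
  set C := coreD4 K
  have gen := gensD4 K hn hq
  -- the section `V`
  let V : Subgroup A :=
    { carrier := {x | ∃ i j : ℤ, x = a ^ i * b ^ j}
      one_mem' := ⟨0, 0, by simp⟩
      mul_mem' := by
        rintro _ _ ⟨i, j, rfl⟩ ⟨i', j', rfl⟩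
        refine ⟨i + i', j + j', ?_⟩
        rw [zpow_add, zpow_add, mul_assoc, ← mul_assoc (b ^ j), (hab.symm.zpow_zpow j i').eq]
        group
      inv_mem' := by
        rintro _ ⟨i, j, rfl⟩
        refine ⟨-i, -j, ?_⟩
        rw [mul_inv_rev, zpow_neg, zpow_neg, ((hab.symm.zpow_zpow j i).inv_inv).eq] }
  have haV : a ∈ V := ⟨1, 0, by simp⟩
  have hbV : b ∈ V := ⟨0, 1, by simp⟩
  have hVc : ∀ x ∈ V, ∀ z ∈ V, x * z = z * x := by
    rintro _ ⟨i, j, rfl⟩ _ ⟨i', j', rfl⟩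
    exact (((Commute.zpow_zpow_self a i i').mul_right (hab.zpow_zpow i j')).mul_left
      ((hab.symm.zpow_zpow j i').mul_right (Commute.zpow_zpow_self b j j'))).eq
  have hyV : ∀ x ∈ V, y * x * y⁻¹ ∈ V := by
    rintro _ ⟨i, j, rfl⟩
    refine ⟨-j, i, ?_⟩
    rw [show y * (a ^ i * b ^ j) * y⁻¹ = (y * a ^ i * y⁻¹) * (y * b ^ j * y⁻¹) by group, ← conj_zpow,
      ← conj_zpow, hya, hyb, inv_zpow, ← zpow_neg, (hab.symm.zpow_zpow i (-j)).eq]
  have hred : ∀ {c : A}, c ^ 3 = 1 → ∀ i : ℤ, ∃ k : Fin 3, c ^ i = c ^ k.val := fun {c} hc i => by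
    refine ⟨⟨(i % 3).toNat, by omega⟩, ?_⟩
    show c ^ i = c ^ (i % 3).toNat
    rw [← zpow_natCast, Int.toNat_of_nonneg (Int.emod_nonneg _ (by norm_num))]
    conv_lhs => rw [← Int.emod_add_mul_ediv i 3, zpow_add, zpow_mul,
      show c ^ (3 : ℤ) = 1 by exact_mod_cast hc, one_zpow, mul_one]
  have hob : orderOf b = 3 := orderOf_eq_prime hb hb1
  have ha1 : a ≠ 1 := fun e => hnb (e ▸ one_mem _)
  have hoa : orderOf a = 3 := orderOf_eq_prime ha ha1
  have hVcard : Nat.card V = 9 := by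
    refine (Nat.card_eq_of_bijective (fun k : Fin 3 × Fin 3 =>
      (⟨a ^ k.1.val * b ^ k.2.val, k.1.val, k.2.val, by simp⟩ : V)) ⟨?_, ?_⟩).symm.trans (by simp)
    · rintro ⟨i, j⟩ ⟨i', j'⟩ e
      have e' : a ^ i.val * b ^ j.val = a ^ i'.val * b ^ j'.val := congrArg Subtype.val e
      have e2 : (a ^ i'.val)⁻¹ * a ^ i.val = b ^ j'.val * (b ^ j.val)⁻¹ := by
        rw [eq_mul_inv_iff_mul_eq, mul_assoc, e', inv_mul_cancel_left]
      have hii : i = i' := by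
        by_contra hne
        refine hnb ?_
        have hm : a ^ ((i.val : ℤ) - i'.val) ∈ Subgroup.zpowers b := by
          rw [sub_eq_neg_add, zpow_add, zpow_neg, zpow_natCast, zpow_natCast, e2]
          exact mul_mem (pow_mem (Subgroup.mem_zpowers b) _) (inv_mem (pow_mem (Subgroup.mem_zpowers b) _))
        have := i.isLt
        have := i'.isLt
        have hne' : i.val ≠ i'.val := fun e => hne (Fin.ext e)
        obtain ⟨x, z, hxz⟩ : IsCoprime ((i.val : ℤ) - i'.val) 3 := by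
          rw [Int.isCoprime_iff_gcd_eq_one]
          interval_cases h : i.val <;> interval_cases h' : i'.val <;> first | omega | decide
        have := zpow_mem hm x
        rw [← zpow_mul, mul_comm, show x * ((i.val : ℤ) - i'.val) = 1 - z * 3 by linarith, zpow_sub, zpow_one,
          mul_comm z, zpow_mul, show a ^ (3 : ℤ) = 1 by exact_mod_cast ha, one_zpow, inv_one, mul_one] at this
        exact this
      subst hii
      have hj : j.val = j'.val := pow_injOn_Iio_orderOf (by rw [hob]; exact j.isLt) (by rw [hob]; exact j'.isLt)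
        (mul_left_cancel e')
      exact Prod.ext rfl (Fin.ext hj)
    · rintro ⟨_, i, j, rfl⟩
      obtain ⟨i', hi⟩ := hred ha i
      obtain ⟨j', hj⟩ := hred hb j
      exact ⟨(i', j'), Subtype.ext (show a ^ i'.val * b ^ j'.val = a ^ i * b ^ j by rw [hi, hj])⟩
  set M := V.comap π with hMdef
  -- lift
  obtain ⟨h₀, hh₀⟩ := hπ y
  obtain ⟨P, hPM, hP, hPd, m, hm, hgP⟩ := frattini_lift 3 M h₀ (fun x hx => by
    show π _ ∈ V
    rw [map_mul, map_mul, map_inv, hh₀]; exact hyV _ hx)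
  set g := m * h₀
  have hgπ : ∀ x ∈ V, π g * x * (π g)⁻¹ = y * x * y⁻¹ := fun x hx => by
    rw [map_mul, hh₀, show π m * y * x * (π m * y)⁻¹ = π m * (y * x * y⁻¹) * (π m)⁻¹ by group,
      hVc _ hm _ (hyV x hx), mul_inv_cancel_right]
  have hMπ : M.map π = V := Subgroup.map_comap_eq_self_of_surjective hπ V
  have hPV : P.map π = V := by
    have hle : P.map π ≤ V := hMπ ▸ Subgroup.map_mono hPM
    refine le_antisymm hle ?_
    have h1 : (P.map π).relIndex V ∣ P.relIndex M := by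
      rw [← hMπ, Subgroup.relIndex_map_map]
      have hker : π.ker ≤ M := fun x hx => show π x ∈ V by rw [MonoidHom.mem_ker.1 hx]; exact one_mem _
      rw [sup_eq_left.2 hker]
      exact Subgroup.relIndex_dvd_of_le_left M le_sup_left
    have h2 : (P.map π).relIndex V ∣ 3 ^ 2 := by
      rw [show (3 : ℕ) ^ 2 = 9 from rfl, ← hVcard]; exact Subgroup.index_dvd_card _
    obtain ⟨j, -, hj⟩ := (Nat.dvd_prime_pow Nat.prime_three).1 h2
    rcases Nat.eq_zero_or_pos j with rfl | hj0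
    · exact Subgroup.relIndex_eq_one.1 (by simpa using hj)
    · exact absurd (dvd_trans (by rw [hj]; exact dvd_pow_self 3 hj0.ne') h1) hPd
  -- into the normaliser of the torus
  let ι : H →* (twistedD4 K (p ^ n)) := H.subtype
  obtain ⟨c₁, hc₁⟩ := exists_conj_le 3 (T := (chevD4.monomialSubgroup K ⊓ (twistedD4 K (p ^ n))).subgroupOf (twistedD4 K (p ^ n)))
    (hP.map ι) (three_not_dvd_index K hn hq h3q)
  let ψ : H →* GL chevD4.Idx K :=
    (twistedD4 K (p ^ n)).subtype.comp ((MulAut.conj c₁).toMonoidHom.comp ι)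
  have hψG : ∀ x, ψ x ∈ (twistedD4 K (p ^ n)) := fun x => SetLike.coe_mem _
  have hψi : Function.Injective ψ :=
    (twistedD4 K (p ^ n)).subtype_injective.comp ((MulAut.conj c₁).injective.comp H.subtype_injective)
  have hψN : ∀ x ∈ P, ψ x ∈ chevD4.monomialSubgroup K := fun x hx => (hc₁ (ι x) ⟨x, hx, rfl⟩).1
  let θ : P →* Equiv.Perm (Fin chevD4.nroots) :=
    C.rootAction.comp ((ψ.comp P.subtype).codRestrict _ fun x => hψN x x.2)
  have hθ : ∀ x : P, C.Moves (ψ x) (θ x) := fun x => C.moves_permOf _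
  have hθcases : ∀ x : P, θ x = 1 ∨ θ x = d4Rot ∨ θ x = d4Rot2 := fun x => by
    obtain ⟨k, hk⟩ := hP x
    exact weylD4_three (rootAction_mem_weyl C _)
      ((frobD4 K p n).commute_of_fixed (hψN x x.2) (hθ x) (gen.le_fixed (hψG x)).2)
      (k := k) (by rw [← map_pow, hk, map_one])
  obtain ⟨hr1, hr2, hr3, -⟩ := d4Rot_eq
  set B : Subgroup H := P ⊓ (chevD4.diagonalSubgroup K).comap ψ with hBdef
  have hBker : ∀ x : P, θ x = 1 ↔ (x : H) ∈ B := fun x => by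
    refine ⟨fun h => ⟨x.2, C.mem_diagonal_of_moves_one (hψN x x.2) (h ▸ hθ x)⟩, fun h => ?_⟩
    have h' : ψ x ∈ C.R.torus.range := C.diagonalSubgroup_eq ▸ (h.2 : ψ x ∈ chevD4.diagonalSubgroup K)
    obtain ⟨c, hc⟩ := h'
    refine C.rootAction_eq ?_
    show C.Moves (ψ x) 1
    rw [← hc]
    exact C.moves_torus c
  have hrot : ∀ (x : H) (hx : x ∈ P), x ∉ B →
      ∃ x₂ ∈ P, x₂ ∉ B ∧ C.Moves (ψ x₂) d4Rot ∧ ∀ z, Commute x z → Commute x₂ z := by
    intro x hx hxB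
    rcases hθcases ⟨x, hx⟩ with h | h | h
    · exact absurd ((hBker ⟨x, hx⟩).1 h) hxB
    · exact ⟨x, hx, hxB, h ▸ hθ ⟨x, hx⟩, fun z hz => hz⟩
    · refine ⟨x * x, mul_mem hx hx, fun hB => ?_, ?_, fun z hz => hz.mul_left hz⟩
      · have h2 := (hBker ⟨x * x, mul_mem hx hx⟩).2 hB
        rw [show (⟨x * x, mul_mem hx hx⟩ : P) = ⟨x, hx⟩ * ⟨x, hx⟩ from rfl, map_mul, h, hr3] at h2
        exact d4Rot_eq.2.2.2 h2
      · have h2 := ChevCore.Moves.mul C (hθ ⟨x, hx⟩) (hθ ⟨x, hx⟩)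
        rw [h, hr3] at h2
        rwa [map_mul]
  have hBi : B.relIndex P ≤ 3 := by
    have hker : θ.ker = B.subgroupOf P := by
      ext x; rw [MonoidHom.mem_ker, Subgroup.mem_subgroupOf, hBker]
    rw [Subgroup.relIndex, ← hker, Subgroup.index_ker]
    have hfin : Nat.card ({1, d4Rot, d4Rot2} : Finset (Equiv.Perm (Fin chevD4.nroots))) ≤ 3 := by
      rw [Nat.card_eq_fintype_card, Fintype.card_coe]
      exact Finset.card_le_three
    refine le_trans (Nat.card_le_card_of_injective (fun z : θ.range => (⟨z.1, ?_⟩ :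
      ({1, d4Rot, d4Rot2} : Finset (Equiv.Perm (Fin chevD4.nroots))))) ?_) hfin
    · obtain ⟨x, hx⟩ := z.2
      simp only [Finset.mem_insert, Finset.mem_singleton]
      rw [← hx]; exact hθcases x
    · exact fun z z' e => Subtype.ext (congrArg (fun q : ({1, d4Rot, d4Rot2} : Finset _) => q.1) e)
  have hBab : ∀ x ∈ B, ∀ z ∈ B, x * z = z * x := fun x hx z hz =>
    hψi (by rw [map_mul, map_mul]; exact diagonal_comm C _ hx.2 _ hz.2)
  -- conjugation by `g` on `P`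
  let γ : H →* H := (MulAut.conj g).toMonoidHom
  have hγP : P.map γ = P := by
    refine Subgroup.eq_of_le_of_card_ge (by rintro _ ⟨x, hx, rfl⟩; exact hgP x hx) ?_
    rw [Subgroup.card_map_of_injective (MulAut.conj g).injective]
  -- no subgroup over `a` stable under `g` is carried into the torus
  have hno : ∀ X : Subgroup H, X.map γ ≤ X → (∃ x₀ ∈ X, π x₀ = a) → ∀ c ∈ (twistedD4 K (p ^ n)),
      (∀ x ∈ X, c * ψ x * c⁻¹ ∈ chevD4.diagonalSubgroup K) → False := by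
    intro X hXg ⟨x₀, hx₀, hπx₀⟩ c hc hXT
    let ψ' : H →* (twistedD4 K (p ^ n)) := (MulAut.conj ((⟨c, hc⟩ : (twistedD4 K (p ^ n))) * c₁)).toMonoidHom.comp ι
    have e0 : ∀ x, (ψ' x : GL chevD4.Idx K) = c * ψ x * c⁻¹ := fun x => by
      simp [ψ', ψ, mul_assoc]
    have h6 := (controlledD4 K hn hq).pow_centralizes (P := X.map ψ') (by
        rintro _ ⟨z, hz, rfl⟩
        exact ⟨by rw [Subgroup.coe_subtype, e0]; exact hXT z hz, (ψ' z).2⟩)
      (g := ψ' g) (by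
        rintro _ ⟨z, hz, rfl⟩
        exact ⟨γ z, hXg ⟨z, hz, rfl⟩, by simp [γ, map_mul]⟩) _ ⟨x₀, hx₀, rfl⟩
    rw [← map_pow, ← map_mul, ← map_mul] at h6
    have hinj : Function.Injective ψ' := (MulAut.conj _).injective.comp H.subtype_injective
    have h6' : π (g ^ 6 * x₀) = π (x₀ * g ^ 6) := congrArg π (hinj h6)
    rw [map_mul, map_mul, map_pow, hπx₀] at h6'
    have c2 : ∀ x ∈ V, π g ^ 2 * x * (π g ^ 2)⁻¹ = y * (y * x * y⁻¹) * y⁻¹ := fun x hx => by
      rw [pow_two, show π g * π g * x * (π g * π g)⁻¹ = π g * (π g * x * (π g)⁻¹) * (π g)⁻¹ by group, hgπ x hx,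
        hgπ _ (hyV x hx)]
    have c2a : π g ^ 2 * a * (π g ^ 2)⁻¹ = a⁻¹ := by rw [c2 a haV, hya, hyb]
    have c6 : π g ^ 6 * a * (π g ^ 6)⁻¹ = a⁻¹ := by
      have e1 : π g ^ 2 * a⁻¹ * (π g ^ 2)⁻¹ = a := by rw [← conj_inv, c2a, inv_inv]
      rw [show π g ^ 6 * a * (π g ^ 6)⁻¹ = π g ^ 2 * (π g ^ 2 * (π g ^ 2 * a * (π g ^ 2)⁻¹) * (π g ^ 2)⁻¹) * (π g ^ 2)⁻¹
        by group, c2a, e1, c2a]
    rw [h6', mul_inv_cancel_right] at c6
    have : a ^ 2 = 1 := by rw [pow_two]; exact mul_eq_one_iff_eq_inv.2 c6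
    exact ha1 (by have h3 := ha; rw [pow_succ, this, one_mul] at h3; exact h3)
  set B' := B.map γ with hB'def
  have hB'P : B' ≤ P := hγP ▸ Subgroup.map_mono inf_le_left
  -- `B'` differs from `B`
  have hne : B' ≠ B := by
    intro e
    have hinv : ∀ x ∈ B.map π, y * x * y⁻¹ ∈ B.map π := by
      rintro _ ⟨x, hx, rfl⟩
      have hxV : π x ∈ V := hPM hx.1
      refine ⟨γ x, e ▸ ⟨x, hx, rfl⟩, ?_⟩
      show π (g * x * g⁻¹) = _
      rw [map_mul, map_mul, map_inv, hgπ _ hxV]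
    have hnb' : B.map π ≠ ⊥ := by
      intro hbot
      have h1 : B ≤ π.ker := fun x hx => by
        have : π x ∈ B.map π := ⟨x, hx, rfl⟩
        rwa [hbot, Subgroup.mem_bot] at this
      have h2 := Subgroup.relIndex_dvd_of_le_left P h1
      rw [Subgroup.relIndex_ker, hPV, hVcard] at h2
      have h3 : B.relIndex P ≠ 0 := Subgroup.index_ne_zero_of_finite
      have := Nat.le_of_dvd (Nat.pos_of_ne_zero h3) h2
      omega
    obtain ⟨x, hx, hx1⟩ := (B.map π).ne_bot_iff_exists_ne_one.1 hnb' |> fun ⟨x, h⟩ => (⟨x.1, x.2, fun e => h (Subtype.ext e)⟩ : ∃ x, x ∈ B.map π ∧ x ≠ 1)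
    obtain ⟨i, j, rfl⟩ : x ∈ V := hPV ▸ Subgroup.map_mono inf_le_left hx
    obtain ⟨i', hi⟩ := hred ha i
    obtain ⟨j', hj⟩ := hred hb j
    rw [hi, hj] at hx hx1
    have hy := hinv _ hx
    rw [show y * (a ^ i'.val * b ^ j'.val) * y⁻¹ = (y * a * y⁻¹) ^ i'.val * (y * b * y⁻¹) ^ j'.val by
      rw [conj_pow, conj_pow]; group, hya, hyb] at hy
    -- both generators
    have hmem : a ∈ B.map π := by
      have hgen : ∀ k l : ℤ, a ^ (k * i'.val + l * -(j'.val : ℤ)) * b ^ (k * j'.val + l * i'.val) ∈ B.map π := by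
        intro k l
        have := mul_mem (zpow_mem hx k) (zpow_mem hy l)
        rw [(hab.pow_pow _ _).mul_zpow, ((hab.symm.inv_right).pow_pow _ _).mul_zpow, ← zpow_natCast, ← zpow_natCast,
          ← zpow_natCast, ← zpow_natCast, inv_zpow, ← zpow_neg, ← zpow_mul, ← zpow_mul, ← zpow_mul, ← zpow_mul,
          mul_assoc, ← mul_assoc (b ^ _) (b ^ _), ← zpow_add, (hab.symm.zpow_zpow _ _).eq, ← mul_assoc,
          ← zpow_add] at this
        convert this using 3 <;> ring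
      have key : ∀ e f : Fin 3, (e ≠ 0 ∨ f ≠ 0) → ∃ k l : Fin 3,
          ((k.val : ℤ) * e.val + (l.val : ℤ) * -(f.val : ℤ)) % 3 = 1 ∧
            ((k.val : ℤ) * f.val + (l.val : ℤ) * e.val) % 3 = 0 := by decide +kernel
      have hij : i' ≠ 0 ∨ j' ≠ 0 := by
        by_contra h
        push Not at h
        simp [h.1, h.2] at hx1
      obtain ⟨k, l, e1, e2⟩ := key i' j' hij
      have := hgen k.val l.val
      rw [← zpow_mod_orderOf a, ← zpow_mod_orderOf b, hoa, hob] at this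
      push_cast at this
      rw [e1, e2, zpow_one, zpow_zero, mul_one] at this
      exact this
    exact hno B e.le (Subgroup.mem_map.1 hmem) 1 (one_mem _) fun x hx => by
      simpa using (hx.2 : ψ x ∈ chevD4.diagonalSubgroup K)
  -- an element outside `B`
  obtain ⟨x', hx'B', hx'B⟩ : ∃ x ∈ B', x ∉ B := by
    by_contra h
    push Not at h
    exact hne (Subgroup.eq_of_le_of_card_ge h (by
      rw [hB'def, Subgroup.card_map_of_injective (MulAut.conj g).injective]))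
  obtain ⟨r₀, hr₀P, hr₀B, hr₀w, hr₀c⟩ := hrot x' (hB'P hx'B') hx'B
  have hfixle : ∀ Z : Subgroup H, Z ≤ B → (∀ z ∈ Z, Commute r₀ z) → Nat.card Z ≤ 3 := by
    intro Z hZ hc
    rw [← Subgroup.card_map_of_injective hψi]
    refine card_fixed_leD4 hn hq h3q (hψN r₀ hr₀P) hr₀w (Z.map ψ) ((hP.to_le (hZ.trans inf_le_left)).map ψ) ?_ ?_
    · rintro _ ⟨z, hz, rfl⟩
      exact ⟨(hZ hz).2, hψG z⟩
    · rintro _ ⟨z, hz, rfl⟩
      rw [← map_mul, ← map_mul, (hc z hz).eq]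
  have hB'ab : ∀ x ∈ B', ∀ z ∈ B', x * z = z * x := by
    rintro _ ⟨x, hx, rfl⟩ _ ⟨z, hz, rfl⟩
    rw [← map_mul, ← map_mul, hBab x hx z hz]
  set Z : Subgroup H := B ⊓ B'
  have hZcard : Nat.card Z ≤ 3 := hfixle Z inf_le_left fun z hz => hr₀c z (hB'ab _ hx'B' _ hz.2)
  have hBZ : B'.relIndex B ≤ 3 := by
    refine le_trans (Subgroup.relIndex_le_of_le_right inf_le_left Subgroup.index_ne_zero_of_finite) ?_
    rw [hB'def, ← hγP, Subgroup.relIndex_map_map_of_injective _ _ (MulAut.conj g).injective]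
    exact hBi
  have hBcard : Nat.card B = Nat.card Z * B'.relIndex B := by
    rw [← Subgroup.card_mul_index (B'.subgroupOf B), Subgroup.relIndex]
    congr 1
    rw [← Subgroup.card_map_of_injective (f := B.subtype) B.subtype_injective, Subgroup.subgroupOf_map_subtype, inf_comm]
  have hPB : Nat.card P = Nat.card B * B.relIndex P := by
    rw [← Subgroup.card_mul_index (B.subgroupOf P), Subgroup.relIndex,
      Nat.card_congr (Subgroup.subgroupOfEquivOfLe inf_le_left).toEquiv]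
  have hP9 : 9 ∣ Nat.card P := by
    rw [← hVcard, ← hPV]; exact Subgroup.card_map_dvd P π
  have hP27 : Nat.card P ≤ 27 := by
    rw [hPB, hBcard]
    calc Nat.card Z * B'.relIndex B * B.relIndex P ≤ 3 * 3 * 3 := by gcongr
      _ = 27 := rfl
  -- the part of `P` over `⟨b⟩`
  set Mb := (Subgroup.zpowers b).comap π with hMb
  set Q : Subgroup H := P ⊓ Mb with hQdef
  have hMbM : Mb ≤ M := Subgroup.comap_mono (Subgroup.zpowers_le.2 hbV)
  have hbindex : (Subgroup.zpowers b).relIndex V = 3 := by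
    have h1 := Subgroup.card_mul_index ((Subgroup.zpowers b).subgroupOf V)
    rw [Nat.card_congr (Subgroup.subgroupOfEquivOfLe (Subgroup.zpowers_le.2 hbV)).toEquiv, Nat.card_zpowers,
      hob, hVcard] at h1
    rw [Subgroup.relIndex]
    omega
  have hQP : Q.relIndex P = 3 := by
    rw [hQdef, inf_comm, Subgroup.inf_relIndex_right, hMb, Subgroup.relIndex_comap, hPV, hbindex]
  have hQcard : Nat.card Q * 3 = Nat.card P := by
    rw [← hQP, ← Subgroup.card_mul_index (Q.subgroupOf P), Subgroup.relIndex,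
      Nat.card_congr (Subgroup.subgroupOfEquivOfLe (inf_le_left : Q ≤ P)).toEquiv]
  have hQp : IsPGroup 3 Q := hP.to_le inf_le_left
  obtain ⟨kQ, hkQ⟩ := IsPGroup.iff_card.1 hQp
  have hkQ2 : kQ ≤ 2 := by
    by_contra h
    have : 3 ^ 3 ≤ 3 ^ kQ := Nat.pow_le_pow_right (by norm_num) (by omega)
    omega
  have hQ9 : Nat.card Q ∣ 3 ^ 2 := hkQ ▸ pow_dvd_pow 3 hkQ2
  have hQab : ∀ x ∈ Q, ∀ z ∈ Q, x * z = z * x := by
    have : kQ = 1 ∨ kQ = 2 := by
      rcases Nat.eq_zero_or_pos kQ with rfl | h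
      · rw [pow_zero] at hkQ; rw [hkQ] at hQcard; omega
      · omega
    intro x hx z hz
    rcases this with rfl | rfl
    · rw [pow_one] at hkQ
      have := isCyclic_of_prime_card hkQ
      exact congrArg Subtype.val (IsMulCommutative.is_comm.comm (⟨x, hx⟩ : Q) ⟨z, hz⟩)
    · exact congrArg Subtype.val (IsPGroup.commutative_of_card_eq_prime_sq (p := 3) (G := Q) hkQ ⟨x, hx⟩ ⟨z, hz⟩)
  have hQd : ¬ 3 ∣ Q.relIndex Mb := by
    have e1 := Subgroup.relIndex_mul_relIndex Q Mb M inf_le_right hMbM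
    have e2 := Subgroup.relIndex_mul_relIndex Q P M inf_le_left hPM
    have e3 : Mb.relIndex M = 3 := by rw [hMb, Subgroup.relIndex_comap, hMπ, hbindex]
    rw [e3, ← e2, hQP] at e1
    have : Q.relIndex Mb = P.relIndex M := by omega
    rwa [this]
  obtain ⟨gu, ku, mu, -, hmu, hπu, hcu⟩ :=
    exists_five_lift π hπ hb hu hu1 hbu (fun q hq => (Subgroup.mem_inf.1 hq).2) hQ9 hQd
  obtain ⟨gv, kv, mv, -, hmv, hπv, hcv⟩ :=
    exists_five_lift π hπ hb hv hv1 hbv (fun q hq => (Subgroup.mem_inf.1 hq).2) hQ9 hQd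
  set CQ := Subgroup.centralizer (Q : Set H)
  obtain ⟨d₀, hd₀, hπd₀⟩ : ∃ d ∈ ⁅CQ, CQ⁆, π d = a := by
    obtain ⟨i, hi⟩ := exists_mul_two mu hmu
    obtain ⟨j, hj⟩ := exists_mul_two mv hmv
    refine ⟨⁅gu ^ i, gv ^ j⁆, Subgroup.commutator_mem_commutator
      (pow_mem (Subgroup.mem_centralizer_iff.2 fun q hq => (hcu q hq).symm) _)
      (pow_mem (Subgroup.mem_centralizer_iff.2 fun q hq => (hcv q hq).symm) _), ?_⟩
    rw [map_commutatorElement, map_pow, map_pow, hπu, hπv, ← pow_mul, ← pow_mul, pow_eq_pow_mod _ hu,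
      pow_eq_pow_mod (mv * j) hv, hi, hj, huv]
  obtain ⟨kd, md, hmd, hod⟩ := Nat.exists_eq_pow_mul_and_not_dvd (orderOf_pos d₀).ne' 3 (by norm_num)
  set d := d₀ ^ md with hddef
  have hdC : d ∈ ⁅CQ, CQ⁆ := pow_mem hd₀ _
  have hCC : ⁅CQ, CQ⁆ ≤ CQ := Subgroup.commutator_le.2 fun x hx z hz =>
    mul_mem (mul_mem (mul_mem hx hz) (inv_mem hx)) (inv_mem hz)
  have hdp : IsPGroup 3 (Subgroup.zpowers d) := by
    refine IsPGroup.of_card_dvd_pow (n := kd) ?_
    rw [Nat.card_zpowers]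
    exact orderOf_dvd_of_pow_eq_one (by rw [hddef, ← pow_mul, mul_comm, ← hod, pow_orderOf_eq_one])
  have hXp : IsPGroup 3 (Q ⊔ Subgroup.zpowers d : Subgroup H) := by
    refine hQp.to_sup_of_normal_right' hdp fun q hq => Subgroup.mem_normalizer_iff.2 fun z => ?_
    have hqd : Commute q d := Subgroup.mem_centralizer_iff.1 (hCC hdC) q hq
    refine ⟨fun hz => ?_, fun hz => ?_⟩
    · obtain ⟨i, rfl⟩ := hz
      show q * d ^ i * q⁻¹ ∈ Subgroup.zpowers d
      rw [(hqd.zpow_right i).eq, mul_inv_cancel_right]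
      exact zpow_mem (Subgroup.mem_zpowers d) i
    · obtain ⟨i, hi⟩ := hz
      have e : z = q⁻¹ * (d ^ i) * q := by
        rw [show d ^ i = q * z * q⁻¹ from hi]; group
      rw [e, (hqd.inv_left.zpow_right i).eq, mul_assoc, inv_mul_cancel, mul_one]
      exact zpow_mem (Subgroup.mem_zpowers d) i
  have hXM : Q ⊔ Subgroup.zpowers d ≤ M := sup_le (inf_le_left.trans hPM) (Subgroup.zpowers_le.2 (by
    show π d ∈ V
    rw [hddef, map_pow, hπd₀]; exact pow_mem haV _))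
  obtain ⟨m₀, hm₀⟩ := exists_conj_le 3 (P := (Q ⊔ Subgroup.zpowers d).subgroupOf M) (T := P.subgroupOf M)
    hXp.comap_subtype hPd
  have hm₀' : ∀ x ∈ Q ⊔ Subgroup.zpowers d, (m₀ : H) * x * (m₀ : H)⁻¹ ∈ P := fun x hx =>
    hm₀ ⟨x, hXM hx⟩ hx
  have hm₀π : ∀ x ∈ M, π ((m₀ : H) * x * (m₀ : H)⁻¹) = π x := fun x hx => by
    rw [map_mul, map_mul, map_inv, hVc _ m₀.2 _ hx, mul_inv_cancel_right]
  have hQm : Q.map (MulAut.conj (m₀ : H)).toMonoidHom = Q := by
    refine Subgroup.eq_of_le_of_card_ge ?_ (by rw [Subgroup.card_map_of_injective (MulAut.conj _).injective])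
    rintro _ ⟨x, hx, rfl⟩
    refine ⟨hm₀' x (Subgroup.mem_sup_left hx), ?_⟩
    show π ((m₀ : H) * x * (m₀ : H)⁻¹) ∈ Subgroup.zpowers b
    rw [hm₀π x (hPM hx.1)]; exact hx.2
  set d' := (m₀ : H) * d * (m₀ : H)⁻¹
  have hd'P : d' ∈ P := hm₀' d (Subgroup.mem_sup_right (Subgroup.mem_zpowers d))
  have hd'C : d' ∈ ⁅CQ, CQ⁆ := by
    have hmap : CQ.map (MulAut.conj (m₀ : H)).toMonoidHom ≤ CQ := by
      rintro _ ⟨x, hx, rfl⟩
      refine Subgroup.mem_centralizer_iff.2 fun q hq => ?_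
      obtain ⟨q', hq', rfl⟩ := hQm.symm ▸ (hq : q ∈ Q)
      rw [← map_mul, ← map_mul, Subgroup.mem_centralizer_iff.1 hx q' hq']
    have h1 : d' ∈ (⁅CQ, CQ⁆).map (MulAut.conj (m₀ : H)).toMonoidHom := ⟨d, hdC, rfl⟩
    rw [Subgroup.map_commutator] at h1
    exact Subgroup.commutator_mono hmap hmap h1
  have hπd' : π d' = a ^ md := by
    rw [hm₀π d (hXM (Subgroup.mem_sup_right (Subgroup.mem_zpowers d))), hddef, map_pow, hπd₀]
  have hd'Q : d' ∉ Q := by
    intro h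
    have h1 : π d' ∈ Subgroup.zpowers b := h.2
    rw [hπd'] at h1
    have hmd3 : md % 3 = 1 ∨ md % 3 = 2 := by omega
    refine hnb ?_
    rcases hmd3 with h3 | h3 <;> rw [pow_eq_pow_mod md ha, h3] at h1
    · simpa using h1
    · rw [show a = a ^ 2 * a ^ 2 by rw [← pow_add, pow_succ, ha, one_mul]]
      exact mul_mem h1 h1
  have hQd'P : Q ⊔ Subgroup.zpowers d' = P := by
    have hle : Q ⊔ Subgroup.zpowers d' ≤ P := sup_le inf_le_left (Subgroup.zpowers_le.2 hd'P)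
    refine le_antisymm hle (Subgroup.relIndex_eq_one.1 ?_)
    have h1 := Subgroup.relIndex_mul_relIndex Q _ P (le_sup_left (b := Subgroup.zpowers d')) hle
    rw [hQP] at h1
    rcases (Nat.prime_three.eq_one_or_self_of_dvd _ ⟨_, h1.symm⟩) with h | h
    · exact absurd (Subgroup.relIndex_eq_one.1 h (Subgroup.mem_sup_right (Subgroup.mem_zpowers d'))) hd'Q
    · rw [h] at h1; omega
  have hPab : ∀ x ∈ P, ∀ z ∈ P, x * z = z * x := by
    have hd'c : ∀ q ∈ Q, q * d' = d' * q := Subgroup.mem_centralizer_iff.1 (hCC hd'C)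
    have hle : P ≤ Subgroup.centralizer (P : Set H) := by
      have h1 : P ≤ Subgroup.centralizer (Q : Set H) := by
        rw [← hQd'P]
        refine sup_le (fun x hx => Subgroup.mem_centralizer_iff.2 fun q hq => hQab q hq x hx)
          (Subgroup.zpowers_le.2 (Subgroup.mem_centralizer_iff.2 hd'c))
      have h2 : P ≤ Subgroup.centralizer {d'} := by
        rw [← hQd'P]
        refine sup_le (fun x hx => Subgroup.mem_centralizer_singleton_iff.2 (hd'c x hx))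
          (Subgroup.zpowers_le.2 (Subgroup.mem_centralizer_singleton_iff.2 rfl))
      intro x hx
      have h3 : P ≤ Subgroup.centralizer {x} := by
        rw [← hQd'P]
        exact sup_le (fun z hz => Subgroup.mem_centralizer_singleton_iff.2
          (Subgroup.mem_centralizer_iff.1 (h1 hx) z hz))
          (Subgroup.zpowers_le.2 (Subgroup.mem_centralizer_singleton_iff.2
            (Subgroup.mem_centralizer_singleton_iff.1 (h2 hx)).symm))
      exact Subgroup.mem_centralizer_iff.2 fun z hz => Subgroup.mem_centralizer_singleton_iff.1 (h3 hz)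
    exact fun x hx z hz => Subgroup.mem_centralizer_iff.1 (hle hz) x hx
  -- order nine
  have hB3le : Nat.card B ≤ 3 := hfixle B le_rfl fun z hz => hPab _ hr₀P _ hz.1
  have hcards : Nat.card P = 9 ∧ Nat.card B = 3 ∧ Nat.card Q = 3 := by
    have h1 : Nat.card B * B.relIndex P ≤ 3 * 3 := Nat.mul_le_mul hB3le hBi
    have h2 : 0 < Nat.card P := Nat.card_pos
    have h9 : 9 ≤ Nat.card P := Nat.le_of_dvd h2 hP9
    refine ⟨by omega, ?_, by omega⟩
    by_contra hb3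
    have : Nat.card B * B.relIndex P ≤ 2 * 3 := Nat.mul_le_mul (by omega) hBi
    omega
  obtain ⟨hP9', hB3, hQ3⟩ := hcards
  have hπinj : ∀ x ∈ P, ∀ z ∈ P, π x = π z → x = z := by
    intro x hx z hz e
    have h1 : Function.Bijective (π.subgroupMap P) := by
      refine (Nat.bijective_iff_surjective_and_card _).2 ⟨π.subgroupMap_surjective P, ?_⟩
      rw [hPV, hVcard, hP9']
    exact congrArg Subtype.val (h1.1 (a₁ := ⟨x, hx⟩) (a₂ := ⟨z, hz⟩) (Subtype.ext e))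
  have hV3 : ∀ x ∈ V, x ^ 3 = 1 := by
    rintro _ ⟨i, j, rfl⟩
    rw [(hab.zpow_zpow i j).mul_pow, ← zpow_natCast (a ^ i), ← zpow_natCast (b ^ j), ← zpow_mul, ← zpow_mul,
      mul_comm i, mul_comm j, zpow_mul, zpow_mul, zpow_natCast, zpow_natCast, ha, hb, one_zpow, one_zpow, one_mul]
  have hP3 : ∀ x ∈ P, x ^ 3 = 1 := fun x hx => hπinj _ (pow_mem hx 3) _ (one_mem _) (by
    rw [map_pow, map_one, hV3 _ (hPM hx)])
  obtain ⟨z₀, hz₀, hz₀1⟩ : ∃ z₀ ∈ B, z₀ ≠ 1 := by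
    by_contra h
    push Not at h
    rw [(Subgroup.eq_bot_iff_forall B).2 h, Subgroup.card_bot] at hB3
    omega
  have hBz : Subgroup.zpowers z₀ = B := Subgroup.eq_of_le_of_card_ge (Subgroup.zpowers_le.2 hz₀) (by
    rw [Nat.card_zpowers, hB3, orderOf_eq_prime (hP3 z₀ hz₀.1) hz₀1])
  have hzpow : ∀ x ∈ P, ∀ i : ℤ, ∃ k : Fin 3, x ^ i = x ^ k.val := fun x hx i => by
    refine ⟨⟨(i % 3).toNat, by omega⟩, ?_⟩
    show x ^ i = x ^ (i % 3).toNat
    rw [← zpow_natCast, Int.toNat_of_nonneg (Int.emod_nonneg _ (by norm_num))]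
    conv_lhs => rw [← Int.emod_add_mul_ediv i 3, zpow_add, zpow_mul,
      show x ^ (3 : ℤ) = 1 by exact_mod_cast hP3 x hx, one_zpow, mul_one]
  -- coordinates on `P`
  have hsup : B ⊔ Subgroup.zpowers r₀ = P := by
    have hle : B ⊔ Subgroup.zpowers r₀ ≤ P := sup_le inf_le_left (Subgroup.zpowers_le.2 hr₀P)
    refine le_antisymm hle (Subgroup.relIndex_eq_one.1 ?_)
    have h1 := Subgroup.relIndex_mul_relIndex B _ P (le_sup_left (b := Subgroup.zpowers r₀)) hle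
    have hBP3 : B.relIndex P = 3 := by rw [hP9', hB3] at hPB; omega
    rw [hBP3] at h1
    rcases (Nat.prime_three.eq_one_or_self_of_dvd _ ⟨_, h1.symm⟩) with h | h
    · exact absurd (Subgroup.relIndex_eq_one.1 h (Subgroup.mem_sup_right (Subgroup.mem_zpowers r₀))) hr₀B
    · rw [h] at h1; omega
  have hcoord : ∀ x ∈ P, ∃ i j : Fin 3, x = z₀ ^ i.val * r₀ ^ j.val := by
    intro x hx
    have hn0 : Subgroup.zpowers r₀ ≤ Subgroup.normalizer (B : Set H) := fun r hr =>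
      Subgroup.mem_normalizer_iff.2 fun z => by
        have hrP : r ∈ P := (Subgroup.zpowers_le.2 hr₀P) hr
        refine ⟨fun hz => ?_, fun hz => ?_⟩
        · rw [hPab r hrP z hz.1, mul_inv_cancel_right]; exact hz
        · have hzP : z ∈ P := by
            have := mul_mem (mul_mem (inv_mem hrP) hz.1) hrP
            simpa [mul_assoc] using this
          rwa [hPab r hrP z hzP, mul_inv_cancel_right] at hz
    rw [← hsup, sup_comm] at hx
    obtain ⟨r, hr, z, hz, rfl⟩ := (Set.ext_iff.1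
      (Subgroup.coe_mul_of_left_le_normalizer_right _ _ hn0) x).1 hx
    obtain ⟨i, rfl⟩ := hBz.symm ▸ (hz : z ∈ B)
    obtain ⟨j, rfl⟩ := hr
    obtain ⟨i', hi⟩ := hzpow z₀ hz₀.1 i
    obtain ⟨j', hj⟩ := hzpow r₀ hr₀P j
    refine ⟨i', j', ?_⟩
    show r₀ ^ j * z₀ ^ i = _
    rw [hi, hj, hPab _ (pow_mem hr₀P _) _ (pow_mem hz₀.1 _)]
  -- the torus element
  obtain ⟨cz, hcz, hz1, hz0, hz2, hz3⟩ := rot_fixedD4 hn hq h3q (hψN r₀ hr₀P) hr₀w
    (t := ψ z₀) ⟨hz₀.2, hψG z₀⟩ (by rw [← map_mul, ← map_mul, hPab _ hr₀P _ hz₀.1]) (k := 1)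
    (by rw [← map_pow, pow_one, hP3 z₀ hz₀.1, map_one])
  have hczH : C.R.torus cz ∈ chevD4.diagonalSubgroup K ⊓ twistedD4 K (p ^ n) := by
    rw [hcz]; exact ⟨hz₀.2, hψG z₀⟩
  have hzne : d4Chi cz d4i0 ≠ 1 := by
    intro e
    refine hz₀1 (hψi ?_)
    rw [map_one, ← hcz, ← map_one C.R.torus]
    have one_chi : ∀ k : Fin chevD4.rank, d4Chi (1 : Fin chevD4.rank → Kˣ) k = 1 := fun k => by
      simp [d4Chi, RootData.torusChar]
    exact d4_torus_ext (by rw [e, one_chi]) (by rw [hz1, one_chi]) (by rw [hz2, e, one_chi])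
      (by rw [hz3, e, one_chi])
  have hzq : d4Chi cz d4i0 ^ p ^ n = d4Chi cz d4i0 := by
    obtain ⟨i, hi⟩ := h3q
    rw [show p ^ n = 3 * i + 1 by omega, pow_succ, pow_mul, hz0, one_pow, one_mul]
  have hzdeg : D4Deg cz := by
    refine ⟨hz1, ?_⟩
    rw [hz2, hz3, ← hz0, pow_succ, pow_two]
  have hzφ : d4Phi K p n (ψ z₀) = ψ z₀ := by
    rw [← hcz]
    refine d4Phi_fixed p n fun k => ?_
    rcases d4_cases k with rfl | rfl | rfl | rfl
    · exact hzq
    · rw [hz1, one_pow]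
    · rw [hz2]; exact hzq
    · rw [hz3]; exact hzq
  obtain ⟨s, hs, hsx⟩ := exists_twist hn hq (hψN r₀ hr₀P) hr₀w (c := cz) hzq (by rw [hz1, one_pow]) hz2 hz3
  rw [hcz] at hsx
  have hsz : Commute s (ψ z₀) := diagonal_comm C _ hs.1 _ hz₀.2
  have hspow : ∀ e : ℕ, s ^ e * ψ r₀ * (s ^ e)⁻¹ = ψ z₀ ^ e * ψ r₀ := by
    intro e
    induction e with
    | zero => simp
    | succ e ih =>
      rw [pow_succ', show s * s ^ e * ψ r₀ * (s * s ^ e)⁻¹ = s * (s ^ e * ψ r₀ * (s ^ e)⁻¹) * s⁻¹ by group, ih,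
        ← mul_assoc, (hsz.pow_right e).eq, mul_assoc _ s, mul_assoc, hsx, ← mul_assoc, ← pow_succ]
  have hsconj : ∀ (e : ℕ) (i j : ℕ),
      s ^ e * ψ (z₀ ^ i * r₀ ^ j) * (s ^ e)⁻¹ = ψ (z₀ ^ (i + e * j) * r₀ ^ j) := by
    intro e i j
    have hzr : Commute (ψ z₀ ^ e) (ψ r₀) :=
      (show Commute (ψ z₀) (ψ r₀) by
        show ψ z₀ * ψ r₀ = ψ r₀ * ψ z₀
        rw [← map_mul, ← map_mul, hPab _ hz₀.1 _ hr₀P]).pow_left e
    rw [map_mul, map_pow, map_pow, map_mul, map_pow, map_pow,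
      show s ^ e * (ψ z₀ ^ i * ψ r₀ ^ j) * (s ^ e)⁻¹ =
        (s ^ e * ψ z₀ ^ i) * ψ r₀ ^ j * (s ^ e)⁻¹ by group, (hsz.pow_pow e i).eq,
      show ψ z₀ ^ i * s ^ e * ψ r₀ ^ j * (s ^ e)⁻¹ = ψ z₀ ^ i * (s ^ e * ψ r₀ ^ j * (s ^ e)⁻¹) by group,
      ← conj_pow, hspow, hzr.mul_pow, ← pow_mul, ← mul_assoc, ← pow_add]
  -- a conjugation of `b` into the torus
  obtain ⟨q₀, hq₀, hq₀1⟩ : ∃ q ∈ Q, q ≠ 1 := by
    by_contra h
    push Not at h
    rw [(Subgroup.eq_bot_iff_forall Q).2 h, Subgroup.card_bot] at hQ3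
    omega
  obtain ⟨h, hhG, hhP, hhq⟩ : ∃ h ∈ (twistedD4 K (p ^ n)), (∀ x ∈ P, ∃ x' ∈ P, h * ψ x * h⁻¹ = ψ x') ∧
      ∃ i : Fin 3, i ≠ 0 ∧ h * ψ q₀ * h⁻¹ = ψ z₀ ^ i.val := by
    have hpowB : ∀ x ∈ B, x ≠ 1 → ∃ i : Fin 3, i ≠ 0 ∧ x = z₀ ^ i.val := by
      intro x hx hx1
      obtain ⟨i, rfl⟩ := hBz.symm ▸ hx
      obtain ⟨k, hk⟩ := hzpow z₀ hz₀.1 i
      refine ⟨k, fun e => hx1 ?_, hk⟩
      show z₀ ^ i = 1
      rw [hk, e]; rfl
    by_cases hqB : q₀ ∈ B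
    · obtain ⟨i, hi, e⟩ := hpowB q₀ hqB hq₀1
      exact ⟨1, one_mem _, fun x hx => ⟨x, hx, by simp⟩, i, hi, by simp [e]⟩
    have hginv : g⁻¹ * z₀ * g ∈ P := by
      obtain ⟨x, hx, e⟩ := hγP.symm ▸ (hz₀.1 : z₀ ∈ P)
      rw [show z₀ = g * x * g⁻¹ from e.symm]
      simpa [mul_assoc] using hx
    have hginvB : g⁻¹ * z₀ * g ∉ B := fun hB => hne (Subgroup.eq_of_le_of_card_ge (fun x hx => by
        obtain ⟨w, hw, rfl⟩ := hx
        obtain ⟨i, rfl⟩ := hBz.symm ▸ hw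
        obtain ⟨k, hk⟩ := hBz.symm ▸ hB
        show g * z₀ ^ i * g⁻¹ ∈ B
        -- `z₀ = g (g⁻¹ z₀ g) g⁻¹` is a power of its own image
        have hz : z₀ = (g * z₀ * g⁻¹) ^ k := by
          rw [conj_zpow, show z₀ ^ k = g⁻¹ * z₀ * g from hk]; group
        have hk0 : (k : ℤ) % 3 ≠ 0 := by
          intro e
          refine hz₀1 ?_
          have hk' : g⁻¹ * z₀ * g = 1 := by
            rw [← show z₀ ^ k = g⁻¹ * z₀ * g from hk, ← zpow_mod_orderOf, orderOf_eq_prime (hP3 z₀ hz₀.1) hz₀1,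
              show ((3 : ℕ) : ℤ) = 3 from rfl, e, zpow_zero]
          rw [show z₀ = g * (g⁻¹ * z₀ * g) * g⁻¹ by group, hk', mul_one, mul_inv_cancel]
        obtain ⟨l, hl⟩ : ∃ l : ℤ, (k * l) % 3 = 1 := by
          have : k % 3 = 1 ∨ k % 3 = 2 := by omega
          rcases this with h1 | h1
          · exact ⟨1, by omega⟩
          · exact ⟨2, by omega⟩
        have h3g : (g * z₀ * g⁻¹) ^ (3 : ℤ) = 1 := by
          rw [conj_zpow, show z₀ ^ (3 : ℤ) = 1 by exact_mod_cast hP3 z₀ hz₀.1]; group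
        have : g * z₀ * g⁻¹ = z₀ ^ l := by
          conv_rhs => rw [hz, ← zpow_mul, ← Int.emod_add_mul_ediv (k * l) 3, hl, zpow_add, zpow_one, zpow_mul,
            h3g, one_zpow, mul_one]
        rw [← conj_zpow, this]
        exact zpow_mem (zpow_mem hz₀ l) i)
      (by rw [hB'def, Subgroup.card_map_of_injective (MulAut.conj g).injective]))
    obtain ⟨i, j, hij⟩ := hcoord _ hginv
    obtain ⟨k, l, hkl⟩ := hcoord q₀ hq₀.1
    have hj0 : j ≠ 0 := fun e => hginvB (by rw [hij, e]; simpa using pow_mem hz₀ i.val)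
    have hl0 : l ≠ 0 := fun e => hqB (by rw [hkl, e]; simpa using pow_mem hz₀ k.val)
    have key : ∀ i j k l : Fin 3, j ≠ 0 → l ≠ 0 → ∃ e f : Fin 3, f ≠ 0 ∧
        (k.val + e.val * l.val) % 3 = (f.val * i.val) % 3 ∧ l.val % 3 = (f.val * j.val) % 3 := by decide +kernel
    obtain ⟨e, f, hf, e1, e2⟩ := key i j k l hj0 hl0
    refine ⟨ψ g * s ^ e.val, mul_mem (hψG g) (pow_mem hs.2 _), fun x hx => ?_, f, hf, ?_⟩
    · obtain ⟨i', j', rfl⟩ := hcoord x hx
      refine ⟨g * (z₀ ^ (i'.val + e.val * j'.val) * r₀ ^ j'.val) * g⁻¹,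
        hgP _ (mul_mem (pow_mem hz₀.1 _) (pow_mem hr₀P _)), ?_⟩
      rw [map_mul ψ _ g⁻¹, map_mul ψ g, map_inv, ← hsconj e.val i'.val j'.val]
      group
    · rw [hkl, show ψ g * s ^ e.val * ψ (z₀ ^ k.val * r₀ ^ l.val) * (ψ g * s ^ e.val)⁻¹ =
        ψ g * (s ^ e.val * ψ (z₀ ^ k.val * r₀ ^ l.val) * (s ^ e.val)⁻¹) * (ψ g)⁻¹ by group, hsconj]
      have e3 : z₀ ^ (k.val + e.val * l.val) * r₀ ^ l.val = (g⁻¹ * z₀ * g) ^ f.val := by
        rw [hij, (show Commute (z₀ ^ i.val) (r₀ ^ j.val) from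
            hPab _ (pow_mem hz₀.1 _) _ (pow_mem hr₀P _)).mul_pow, ← pow_mul, ← pow_mul,
          pow_eq_pow_mod _ (hP3 z₀ hz₀.1), pow_eq_pow_mod l.val (hP3 r₀ hr₀P), e1, e2,
          ← pow_eq_pow_mod _ (hP3 z₀ hz₀.1), ← pow_eq_pow_mod _ (hP3 r₀ hr₀P), mul_comm f.val, mul_comm f.val]
      rw [e3, ← map_inv, ← map_mul, ← map_mul, ← conj_pow]
      rw [show g * (g⁻¹ * z₀ * g) * g⁻¹ = z₀ by group, map_pow]
  obtain ⟨i₀, hi₀, hhq⟩ := hhq
  have hQz : Subgroup.zpowers q₀ = Q := Subgroup.eq_of_le_of_card_ge (Subgroup.zpowers_le.2 hq₀) (by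
    rw [Nat.card_zpowers, hQ3, orderOf_eq_prime (hP3 q₀ hq₀.1) hq₀1])
  -- every element of `P` is fixed by the field automorphism
  let η : H →* GL chevD4.Idx K := (MulAut.conj h).toMonoidHom.comp ψ
  have hη : ∀ x, η x = h * ψ x * h⁻¹ := fun x => rfl
  have hηφ : ∀ x ∈ P, d4Phi K p n (η x) = η x := by
    have hd'φ : d4Phi K p n (η d') = η d' := by
      refine phi_commutator hn hq hczH hz1 hz0 hzne hz2 hz3 (X := CQ.map η) ?_ ?_ _ ?_
      · rintro _ ⟨x, -, rfl⟩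
        exact mul_mem (mul_mem hhG (hψG x)) (inv_mem hhG)
      · rintro _ ⟨x, hx, rfl⟩
        rw [hcz]
        have h1 : Commute (η x) (ψ z₀ ^ i₀.val) := by
          rw [← hhq]
          show η x * η q₀ = η q₀ * η x
          rw [← map_mul, ← map_mul, Subgroup.mem_centralizer_iff.1 hx q₀ hq₀]
        have h3' : ψ z₀ ^ 3 = 1 := by rw [← map_pow, hP3 z₀ hz₀.1, map_one]
        have hi' : i₀.val = 1 ∨ i₀.val = 2 := by
          have := i₀.isLt
          have : i₀.val ≠ 0 := fun e => hi₀ (Fin.ext e)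
          omega
        rcases hi' with e | e <;> rw [e] at h1
        · rw [pow_one] at h1; exact h1.eq
        · have := h1.mul_right h1
          rw [← pow_add, show 2 + 2 = 3 + 1 from rfl, pow_succ, h3', one_mul] at this
          exact this.eq
      · rw [← Subgroup.map_commutator]
        exact ⟨d', hd'C, rfl⟩
    have hle : P ≤ ((d4Phi K p n).eqLocus (MonoidHom.id _)).comap η := by
      rw [← hQd'P, ← hQz]
      refine sup_le (Subgroup.zpowers_le.2 ?_) (Subgroup.zpowers_le.2 hd'φ)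
      show d4Phi K p n (η q₀) = η q₀
      rw [hη, hhq, map_pow, hzφ]
    exact fun x hx => hle hx
  have hPφ : ∀ x ∈ P, d4Phi K p n (ψ x) = ψ x := by
    have himg : P.map η = P.map ψ := by
      refine Subgroup.eq_of_le_of_card_ge ?_ (by
        rw [Subgroup.card_map_of_injective hψi,
          Subgroup.card_map_of_injective ((MulAut.conj h).injective.comp hψi : Function.Injective η)])
      rintro _ ⟨x, hx, rfl⟩
      obtain ⟨x', hx', e⟩ := hhP x hx
      exact ⟨x', hx', e.symm⟩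
    intro x hx
    obtain ⟨w, hw, e⟩ : ψ x ∈ P.map η := himg ▸ ⟨x, hx, rfl⟩
    rw [← e]; exact hηφ w hw
  -- into the torus
  obtain ⟨ω, hω, hωq⟩ : ∃ ω : K, ω ^ 2 + ω + 1 = 0 ∧ ω ^ p ^ n = ω := by
    refine ⟨(d4Chi cz d4i0 : K), ?_, by rw [← Units.val_pow_eq_pow_val, hzq]⟩
    have h1 : ((d4Chi cz d4i0 : K) - 1) * ((d4Chi cz d4i0 : K) ^ 2 + (d4Chi cz d4i0 : K) + 1) = 0 := by
      have h3 : (d4Chi cz d4i0 : K) ^ 3 = 1 := by rw [← Units.val_pow_eq_pow_val, hz0, Units.val_one]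
      linear_combination h3
    exact (mul_eq_zero.1 h1).resolve_left (sub_ne_zero.2 fun e => hzne (Units.ext e))
  obtain ⟨x₀, g₀, hx₀, hx₀w, hx₀φ, hg₀G, hg₀z, hg₀x⟩ := exists_carry hn hq hω hωq
  obtain ⟨hx₀N, hx₀G⟩ : x₀ ∈ chevD4.monomialSubgroup K ∧ x₀ ∈ twistedD4 K (p ^ n) := Subgroup.mem_inf.1 hx₀
  set t := ψ r₀ * x₀⁻¹ with htdef
  have htH : t ∈ chevD4.diagonalSubgroup K ⊓ twistedD4 K (p ^ n) := by
    refine Subgroup.mem_inf.2 ⟨C.mem_diagonal_of_moves_one (mul_mem (hψN r₀ hr₀P) (inv_mem hx₀N)) ?_,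
      mul_mem (hψG r₀) (inv_mem hx₀G)⟩
    have h1 := ChevCore.Moves.mul C hr₀w (ChevCore.Moves.inv C hx₀N hx₀w)
    rwa [mul_inv_cancel] at h1
  obtain ⟨ct, hct, ht2, ht3, ht1⟩ := exists_torus_H1 hn hq htH
  have htφ : d4Phi K p n t = t := by rw [htdef, map_mul, map_inv, hPφ r₀ hr₀P, hx₀φ]
  have hchi : ∀ k, d4Chi ct k ^ p ^ n = d4Chi ct k := by
    intro k
    rw [← hct, d4Phi_torus] at htφ
    have h1 := congrArg (fun x : GL chevD4.Idx K => (x : Matrix chevD4.Idx chevD4.Idx K)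
      (Sum.inr ⟨_, rootDataD4.simple_lt k⟩) (Sum.inr ⟨_, rootDataD4.simple_lt k⟩)) htφ
    rw [(coreD4 K).R.coe_torus, (coreD4 K).R.coe_torus, Matrix.diagonal_apply_eq, Matrix.diagonal_apply_eq,
      (coreD4 K).R.wt_inr, Units.val_inj] at h1
    rw [← d4Chi_pow]
    exact h1
  have e2' : d4Chi ct d4i2 = d4Chi ct d4i0 := by rw [ht2, hchi]
  have e3' : d4Chi ct d4i3 = d4Chi ct d4i0 := by rw [ht3, hchi, hchi]
  obtain ⟨s', hs', hs'x⟩ := exists_twist hn hq hx₀N hx₀w (c := ct) (hchi _) (hchi _) e2' e3'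
  rw [hct, htdef, inv_mul_cancel_right] at hs'x
  refine hno P (hγP.le) ?_ (g₀ * s'⁻¹) (mul_mem hg₀G (inv_mem hs'.2)) fun x hx => ?_
  · exact Subgroup.mem_map.1 (hPV.symm ▸ haV)
  · have hr : g₀ * s'⁻¹ * ψ r₀ * (g₀ * s'⁻¹)⁻¹ ∈ chevD4.diagonalSubgroup K := by
      rw [show ψ r₀ = s' * x₀ * s'⁻¹ from hs'x.symm]
      simpa [mul_assoc] using hg₀x
    have hz : g₀ * s'⁻¹ * ψ z₀ * (g₀ * s'⁻¹)⁻¹ ∈ chevD4.diagonalSubgroup K := by
      have c1 : Commute s'⁻¹ (ψ z₀) := (show Commute s' (ψ z₀) from diagonal_comm C _ hs'.1 _ hz₀.2).inv_left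
      have c2 : Commute g₀ (ψ z₀) := by rw [← hcz]; exact hg₀z cz hzdeg
      have := (c2.mul_left c1).eq
      rw [this, mul_inv_cancel_right]
      exact hz₀.2
    have hle : P ≤ ((chevD4.diagonalSubgroup K).comap
        ((MulAut.conj (g₀ * s'⁻¹)).toMonoidHom.comp ψ)) := by
      rw [← hsup, ← hBz]
      exact sup_le (Subgroup.zpowers_le.2 hz) (Subgroup.zpowers_le.2 hr)
    exact hle hx

end CfsgLib.AltExceptional
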