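import Cfsg.Agent.Lib.ChevStr.InstanceTables

/-!
The Weyl group of type G2 as a list of twelve tables, its rotation of order three and its
faithfulness modulo 3.
-/

set_option autoImplicit false

namespace CfsgLib.AltExceptional

open Cfsg.Lie CfsgLib.ChevStr

theorem rankG2 : chevG2.rank = 2 := by decide +kernel

/-- The first fundamental index. -/
def g2i : Fin chevG2.rank := ⟨0, by decide +kernel⟩

/-- The second fundamental index. -/
def g2j : Fin chevG2.rank := ⟨1, by decide +kernel⟩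

/-- A permutation of the twelve roots from two tables. -/
def g2Perm (f g : List ℕ) (h : ∀ s : Fin chevG2.nroots, (f.getD s.val 0 < chevG2.nroots ∧ g.getD s.val 0 < chevG2.nroots) ∧
    g.getD (f.getD s.val 0) 0 = s.val ∧ f.getD (g.getD s.val 0) 0 = s.val) :
    Equiv.Perm (Fin chevG2.nroots) where
  toFun s := ⟨f.getD s.val 0, (h s).1.1⟩
  invFun s := ⟨g.getD s.val 0, (h s).1.2⟩
  left_inv s := Fin.ext (h s).2.1
  right_inv s := Fin.ext (h s).2.2

/-- Equality on every root, as a Boolean. -/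
def g2Same (f g : Fin chevG2.nroots → Fin chevG2.nroots) : Bool :=
  (List.finRange chevG2.nroots).all fun s => (f s).val == (g s).val

theorem g2Same_iff {f g : Equiv.Perm (Fin chevG2.nroots)} : g2Same f g = true ↔ f = g := by
  simp [g2Same, Equiv.ext_iff, Fin.val_inj]

/-- The rotation of order three. -/
def g2Rot : Equiv.Perm (Fin chevG2.nroots) := g2Perm [10, 5, 7, 9, 3, 11, 0, 8, 2, 4, 6, 1] [6, 11, 8, 4, 9, 1, 10, 2, 7, 3, 0, 5] (by decide +kernel)

/-- Its square. -/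
def g2Rot2 : Equiv.Perm (Fin chevG2.nroots) := g2Perm [6, 11, 8, 4, 9, 1, 10, 2, 7, 3, 0, 5] [10, 5, 7, 9, 3, 11, 0, 8, 2, 4, 6, 1] (by decide +kernel)

/-- The twelve elements. -/
def g2List : List (Equiv.Perm (Fin chevG2.nroots)) :=
  [g2Perm [0, 1, 2, 3, 4, 5, 6, 7, 8, 9, 10, 11] [0, 1, 2, 3, 4, 5, 6, 7, 8, 9, 10, 11] (by decide +kernel),
    g2Perm [0, 5, 3, 2, 7, 1, 10, 4, 9, 8, 6, 11] [0, 5, 3, 2, 7, 1, 10, 4, 9, 8, 6, 11] (by decide +kernel),
    g2Perm [5, 0, 3, 7, 2, 10, 1, 9, 4, 8, 11, 6] [1, 6, 4, 2, 8, 0, 11, 3, 9, 7, 5, 10] (by decide +kernel),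
    g2Perm [5, 10, 7, 3, 9, 0, 11, 2, 8, 4, 1, 6] [5, 10, 7, 3, 9, 0, 11, 2, 8, 4, 1, 6] (by decide +kernel),
    g2Perm [10, 5, 7, 9, 3, 11, 0, 8, 2, 4, 6, 1] [6, 11, 8, 4, 9, 1, 10, 2, 7, 3, 0, 5] (by decide +kernel),
    g2Perm [10, 11, 9, 7, 8, 5, 6, 3, 4, 2, 0, 1] [10, 11, 9, 7, 8, 5, 6, 3, 4, 2, 0, 1] (by decide +kernel),
    g2Perm [11, 10, 9, 8, 7, 6, 5, 4, 3, 2, 1, 0] [11, 10, 9, 8, 7, 6, 5, 4, 3, 2, 1, 0] (by decide +kernel),
    g2Perm [11, 6, 8, 9, 4, 10, 1, 7, 2, 3, 5, 0] [11, 6, 8, 9, 4, 10, 1, 7, 2, 3, 5, 0] (by decide +kernel),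
    g2Perm [6, 11, 8, 4, 9, 1, 10, 2, 7, 3, 0, 5] [10, 5, 7, 9, 3, 11, 0, 8, 2, 4, 6, 1] (by decide +kernel),
    g2Perm [6, 1, 4, 8, 2, 11, 0, 9, 3, 7, 10, 5] [6, 1, 4, 8, 2, 11, 0, 9, 3, 7, 10, 5] (by decide +kernel),
    g2Perm [1, 6, 4, 2, 8, 0, 11, 3, 9, 7, 5, 10] [5, 0, 3, 7, 2, 10, 1, 9, 4, 8, 11, 6] (by decide +kernel),
    g2Perm [1, 0, 2, 4, 3, 6, 5, 8, 7, 9, 11, 10] [1, 0, 2, 4, 3, 6, 5, 8, 7, 9, 11, 10] (by decide +kernel)]

/-- Congruence to the identity modulo 3. -/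
def g2Cong (f : Fin chevG2.nroots → Fin chevG2.nroots) : Bool :=
  (List.finRange chevG2.rank).all fun i => (List.finRange chevG2.rank).all fun j =>
    (rootDataG2.α (f ⟨chevG2.simple j.val, rootDataG2.simple_lt j⟩) i - (if i = j then 1 else 0)) % 3 == 0

theorem g2_closed : (g2List.any fun u => g2Same id u) = true ∧
    (g2List.all fun v => (List.finRange chevG2.rank).all fun i =>
      g2List.any fun u => g2Same (fun s => v (reflDataG2.sPerm i s)) u) = true := by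
  decide +kernel

theorem g2_table : (g2List.all fun v =>
    g2Same (fun s => v (v (v (v (v (v s)))))) id &&
    (!g2Same (fun s => v (v (v s))) id || g2Same v id || g2Same v g2Rot || g2Same v g2Rot2) &&
    (!g2Cong v || g2Same v id)) = true := by decide +kernel

theorem g2_mem {w : Equiv.Perm (Fin chevG2.nroots)} (hw : w ∈ reflDataG2.weyl) : w ∈ g2List := by
  refine reflDataG2.weyl_induction (P := fun w => w ∈ g2List) ?_ (fun v _ i hv => ?_) w hw
  · obtain ⟨u, hu, h⟩ := List.any_eq_true.1 g2_closed.1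
    rwa [g2Same_iff (f := 1).1 h]
  · have h := List.all_eq_true.1 g2_closed.2 v hv
    obtain ⟨u, hu, h'⟩ := List.any_eq_true.1 (List.all_eq_true.1 h i (List.mem_finRange i))
    rwa [g2Same_iff (f := v * reflDataG2.sPerm i).1 h']

theorem g2_spec {w : Equiv.Perm (Fin chevG2.nroots)} (hw : w ∈ reflDataG2.weyl) :
    w ^ 6 = 1 ∧ (w ^ 3 = 1 → w = 1 ∨ w = g2Rot ∨ w = g2Rot2) ∧
    ((∀ i j : Fin chevG2.rank,
        (rootDataG2.α (w ⟨chevG2.simple j.val, rootDataG2.simple_lt j⟩) i - (if i = j then 1 else 0)) % 3 = 0) →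
      w = 1) := by
  have h := List.all_eq_true.1 g2_table w (g2_mem hw)
  simp only [Bool.and_eq_true, Bool.or_eq_true, Bool.not_eq_true'] at h
  obtain ⟨⟨h6, h3⟩, hc⟩ := h
  refine ⟨?_, fun e => ?_, fun e => ?_⟩
  · rw [← g2Same_iff]; exact h6
  · rcases h3 with ((h | h) | h) | h
    · exact absurd (g2Same_iff.2 e) (by rw [show g2Same (⇑(w ^ 3)) (⇑(1 : Equiv.Perm (Fin chevG2.nroots))) = false from h]; simp)
    · exact Or.inl (g2Same_iff.1 h)
    · exact Or.inr (Or.inl (g2Same_iff.1 h))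
    · exact Or.inr (Or.inr (g2Same_iff.1 h))
  · rcases hc with h | h
    · exfalso
      have : g2Cong w = true := by simp [g2Cong, e]
      simp [this] at h
    · exact g2Same_iff.1 h

theorem weylG2_pow {w : Equiv.Perm (Fin chevG2.nroots)} (hw : w ∈ reflDataG2.weyl) : w ^ 6 = 1 :=
  (g2_spec hw).1

theorem weylG2_three {w : Equiv.Perm (Fin chevG2.nroots)} (hw : w ∈ reflDataG2.weyl) {k : ℕ}
    (h : w ^ 3 ^ k = 1) : w = 1 ∨ w = g2Rot ∨ w = g2Rot2 := by
  refine (g2_spec hw).2.1 (orderOf_dvd_iff_pow_eq_one.1 ?_)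
  obtain ⟨j, -, hj⟩ := (Nat.dvd_prime_pow Nat.prime_three).1 (orderOf_dvd_of_pow_eq_one h)
  have h6 := orderOf_dvd_of_pow_eq_one (weylG2_pow hw)
  rw [hj] at h6 ⊢
  rcases Nat.lt_or_ge j 2 with hj2 | hj2
  · exact (pow_dvd_pow 3 (by omega : j ≤ 1)).trans (by norm_num)
  · exact absurd ((pow_dvd_pow 3 hj2).trans h6) (by norm_num)

theorem g2Rot_facts : (List.finRange chevG2.nroots).all (fun s => (g2Rot s).val != s.val &&
    (g2Rot2 s).val != s.val && (g2Rot2 s).val == (g2Rot (g2Rot s)).val &&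
    (g2Rot s).val == (reflDataG2.sPerm g2i (reflDataG2.sPerm g2j
      (reflDataG2.sPerm g2i (reflDataG2.sPerm g2j s)))).val) = true := by decide +kernel

/-- The images under the rotation of the fundamental roots and the coefficients of all roots. -/
theorem g2_coef : rootDataG2.α (g2Rot ⟨chevG2.simple g2i.val, rootDataG2.simple_lt g2i⟩) g2i = 1 ∧
    rootDataG2.α (g2Rot ⟨chevG2.simple g2i.val, rootDataG2.simple_lt g2i⟩) g2j = 1 ∧
    rootDataG2.α (g2Rot ⟨chevG2.simple g2j.val, rootDataG2.simple_lt g2j⟩) g2i = -3 ∧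
    rootDataG2.α (g2Rot ⟨chevG2.simple g2j.val, rootDataG2.simple_lt g2j⟩) g2j = -2 ∧
    ((List.finRange chevG2.nroots).all fun s =>
      rootDataG2.α s g2i % 3 != 0 || rootDataG2.α s g2j % 3 != 0) = true ∧
    ((List.finRange chevG2.nroots).map fun s => (rootDataG2.α s g2i % 3).toNat) =
      [0, 0, 1, 2, 2, 0, 0, 1, 1, 2, 0, 0] := by decide +kernel

/-- Roots along an orbit of the rotation add up to zero. -/
theorem g2Rot_sum : ((List.finRange chevG2.nroots).all fun s => (List.finRange chevG2.rank).all fun i =>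
    rootDataG2.α s i + rootDataG2.α (g2Rot s) i + rootDataG2.α (g2Rot2 s) i == 0) = true := by decide +kernel

theorem g2Rot_mem' : g2Rot ∈ reflDataG2.weyl := by
  have e : g2Rot = reflDataG2.sPerm g2i * reflDataG2.sPerm g2j * (reflDataG2.sPerm g2i * reflDataG2.sPerm g2j) :=
    Equiv.ext fun s => Fin.ext (by
      have h' := List.all_eq_true.1 g2Rot_facts s (List.mem_finRange s)
      simp only [Bool.and_eq_true, beq_iff_eq] at h'
      exact h'.2)
  rw [e]
  exact mul_mem (mul_mem (reflDataG2.sPerm_mem _) (reflDataG2.sPerm_mem _))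
    (mul_mem (reflDataG2.sPerm_mem _) (reflDataG2.sPerm_mem _))

theorem g2Rot_ne_one : g2Rot ≠ 1 := fun e => absurd (g2Same_iff.2 e) (by decide +kernel)

end CfsgLib.AltExceptional
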