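import Cfsg.Agent.Lib.AltExceptional.ChevTorus
import Cfsg.Agent.Lib.AltExceptional.G2Weyl
import Cfsg.Agent.Lib.ChevStr.InstanceTables
import Cfsg.Agent.Lib.KnownSimple.ChevLevels

/-!
The elements of order three at the torus of G2: fixed elements of the rotation, traces on the adjoint
module, and the centraliser of the 3-torsion.
-/

set_option autoImplicit false

namespace CfsgLib.AltExceptional

open Cfsg.Lie CfsgLib.ChevStr CfsgLib.Twisted CfsgLib.KnownSimple
open scoped MatrixGroups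

section General

variable {D : ChevalleyDatum} {F : Type*} [Field F] (C : ChevCore D F)

/-- A monomial element transports characters of the torus along its root permutation. -/
theorem conj_torus_char {n : GL D.Idx F} (hn : n ∈ D.monomialSubgroup F)
    {w : Equiv.Perm (Fin D.nroots)} (hw : C.Moves n w) (c : Fin D.rank → Fˣ) :
    ∃ c' : Fin D.rank → Fˣ, n * C.R.torus c * n⁻¹ = C.R.torus c' ∧
      ∀ s : Fin D.nroots, C.R.torusChar c' (C.R.α (w s)) = C.R.torusChar c (C.R.α s) := by
  obtain ⟨m, hm, hact⟩ := C.exists_rep hw.1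
  have hmm := C.rep_mem_monomial hm
  have hd : m⁻¹ * n ∈ D.diagonalSubgroup F :=
    C.mem_diagonal_of_moves_one (mul_mem (inv_mem hmm) hn)
      (by simpa using ChevCore.Moves.mul C (ChevCore.Moves.inv C hmm (ChevCore.Acts.moves C hact)) hw)
  have ht : C.R.torus c ∈ D.diagonalSubgroup F := by rw [C.diagonalSubgroup_eq]; exact ⟨c, rfl⟩
  have htn : n * C.R.torus c * n⁻¹ = m * C.R.torus c * m⁻¹ := by
    have := diagonal_comm C _ hd _ ht
    calc n * C.R.torus c * n⁻¹ = m * (m⁻¹ * n * C.R.torus c) * n⁻¹ := by group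
      _ = m * C.R.torus c * m⁻¹ := by rw [this]; group
  have ht' := C.conj_diagonal_mem hmm ht
  rw [C.diagonalSubgroup_eq] at ht'
  obtain ⟨c', hc'⟩ := ht'
  refine ⟨c', by rw [htn, hc'], fun s => ?_⟩
  obtain ⟨-, e, he⟩ := hact
  obtain ⟨he1, -, he2⟩ := he s
  have he0 : (e s : F) ≠ 0 := by rcases he1 with h | h <;> simp [h]
  have h1 : C.R.torus c' * C.xGL (w s) ((e s : F) * 1) * (C.R.torus c')⁻¹ =
      m * (C.R.torus c * C.xGL s 1 * (C.R.torus c)⁻¹) * m⁻¹ := by
    rw [← he2, hc']; group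
  rw [C.acts_torus, C.acts_torus, he2] at h1
  have h2 := C.xGL_injective (w s).isLt h1
  rw [mul_one, mul_one, mul_comm (e s : F)] at h2
  exact Units.ext (mul_right_cancel₀ he0 h2)

/-- A character is determined by its values on the fundamental roots. -/
theorem torusChar_eq_prod (R : RootData D) (c : Fin D.rank → Fˣ) (v : Fin D.rank → ℤ) :
    R.torusChar c v = ∏ j : Fin D.rank, R.torusChar c (R.α (D.simple j.val)) ^ v j := by
  let χ : Multiplicative (Fin D.rank → ℤ) →* Fˣ :=
    { toFun := fun v => R.torusChar c v.toAdd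
      map_one' := R.torusChar_zero c
      map_mul' := fun v w => R.torusChar_add c v.toAdd w.toAdd }
  show χ (Multiplicative.ofAdd v) = _
  have hv : v = ∑ i, v i • Pi.single i (1 : ℤ) := by funext k; simp [Finset.sum_apply, Pi.single_apply]
  conv_lhs => rw [hv, ofAdd_sum, map_prod]
  refine Finset.prod_congr rfl fun i _ => ?_
  show R.torusChar c (v i • Pi.single i (1 : ℤ)) = _
  rw [R.torusChar_zsmul, R.α_simple]

include C in
/-- The characters on the fundamental roots determine a torus element. -/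
theorem torus_eq_of_char {c c' : Fin D.rank → Fˣ}
    (h : ∀ j : Fin D.rank, C.R.torusChar c (C.R.α (D.simple j.val)) = C.R.torusChar c' (C.R.α (D.simple j.val))) :
    C.R.torus c = C.R.torus c' := by
  refine Units.ext ?_
  rw [C.R.coe_torus, C.R.coe_torus]
  congr 1
  funext a
  rw [torusChar_eq_prod C.R c, torusChar_eq_prod C.R c', Finset.prod_congr rfl fun j _ => by rw [h j]]

/-- Ordered products are scaled by torus elements. -/
theorem torus_conj_word (c : Fin D.rank → Fˣ) : ∀ (L : List ℕ), (∀ r ∈ L, r < D.nroots) → ∀ t : ℕ → F,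
    C.R.torus c * C.word L t * (C.R.torus c)⁻¹ =
      C.word L fun r => (C.R.torusChar c (C.R.α r) : F) * t r := by
  intro L
  induction L with
  | nil => intro _ t; simp [C.word_nil]
  | cons k L ih =>
    intro h t
    rw [C.word_cons, C.word_cons, ← ih (fun r hr => h r (List.mem_cons_of_mem _ hr)) t,
      show C.R.torus c * (C.xGL k (t k) * C.word L t) * (C.R.torus c)⁻¹ =
        C.R.torus c * C.xGL k (t k) * (C.R.torus c)⁻¹ * (C.R.torus c * C.word L t * (C.R.torus c)⁻¹) by group,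
      C.acts_torus c ⟨k, h k (List.mem_cons_self ..)⟩ (t k)]

include C in
/-- An abelian torus subgroup moved by every root and fixed by no nontrivial Weyl element has the
torus as centraliser. -/
theorem centralizer_le_diagonal [Fintype F] {A : Subgroup (GL D.Idx F)} (hA : A ≤ D.diagonalSubgroup F)
    (hW : ∀ w ∈ C.hR.weyl, (∀ c, C.R.torus c ∈ A → ∀ s : Fin D.nroots,
      C.R.torusChar c (C.R.α (w s)) = C.R.torusChar c (C.R.α s)) → w = 1)
    (hroot : ∀ s : Fin D.nroots, ∃ c, C.R.torus c ∈ A ∧ C.R.torusChar c (C.R.α s) ≠ 1)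
    {g : GL D.Idx F} (hg : g ∈ D.group F) (hc : ∀ a ∈ A, g * a = a * g) :
    g ∈ D.diagonalSubgroup F := by
  classical
  obtain ⟨u, hu, n, hn, v, hv, -, rfl⟩ := (chevAmbient C).nf g hg
  obtain ⟨n', hn', hfus⟩ := diagonal_fusion C hg
  -- `n` fixes `A`
  have hfix : ∀ a ∈ A, n * a * n⁻¹ = a := by
    intro a ha
    have hb : u * n * v * a * (u * n * v)⁻¹ = a := mul_inv_eq_iff_eq_mul.2 (hc a ha)
    have hrel : u * (n * a) * (a⁻¹ * v * a) = a * u * a⁻¹ * (a * n) * v := by
      calc u * (n * a) * (a⁻¹ * v * a) = u * n * v * a * (u * n * v)⁻¹ * (u * n * v) := by group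
        _ = _ := by rw [hb]; group
    have hu' := (chevAmbient C).H_conj_U a (hA ha) u hu
    have hv' : a⁻¹ * v * a ∈ (chevAmbient C).U := by
      simpa using (chevAmbient C).H_conj_U a⁻¹ (inv_mem (hA ha)) v hv
    have e := (chevAmbient C).nf_unique u hu (n * a)
      ((chevAmbient C).N.mul_mem hn ((chevAmbient C).H_le (hA ha))) _ hv' _ hu' (a * n)
      ((chevAmbient C).N.mul_mem ((chevAmbient C).H_le (hA ha)) hn) v hv hrel
    rw [e, mul_inv_cancel_right]
  obtain ⟨w, hw, -⟩ := C.exists_moves hn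
  obtain rfl : w = 1 := hW w hw.1 fun c hc s => by
    obtain ⟨c', h1, h2⟩ := conj_torus_char C hn hw c
    rw [hfix _ hc] at h1
    have h3 : C.R.torusChar c (C.R.α (w s)) = C.R.torusChar c' (C.R.α (w s)) := by
      have := congrArg (fun g : GL D.Idx F => (g : Matrix D.Idx D.Idx F) (Sum.inr (w s)) (Sum.inr (w s))) h1
      simpa [C.R.coe_torus, C.R.wt_inr, Units.val_inj] using this
    rw [h3, h2]
  have hnd := C.mem_diagonal_of_moves_one hn hw
  have hB : u * n * v ∈ D.borelSubgroup F :=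
    mul_mem (mul_mem (le_sup_left (b := D.diagonalSubgroup F) hu) (le_sup_right (a := D.posUnipotent F) hnd))
      (le_sup_left (b := D.diagonalSubgroup F) hv)
  obtain ⟨u₁, hu₁, c₁, he⟩ := C.mem_borel.1 hB
  rw [he] at hc ⊢
  suffices u₁ = 1 by
    rw [this, one_mul, C.diagonalSubgroup_eq]; exact ⟨c₁, rfl⟩
  rw [C.posUnipotent_eq] at hu₁
  have hset := C.setOf_mem_rootList (S := {r | D.IsPosRoot r}) fun r hr => hr.1
  obtain ⟨t, rfl⟩ := C.exists_word (L := C.rootList {r | D.IsPosRoot r}) (ChevCore.sorted_filter _)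
    (by rw [hset]; exact C.R.isClosed_pos) u₁ (by rw [hset]; exact hu₁)
  have hpos : ∀ r ∈ C.rootList {r | D.IsPosRoot r}, D.IsPosRoot r := fun r hr =>
    (Set.ext_iff.1 hset r).1 hr
  have hzero : ∀ r ∈ C.rootList {r | D.IsPosRoot r}, t r = 0 := by
    intro r hr
    obtain ⟨c, hcA, hne⟩ := hroot ⟨r, (hpos r hr).1⟩
    have h1 : C.R.torus c * C.word (C.rootList {r | D.IsPosRoot r}) t * (C.R.torus c)⁻¹ =
        C.word (C.rootList {r | D.IsPosRoot r}) t := by
      rw [mul_inv_eq_iff_eq_mul]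
      have h2 := hc _ hcA
      rw [mul_assoc, ← map_mul, mul_comm c₁, map_mul, ← mul_assoc, ← mul_assoc] at h2
      exact (mul_right_cancel h2).symm
    rw [torus_conj_word C c _ (fun r hr => (hpos r hr).1)] at h1
    have h3 := C.word_injective (ChevCore.sorted_filter _) hpos _ _ h1 r hr
    by_contra h0
    exact hne (Units.ext (by simpa [h0] using h3))
  rw [C.word_congr (u := fun _ => 0) hzero]
  have : ∀ L : List ℕ, C.word L (fun _ => (0 : F)) = 1 := by
    intro L
    induction L with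
    | nil => exact C.word_nil _
    | cons k L ih => rw [C.word_cons, ih, C.xGL_zero, one_mul]
  exact this _

end General

variable {F : Type*} [Field F]

theorem g2_fin_cases (i : Fin chevG2.rank) : i = g2i ∨ i = g2j := by
  have h := i.isLt
  rcases Nat.lt_or_ge i.val 1 with h1 | h1
  · exact Or.inl (Fin.ext (show i.val = 0 by omega))
  · exact Or.inr (Fin.ext (show i.val = 1 by have := rankG2; omega))

theorem g2_sum {M : Type*} [AddCommMonoid M] (f : Fin chevG2.rank → M) : ∑ i, f i = f g2i + f g2j := by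
  show ∑ i : Fin 2, f i = _
  exact Fin.sum_univ_two _

theorem g2_prod {M : Type*} [CommMonoid M] (f : Fin chevG2.rank → M) : ∏ i, f i = f g2i * f g2j := by
  show ∏ i : Fin 2, f i = _
  exact Fin.prod_univ_two _

/-- The character in terms of the two fundamental values. -/
theorem g2_char (c : Fin chevG2.rank → Fˣ) (v : Fin chevG2.rank → ℤ) :
    rootDataG2.torusChar c v = rootDataG2.torusChar c (rootDataG2.α (chevG2.simple g2i.val)) ^ v g2i *
      rootDataG2.torusChar c (rootDataG2.α (chevG2.simple g2j.val)) ^ v g2j := by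
  rw [torusChar_eq_prod rootDataG2 c v, g2_prod]

theorem g2Rot_eq : g2Rot2 = g2Rot * g2Rot ∧ g2Rot * g2Rot2 = 1 ∧ g2Rot2 * g2Rot2 = g2Rot := by
  have h := List.all_eq_true.1 g2Rot_facts
  have h2 : g2Rot2 = g2Rot * g2Rot := Equiv.ext fun s => Fin.ext (by
    have h' := h s (List.mem_finRange s)
    simp only [Bool.and_eq_true, beq_iff_eq] at h'
    exact h'.1.2)
  have h3 : g2Rot ^ 3 = 1 := g2Same_iff.1 (by decide +kernel)
  refine ⟨h2, ?_, ?_⟩
  · rw [h2, ← h3]; simp [pow_succ, mul_assoc]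
  · rw [h2]
    calc g2Rot * g2Rot * (g2Rot * g2Rot) = g2Rot ^ 3 * g2Rot := by simp [pow_succ, mul_assoc]
      _ = g2Rot := by rw [h3, one_mul]

/-- A torus element commuting with a rotation has order dividing three and is determined by one value. -/
theorem rot_fixed {n : GL chevG2.Idx F} (hn : n ∈ chevG2.monomialSubgroup F)
    (hw : (coreG2 F).Moves n g2Rot) {c : Fin chevG2.rank → Fˣ}
    (hc : n * (coreG2 F).R.torus c = (coreG2 F).R.torus c * n) :
    rootDataG2.torusChar c (rootDataG2.α (chevG2.simple g2i.val)) ^ 3 = 1 ∧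
      rootDataG2.torusChar c (rootDataG2.α (chevG2.simple g2j.val)) = 1 := by
  obtain ⟨c', h1, h2⟩ := conj_torus_char (coreG2 F) hn hw c
  rw [hc, mul_inv_cancel_right] at h1
  have h3 : ∀ s : Fin chevG2.nroots,
      rootDataG2.torusChar c (rootDataG2.α (g2Rot s)) = rootDataG2.torusChar c (rootDataG2.α s) := fun s => by
    refine Eq.trans (?_ : (coreG2 F).R.torusChar c ((coreG2 F).R.α (g2Rot s)) = _) (h2 s)
    have := congrArg (fun g : GL chevG2.Idx F =>
      (g : Matrix chevG2.Idx chevG2.Idx F) (Sum.inr (g2Rot s)) (Sum.inr (g2Rot s))) h1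
    simpa [(coreG2 F).R.coe_torus, (coreG2 F).R.wt_inr, Units.val_inj] using this
  obtain ⟨e1, e2, e3, e4, -, -⟩ := g2_coef
  have ha := h3 ⟨chevG2.simple g2i.val, rootDataG2.simple_lt g2i⟩
  have hb := h3 ⟨chevG2.simple g2j.val, rootDataG2.simple_lt g2j⟩
  rw [g2_char c (rootDataG2.α (g2Rot _)), e1, e2, zpow_one, zpow_one] at ha
  rw [g2_char c (rootDataG2.α (g2Rot _)), e3, e4] at hb
  dsimp only at ha hb
  have hb1 := mul_eq_left.1 ha
  rw [hb1, one_zpow, mul_one] at hb
  refine ⟨?_, hb1⟩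
  rw [zpow_neg, inv_eq_one] at hb
  exact_mod_cast hb

/-- The product over an orbit of the rotation is trivial on the torus. -/
theorem rot_norm {n : GL chevG2.Idx F} (hn : n ∈ chevG2.monomialSubgroup F)
    (hw : (coreG2 F).Moves n g2Rot) {t : GL chevG2.Idx F} (ht : t ∈ chevG2.diagonalSubgroup F) :
    t * (n * t * n⁻¹) * (n * (n * t * n⁻¹) * n⁻¹) = 1 := by
  rw [(coreG2 F).diagonalSubgroup_eq] at ht
  obtain ⟨c, rfl⟩ := ht
  obtain ⟨c₁, h1, k1⟩ := conj_torus_char (coreG2 F) hn hw c
  rw [h1]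
  obtain ⟨c₂, h2, k2⟩ := conj_torus_char (coreG2 F) hn hw c₁
  rw [h2, ← map_mul, ← map_mul, ← map_one (coreG2 F).R.torus]
  refine torus_eq_of_char (coreG2 F) fun j => ?_
  set s : Fin chevG2.nroots := ⟨chevG2.simple j.val, rootDataG2.simple_lt j⟩
  obtain ⟨hr1, hr2, hr3⟩ := g2Rot_eq
  have s1 : g2Rot (g2Rot2 s) = s := by rw [← Equiv.Perm.mul_apply, hr2, Equiv.Perm.one_apply]
  have s2 : g2Rot2 (g2Rot2 s) = g2Rot s := by rw [← Equiv.Perm.mul_apply, hr3]
  have e1 : rootDataG2.torusChar c₁ (rootDataG2.α s) = rootDataG2.torusChar c (rootDataG2.α (g2Rot2 s)) := by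
    conv_lhs => rw [← s1]
    exact k1 _
  have e2 : rootDataG2.torusChar c₂ (rootDataG2.α s) = rootDataG2.torusChar c (rootDataG2.α (g2Rot s)) := by
    conv_lhs => rw [← s1]
    refine (k2 _).trans ?_
    conv_lhs => rw [show g2Rot2 s = g2Rot (g2Rot2 (g2Rot2 s)) by rw [← Equiv.Perm.mul_apply g2Rot, hr2, Equiv.Perm.one_apply]]
    rw [← s2]
    exact k1 _
  show rootDataG2.torusChar (c * c₁ * c₂) (rootDataG2.α s) = rootDataG2.torusChar 1 (rootDataG2.α s)
  rw [rootDataG2.torusChar_mul, rootDataG2.torusChar_mul, e1, e2, ← rootDataG2.torusChar_add,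
    ← rootDataG2.torusChar_add]
  have hs : rootDataG2.α s + rootDataG2.α (g2Rot2 s) + rootDataG2.α (g2Rot s) = 0 := by
    funext i
    have h := List.all_eq_true.1 g2Rot_sum s (List.mem_finRange s)
    have h' := List.all_eq_true.1 h i (List.mem_finRange i)
    rw [beq_iff_eq] at h'
    simp only [Pi.add_apply, Pi.zero_apply]
    linarith
  rw [hs, rootDataG2.torusChar_zero]
  simp [RootData.torusChar]

/-- The trace of a nontrivial torus element commuting with a rotation. -/
theorem trace_fixed {n : GL chevG2.Idx F} (hn : n ∈ chevG2.monomialSubgroup F)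
    (hw : (coreG2 F).Moves n g2Rot) {t : GL chevG2.Idx F} (ht : t ∈ chevG2.diagonalSubgroup F)
    (hc : n * t = t * n) (h1 : t ≠ 1) : Matrix.trace (t : Matrix chevG2.Idx chevG2.Idx F) = 5 := by
  rw [(coreG2 F).diagonalSubgroup_eq] at ht
  obtain ⟨c, rfl⟩ := ht
  obtain ⟨ha, hb⟩ := rot_fixed hn hw hc
  set a := rootDataG2.torusChar c (rootDataG2.α (chevG2.simple g2i.val)) with hadef
  have ha1 : a ≠ 1 := by
    intro e
    refine h1 ?_
    rw [← map_one (coreG2 F).R.torus]
    refine torus_eq_of_char (coreG2 F) fun j => ?_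
    rcases g2_fin_cases j with rfl | rfl
    · show a = _; rw [e]; simp [RootData.torusChar]
    · exact hb.trans (by simp [RootData.torusChar])
  have hs : (a : F) + (a : F) ^ 2 = -1 := by
    have h3 : ((a : F) - 1) * ((a : F) ^ 2 + a + 1) = 0 := by
      have h' : (a : F) ^ 3 = 1 := by rw [← Units.val_pow_eq_pow_val, ha, Units.val_one]
      linear_combination h'
    rcases mul_eq_zero.1 h3 with h | h
    · exact absurd (Units.ext (sub_eq_zero.1 h)) ha1
    · linear_combination h
  rw [(coreG2 F).R.coe_torus, Matrix.trace_diagonal, Fintype.sum_sum_type]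
  have hroot : ∀ s : Fin chevG2.nroots, (rootDataG2.torusChar c (rootDataG2.α s) : F) =
      (a : F) ^ (rootDataG2.α s g2i % 3).toNat := by
    intro s
    rw [g2_char c (rootDataG2.α s), hb, one_zpow, mul_one, ← hadef, ← Units.val_pow_eq_pow_val,
      ← zpow_natCast, Int.toNat_of_nonneg (Int.emod_nonneg _ (by norm_num))]
    congr 1
    conv_lhs => rw [← Int.emod_add_mul_ediv (rootDataG2.α s g2i) 3, zpow_add, zpow_mul,
      show a ^ (3 : ℤ) = 1 by exact_mod_cast ha, one_zpow, mul_one]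
  have h6 := g2_coef.2.2.2.2.2
  have hsum : ∑ s : Fin chevG2.nroots, (rootDataG2.torusChar c (rootDataG2.α s) : F) =
      (((List.finRange chevG2.nroots).map fun s => (rootDataG2.α s g2i % 3).toNat).map
        fun k => (a : F) ^ k).sum := by
    rw [List.map_map, Fin.sum_univ_def]
    exact congrArg List.sum (List.map_congr_left fun s _ => hroot s)
  have hl : ∀ x : Fin chevG2.rank, (coreG2 F).R.torusChar c ((coreG2 F).R.wt (Sum.inl x)) = 1 := fun x => by
    rw [(coreG2 F).R.wt_inl, RootData.torusChar_zero]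
  have hr : ∑ s : Fin chevG2.nroots, ((coreG2 F).R.torusChar c ((coreG2 F).R.wt (Sum.inr s)) : F) =
      ∑ s : Fin chevG2.nroots, (rootDataG2.torusChar c (rootDataG2.α s) : F) :=
    Finset.sum_congr rfl fun s _ => by rw [(coreG2 F).R.wt_inr]; rfl
  rw [hr, g2_sum, hl, hl, hsum, h6]
  simp only [List.map_cons, List.map_nil, List.sum_cons, List.sum_nil, pow_zero, pow_one, Units.val_one]
  linear_combination 3 * hs

/-- The corner block of a fundamental representative. -/
theorem g2_block (i a j : Fin chevG2.rank) :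
    ((coreG2 F).nS i : Matrix chevG2.Idx chevG2.Idx F) (Sum.inl a) (Sum.inl j) =
      (((if a = j then 1 else 0) - (if a = i then
        ([[2, -1], [-3, 2]].getD i.val []).getD j.val 0 else 0) : ℤ) : F) := by
  rw [(coreG2 F).coe_nS, nMat_apply Chev.G2.cert, Chev.idxCode_inl]
  have hj : j.val < Chev.G2.cert.T.l := lt_l Chev.G2.cert j.isLt
  have hn : chevG2.nroots = Chev.G2.cert.T.n := Chev.G2.cert.hv.hn.symm
  rw [show chevG2.nroots + j.val = Chev.G2.cert.T.n + j.val by omega]
  simp only [Chev.Data.pVec, Chev.Data.pTerm_cor hj, List.map_cons, List.map_nil, Chev.evalV_cons,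
    Chev.evalV_nil, add_zero, Pi.add_apply, Pi.smul_apply, Chev.unitFun, smul_eq_mul, pow_zero, mul_one]
  simp only [Chev.idxCode_inl, hn]
  have hcar : (Chev.G2.cert.T.row (Chev.G2.cert.T.simp' i.val)).car.getD j.val 0 =
      ([[2, -1], [-3, 2]].getD i.val []).getD j.val 0 := by
    rcases g2_fin_cases i with rfl | rfl <;> rcases g2_fin_cases j with rfl | rfl <;> decide +kernel
  rw [hcar]
  simp only [Nat.add_left_cancel_iff, Fin.val_inj, Int.cast_one, Int.cast_neg]
  split_ifs <;> simp [sub_eq_add_neg]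

/-- The trace of a monomial element acting as a rotation. -/
theorem trace_rot {n : GL chevG2.Idx F} (hn : n ∈ chevG2.monomialSubgroup F)
    (hw : (coreG2 F).Moves n g2Rot ∨ (coreG2 F).Moves n g2Rot2) :
    Matrix.trace (n : Matrix chevG2.Idx chevG2.Idx F) = -1 := by
  set C := coreG2 F
  set p := C.nS g2i * C.nS g2j
  have hp : p ∈ chevG2.monomialSubgroup F := mul_mem (C.nS_mem_monomial _) (C.nS_mem_monomial _)
  have hact : C.Moves (p * p) g2Rot := by
    have h := ChevCore.Moves.mul C (ChevCore.Acts.moves C (C.acts_nS g2i)) (ChevCore.Acts.moves C (C.acts_nS g2j))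
    have h2 := ChevCore.Moves.mul C h h
    have e : g2Rot = C.hR.sPerm g2i * C.hR.sPerm g2j * (C.hR.sPerm g2i * C.hR.sPerm g2j) :=
      Equiv.ext fun s => Fin.ext (by
        have h' := List.all_eq_true.1 g2Rot_facts s (List.mem_finRange s)
        simp only [Bool.and_eq_true, beq_iff_eq] at h'
        exact h'.2)
    rw [e]; exact h2
  -- corner blocks
  have hrow : ∀ {q : GL chevG2.Idx F}, q ∈ chevG2.monomialSubgroup F → ∀ (a : Fin chevG2.rank) (s : Fin chevG2.nroots),
      (q : Matrix chevG2.Idx chevG2.Idx F) (Sum.inl a) (Sum.inr s) = 0 := by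
    intro q hq a s
    by_contra hne
    obtain ⟨v, hv, -⟩ := C.exists_moves hq
    have h1 := (ChevLevels.monoSupp_of_moves C hq hv).1 _ _ hne
    rw [C.R.wt_inl, C.R.wt_inr, ChevLevels.rootAct_α C hv.1] at h1
    exact C.R.α_ne_zero (v s).isLt h1.symm
  have hmul : ∀ {q r : GL chevG2.Idx F}, q ∈ chevG2.monomialSubgroup F → ∀ a b : Fin chevG2.rank,
      ((q * r : GL chevG2.Idx F) : Matrix chevG2.Idx chevG2.Idx F) (Sum.inl a) (Sum.inl b) =
        (q : Matrix chevG2.Idx chevG2.Idx F) (Sum.inl a) (Sum.inl g2i) * (r : Matrix chevG2.Idx chevG2.Idx F) (Sum.inl g2i) (Sum.inl b) +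
        (q : Matrix chevG2.Idx chevG2.Idx F) (Sum.inl a) (Sum.inl g2j) * (r : Matrix chevG2.Idx chevG2.Idx F) (Sum.inl g2j) (Sum.inl b) := by
    intro q r hq a b
    rw [Units.val_mul, Matrix.mul_apply, Fintype.sum_sum_type, g2_sum]
    simp [hrow hq]
  -- reduce to the two standard elements
  obtain ⟨k, hk, hk'⟩ : ∃ k, (k = 2 ∨ k = 4) ∧ ∃ v, C.Moves n v ∧ C.Moves (p ^ k) v := by
    rcases hw with hw | hw
    · exact ⟨2, Or.inl rfl, _, hw, by rw [pow_two]; exact hact⟩
    · refine ⟨4, Or.inr rfl, _, hw, ?_⟩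
      rw [show p ^ 4 = p * p * (p * p) by simp [pow_succ, mul_assoc], g2Rot_eq.1]
      exact ChevCore.Moves.mul C hact hact
  obtain ⟨v, hv, hv'⟩ := hk'
  have hd : n * (p ^ k)⁻¹ ∈ chevG2.diagonalSubgroup F :=
    C.mem_diagonal_of_moves_one (mul_mem hn (inv_mem (pow_mem hp k)))
      (by simpa using ChevCore.Moves.mul C hv (ChevCore.Moves.inv C (pow_mem hp k) hv'))
  rw [C.diagonalSubgroup_eq] at hd
  obtain ⟨c, hc⟩ := hd
  have hne : ∀ s, v s ≠ s := by
    intro s h
    have h' := List.all_eq_true.1 g2Rot_facts s (List.mem_finRange s)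
    simp only [Bool.and_eq_true, bne_iff_ne, beq_iff_eq] at h'
    rcases hw with hw | hw
    · obtain rfl := ChevCore.Moves.unique C hv hw
      exact h'.1.1.1 (congrArg Fin.val h)
    · obtain rfl := ChevCore.Moves.unique C hv hw
      exact h'.1.1.2 (congrArg Fin.val h)
  have hdiag : ∀ s : Fin chevG2.nroots, (n : Matrix chevG2.Idx chevG2.Idx F) (Sum.inr s) (Sum.inr s) = 0 := by
    intro s
    by_contra h0
    have h1 := (ChevLevels.monoSupp_of_moves C hn hv).1 _ _ h0
    rw [C.R.wt_inr, ChevLevels.rootAct_α C hv.1] at h1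
    exact hne s (Fin.ext (C.R.α_inj (v s).isLt s.isLt h1.symm))
  have hcorner : ∀ a : Fin chevG2.rank, (n : Matrix chevG2.Idx chevG2.Idx F) (Sum.inl a) (Sum.inl a) =
      ((p ^ k : GL chevG2.Idx F) : Matrix chevG2.Idx chevG2.Idx F) (Sum.inl a) (Sum.inl a) := by
    intro a
    rw [show n = C.R.torus c * p ^ k by rw [hc, inv_mul_cancel_right], Units.val_mul, C.R.coe_torus,
      Matrix.diagonal_mul, C.R.wt_inl, RootData.torusChar_zero, Units.val_one, one_mul]
  have b00 : (C.nS g2i : Matrix chevG2.Idx chevG2.Idx F) (Sum.inl g2i) (Sum.inl g2i) = -1 := by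
    rw [g2_block]; norm_num [g2i, g2j]
  have b01 : (C.nS g2i : Matrix chevG2.Idx chevG2.Idx F) (Sum.inl g2i) (Sum.inl g2j) = 1 := by
    rw [g2_block]; norm_num [g2i, g2j]
  have b10 : (C.nS g2i : Matrix chevG2.Idx chevG2.Idx F) (Sum.inl g2j) (Sum.inl g2i) = 0 := by
    rw [g2_block]; norm_num [g2i, g2j]
  have b11 : (C.nS g2i : Matrix chevG2.Idx chevG2.Idx F) (Sum.inl g2j) (Sum.inl g2j) = 1 := by
    rw [g2_block]; norm_num [g2i, g2j]
  have c00 : (C.nS g2j : Matrix chevG2.Idx chevG2.Idx F) (Sum.inl g2i) (Sum.inl g2i) = 1 := by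
    rw [g2_block]; norm_num [g2i, g2j]
  have c01 : (C.nS g2j : Matrix chevG2.Idx chevG2.Idx F) (Sum.inl g2i) (Sum.inl g2j) = 0 := by
    rw [g2_block]; norm_num [g2i, g2j]
  have c10 : (C.nS g2j : Matrix chevG2.Idx chevG2.Idx F) (Sum.inl g2j) (Sum.inl g2i) = 3 := by
    rw [g2_block]; norm_num [g2i, g2j]
  have c11 : (C.nS g2j : Matrix chevG2.Idx chevG2.Idx F) (Sum.inl g2j) (Sum.inl g2j) = -1 := by
    rw [g2_block]; norm_num [g2i, g2j]
  rw [Matrix.trace, Fintype.sum_sum_type, g2_sum]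
  simp only [Matrix.diag_apply, hdiag, Finset.sum_const_zero, add_zero, hcorner]
  have hS := C.nS_mem_monomial g2i
  have hq : p * p ∈ chevG2.monomialSubgroup F := mul_mem hp hp
  rcases hk with rfl | rfl
  · rw [pow_two, hmul hp, hmul hp]
    simp only [p, hmul hS]
    simp only [b00, b01, b10, b11, c00, c01, c10, c11]
    norm_num
  · rw [show p ^ 4 = p * p * (p * p) by simp [pow_succ, mul_assoc], hmul hq, hmul hq]
    simp only [hmul hp]
    simp only [p, hmul hS]
    simp only [b00, b01, b10, b11, c00, c01, c10, c11]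
    norm_num

end CfsgLib.AltExceptional
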