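import Cfsg.Agent.Lib.AltExceptional.D4Weyl
import Cfsg.Agent.Lib.AltExceptional.G2Torus
import Cfsg.Agent.Lib.TwistedStr.Structure

/-!
The torus of ³D₄(q) in characters, the elements fixed by the rotation, and twisting of the coset of
the rotation by torus elements with values in the small field.
-/

set_option autoImplicit false

namespace CfsgLib.AltExceptional

open Cfsg.Lie CfsgLib.ChevStr CfsgLib.Twisted
open scoped MatrixGroups

variable {K : Type*} [Field K]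

/-- The first fundamental index. -/
def d4i0 : Fin chevD4.rank := ⟨0, by decide +kernel⟩

/-- The central fundamental index. -/
def d4i1 : Fin chevD4.rank := ⟨1, by decide +kernel⟩

/-- The third fundamental index. -/
def d4i2 : Fin chevD4.rank := ⟨2, by decide +kernel⟩

/-- The fourth fundamental index. -/
def d4i3 : Fin chevD4.rank := ⟨3, by decide +kernel⟩

theorem d4_cases : ∀ j : Fin chevD4.rank, j = d4i0 ∨ j = d4i1 ∨ j = d4i2 ∨ j = d4i3 := by decide +kernel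

theorem d4_finRange : List.finRange chevD4.rank = [d4i0, d4i1, d4i2, d4i3] := by decide +kernel

theorem d4_pi : piD4 d4i0 = d4i2 ∧ piD4 d4i1 = d4i1 ∧ piD4 d4i2 = d4i3 := by decide +kernel

theorem d4_prod {M : Type*} [CommMonoid M] (f : Fin chevD4.rank → M) :
    ∏ j, f j = f d4i0 * f d4i1 * f d4i2 * f d4i3 :=
  Fin.prod_univ_four f

/-- The value of the character of a fundamental root. -/
noncomputable def d4Chi (c : Fin chevD4.rank → Kˣ) (k : Fin chevD4.rank) : Kˣ :=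
  rootDataD4.torusChar c (rootDataD4.α (chevD4.simple k.val))

theorem d4_char (c : Fin chevD4.rank → Kˣ) (v : Fin chevD4.rank → ℤ) :
    rootDataD4.torusChar c v = d4Chi c d4i0 ^ v d4i0 * d4Chi c d4i1 ^ v d4i1 *
      d4Chi c d4i2 ^ v d4i2 * d4Chi c d4i3 ^ v d4i3 := by
  rw [torusChar_eq_prod rootDataD4 c v, d4_prod]
  rfl

theorem d4Chi_mul (c d : Fin chevD4.rank → Kˣ) (k : Fin chevD4.rank) :
    d4Chi (c * d) k = d4Chi c k * d4Chi d k :=
  rootDataD4.torusChar_mul _ _ _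

theorem d4_torus_ext {c d : Fin chevD4.rank → Kˣ} (h0 : d4Chi c d4i0 = d4Chi d d4i0) (h1 : d4Chi c d4i1 = d4Chi d d4i1)
    (h2 : d4Chi c d4i2 = d4Chi d d4i2) (h3 : d4Chi c d4i3 = d4Chi d d4i3) :
    (coreD4 K).R.torus c = (coreD4 K).R.torus d := by
  refine torus_eq_of_char (coreD4 K) fun j => ?_
  rcases d4_cases j with rfl | rfl | rfl | rfl
  exacts [h0, h1, h2, h3]

/-- The character on a combination of long roots. -/
theorem d4_char_long (c : Fin chevD4.rank → Kˣ) {v : Fin chevD4.rank → ℤ} (hv : d4Long v = true) :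
    rootDataD4.torusChar c v =
      (d4Chi c d4i0 * d4Chi c d4i2 * d4Chi c d4i3) ^ v d4i0 * d4Chi c d4i1 ^ v d4i1 := by
  simp only [d4Long, Bool.and_eq_true, beq_iff_eq] at hv
  have h2 : v d4i2 = v d4i0 := hv.1.symm
  have h3 : v d4i3 = v d4i0 := hv.2.symm
  rw [d4_char, h2, h3, mul_zpow, mul_zpow]
  rw [mul_right_comm _ (d4Chi c d4i1 ^ v d4i1) (d4Chi c d4i2 ^ v d4i0), mul_right_comm _ (d4Chi c d4i1 ^ v d4i1) (d4Chi c d4i3 ^ v d4i0)]

/-- The coefficients needed for the rotation. -/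
theorem d4Rot_coef :
    ((List.finRange chevD4.rank).map fun i =>
      rootDataD4.α (d4Rot ⟨chevD4.simple d4i0.val, rootDataD4.simple_lt d4i0⟩) i) = [0, -1, -1, -1] ∧
    ((List.finRange chevD4.rank).map fun i =>
      rootDataD4.α (d4Rot ⟨chevD4.simple d4i1.val, rootDataD4.simple_lt d4i1⟩) i) = [1, 1, 1, 1] ∧
    ((List.finRange chevD4.rank).map fun j => (List.finRange chevD4.rank).map fun i =>
      rootDataD4.α (d4Rot2 ⟨chevD4.simple j.val, rootDataD4.simple_lt j⟩) i) =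
      [[1, 1, 0, 0], [-1, -2, -1, -1], [0, 1, 1, 0], [0, 1, 0, 1]] := by
  decide +kernel

theorem d4_list_coef {f : Fin chevD4.rank → ℤ} {a b c d : ℤ}
    (h : (List.finRange chevD4.rank).map f = [a, b, c, d]) :
    f d4i0 = a ∧ f d4i1 = b ∧ f d4i2 = c ∧ f d4i3 = d := by
  have e := d4_finRange
  rw [e] at h
  simpa using h

/-- The difference of a vector and its image under the inverse rotation. -/
theorem d4Rot2_char (c : Fin chevD4.rank → Kˣ) :
    let χ := fun j : Fin chevD4.rank =>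
      rootDataD4.torusChar c (rootDataD4.α (d4Rot2 ⟨chevD4.simple j.val, rootDataD4.simple_lt j⟩))
    χ d4i0 = d4Chi c d4i0 * d4Chi c d4i1 ∧
      χ d4i1 = (d4Chi c d4i0 * d4Chi c d4i1 ^ 2 * d4Chi c d4i2 * d4Chi c d4i3)⁻¹ ∧
      χ d4i2 = d4Chi c d4i1 * d4Chi c d4i2 ∧ χ d4i3 = d4Chi c d4i1 * d4Chi c d4i3 := by
  have h := d4Rot_coef.2.2
  have e := d4_finRange
  conv at h => lhs; rw [e]
  simp only [List.map_cons, List.map_nil, List.cons.injEq, and_true] at h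
  obtain ⟨⟨a0, a1, a2, a3⟩, ⟨b0, b1, b2, b3⟩, ⟨c0, c1, c2, c3⟩, d0, d1, d2, d3⟩ := h
  refine ⟨?_, ?_, ?_, ?_⟩ <;> dsimp only
  · rw [d4_char, a0, a1, a2, a3]; simp
  · rw [d4_char, b0, b1, b2, b3, mul_inv_rev, mul_inv_rev, mul_inv_rev, zpow_neg_one, zpow_neg_one,
      zpow_neg_one, zpow_neg, show (2 : ℤ) = ((2 : ℕ) : ℤ) from rfl, zpow_natCast]
    ac_rfl
  · rw [d4_char, c0, c1, c2, c3]; simp
  · rw [d4_char, d0, d1, d2, d3]; simp

variable [Fintype K] {p n : ℕ} [ExpChar K p] (hn : Fintype.card K = (p ^ n) * (p ^ n) * (p ^ n))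
  (hq : 2 ≤ p ^ n)

include hn hq

theorem exists_torus_H1 {t : GL chevD4.Idx K}
    (ht : t ∈ chevD4.diagonalSubgroup K ⊓ twistedD4 K (p ^ n)) :
    ∃ c, (coreD4 K).R.torus c = t ∧ d4Chi c d4i2 = d4Chi c d4i0 ^ p ^ n ∧
      d4Chi c d4i3 = (d4Chi c d4i0 ^ p ^ n) ^ p ^ n ∧ d4Chi c d4i1 ^ p ^ n = d4Chi c d4i1 := by
  have ht1 : t ∈ (coreD4 K).R.torus.range := (coreD4 K).diagonalSubgroup_eq ▸ ht.1
  obtain ⟨c, rfl⟩ := ht1
  have hfix : ∀ j : Fin chevD4.rank,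
      rootDataD4.torusChar c (rootDataD4.α (chevD4.simple (piD4 j).val)) =
        rootDataD4.torusChar c (rootDataD4.α (chevD4.simple j.val)) ^ p ^ n := fun j => by
    rw [← piD4_root j]
    exact (gensD4 K hn hq).char_fixed ht.2 ⟨chevD4.simple j.val, rootDataD4.simple_lt j⟩
  obtain ⟨e0, e1, e2⟩ := d4_pi
  have h0 := hfix d4i0; have h1 := hfix d4i1; have h2 := hfix d4i2
  rw [e0] at h0; rw [e1] at h1; rw [e2] at h2
  exact ⟨c, rfl, h0, by
    show rootDataD4.torusChar c (rootDataD4.α (chevD4.simple d4i3.val)) = _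
    rw [h2, h0]; rfl, h1.symm⟩

/-- The torus of ³D₄(q) in the first two characters. -/
theorem exists_H1_char (x y : Kˣ) (hy : y ^ p ^ n = y) :
    ∃ c, (coreD4 K).R.torus c ∈ chevD4.diagonalSubgroup K ⊓ twistedD4 K (p ^ n) ∧
      d4Chi c d4i0 = x ∧ d4Chi c d4i1 = y ∧ d4Chi c d4i2 = x ^ p ^ n ∧ d4Chi c d4i3 = (x ^ p ^ n) ^ p ^ n := by
  classical
  set T := chevD4.diagonalSubgroup K ⊓ twistedD4 K (p ^ n)
  have hex : ∀ t : T, _ := fun t => exists_torus_H1 hn hq t.2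
  choose c hc h2 h3 h1 using hex
  have hker : ∀ u : Kˣ, u ^ p ^ n = u ↔ u ∈ (powMonoidHom (p ^ n - 1) : Kˣ →* Kˣ).ker := fun u => by
    rw [MonoidHom.mem_ker, powMonoidHom_apply]
    conv_lhs => rw [show p ^ n = p ^ n - 1 + 1 by omega, pow_succ]
    exact mul_eq_right
  let f : T → Kˣ × (powMonoidHom (p ^ n - 1) : Kˣ →* Kˣ).ker := fun t =>
    (d4Chi (c t) d4i0, ⟨d4Chi (c t) d4i1, (hker _).1 (h1 t)⟩)
  have hf : Function.Injective f := fun s t e => Subtype.ext (by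
    have e0 : d4Chi (c s) d4i0 = d4Chi (c t) d4i0 := congrArg Prod.fst e
    rw [← hc s, ← hc t]
    exact d4_torus_ext e0 (congrArg (fun z : Kˣ × (powMonoidHom (p ^ n - 1) : Kˣ →* Kˣ).ker => (z.2 : Kˣ)) e)
      (by rw [h2, h2, e0]) (by rw [h3, h3, e0]))
  have hsurj : Function.Surjective f := by
    refine ((Nat.bijective_iff_injective_and_card f).2 ⟨hf, ?_⟩).2
    rw [card_H1D4 K hn hq, Nat.card_prod, IsCyclic.card_powMonoidHom_ker, Nat.card_units,
      Nat.card_eq_fintype_card, hn, show p ^ n * p ^ n * p ^ n = (p ^ n) ^ 3 by ring,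
      Nat.gcd_eq_right (by simpa using Nat.sub_dvd_pow_sub_pow (p ^ n) 1 3), mul_comm]
  obtain ⟨t, ht⟩ := hsurj (x, ⟨y, (hker y).1 hy⟩)
  have e0 : d4Chi (c t) d4i0 = x := congrArg Prod.fst ht
  exact ⟨c t, (hc t).symm ▸ t.2, e0,
    congrArg (fun z : Kˣ × (powMonoidHom (p ^ n - 1) : Kˣ →* Kˣ).ker => (z.2 : Kˣ)) ht,
    by rw [h2, e0], by rw [h3, e0]⟩

/-- A torus element of 3-power order fixed by the rotation. -/
theorem rot_fixedD4 (h3q : 3 ∣ p ^ n - 1) {m : GL chevD4.Idx K} (hm : m ∈ chevD4.monomialSubgroup K)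
    (hw : (coreD4 K).Moves m d4Rot) {t : GL chevD4.Idx K}
    (ht : t ∈ chevD4.diagonalSubgroup K ⊓ twistedD4 K (p ^ n)) (hc : m * t = t * m) {k : ℕ}
    (hk : t ^ 3 ^ k = 1) :
    ∃ c, (coreD4 K).R.torus c = t ∧ d4Chi c d4i1 = 1 ∧ d4Chi c d4i0 ^ 3 = 1 ∧ d4Chi c d4i2 = d4Chi c d4i0 ∧
      d4Chi c d4i3 = d4Chi c d4i0 := by
  obtain ⟨c, rfl, h2, h3, h1⟩ := exists_torus_H1 hn hq ht
  obtain ⟨c', e1, e2⟩ := conj_torus_char (coreD4 K) hm hw c
  rw [hc, mul_inv_cancel_right] at e1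
  have hfix : ∀ s : Fin chevD4.nroots,
      rootDataD4.torusChar c (rootDataD4.α (d4Rot s)) = rootDataD4.torusChar c (rootDataD4.α s) := fun s => by
    refine Eq.trans (?_ : (coreD4 K).R.torusChar c ((coreD4 K).R.α (d4Rot s)) = _) (e2 s)
    have := congrArg (fun g : GL chevD4.Idx K =>
      (g : Matrix chevD4.Idx chevD4.Idx K) (Sum.inr (d4Rot s)) (Sum.inr (d4Rot s))) e1
    simpa [(coreD4 K).R.coe_torus, (coreD4 K).R.wt_inr, Units.val_inj] using this
  obtain ⟨ha, hb, -⟩ := d4Rot_coef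
  obtain ⟨a0, a1, a2, a3⟩ := d4_list_coef ha
  obtain ⟨b0, b1, b2, b3⟩ := d4_list_coef hb
  have hA := hfix ⟨chevD4.simple d4i0.val, rootDataD4.simple_lt d4i0⟩
  have hB := hfix ⟨chevD4.simple d4i1.val, rootDataD4.simple_lt d4i1⟩
  rw [d4_char c (rootDataD4.α (d4Rot _)), a0, a1, a2, a3, zpow_zero, one_mul, zpow_neg_one, zpow_neg_one,
    zpow_neg_one] at hA
  rw [d4_char c (rootDataD4.α (d4Rot _)), b0, b1, b2, b3, zpow_one, zpow_one, zpow_one, zpow_one] at hB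
  change _ = d4Chi c d4i0 at hA
  change _ = d4Chi c d4i1 at hB
  have hN : d4Chi c d4i0 * d4Chi c d4i2 * d4Chi c d4i3 = 1 := by
    calc d4Chi c d4i0 * d4Chi c d4i2 * d4Chi c d4i3 = d4Chi c d4i0 * d4Chi c d4i1 * d4Chi c d4i2 * d4Chi c d4i3 * (d4Chi c d4i1)⁻¹ := by
          rw [mul_right_comm (d4Chi c d4i0) (d4Chi c d4i1), mul_right_comm _ (d4Chi c d4i1) (d4Chi c d4i3),
            mul_inv_cancel_right]
      _ = 1 := by rw [hB, mul_inv_cancel]
  have hy : d4Chi c d4i1 = 1 := by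
    have h4 : d4Chi c d4i0 = (d4Chi c d4i1 * d4Chi c d4i2 * d4Chi c d4i3)⁻¹ := by
      rw [← hA, mul_inv_rev, mul_inv_rev]; ac_rfl
    rw [h4, mul_assoc (d4Chi c d4i1), mul_inv_rev, mul_comm (d4Chi c d4i2 * d4Chi c d4i3)⁻¹,
      mul_assoc, mul_assoc, inv_mul_cancel, mul_one, inv_eq_one] at hN
    exact hN
  have hpow : d4Chi c d4i0 ^ 3 ^ k = 1 := by
    have e := congrArg (fun g : GL chevD4.Idx K => (g : Matrix chevD4.Idx chevD4.Idx K)
      (Sum.inr ⟨_, rootDataD4.simple_lt d4i0⟩) (Sum.inr ⟨_, rootDataD4.simple_lt d4i0⟩)) hk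
    simp only [← map_pow, (coreD4 K).R.coe_torus, Units.val_one, Matrix.diagonal_apply_eq, Matrix.one_apply_eq,
      (coreD4 K).R.wt_inr, Units.val_eq_one] at e
    rw [← e]
    exact (map_pow ({ toFun := fun d : Fin chevD4.rank → Kˣ => d4Chi d d4i0
                      map_one' := by simp [d4Chi, RootData.torusChar]
                      map_mul' := fun a b => d4Chi_mul a b d4i0 } : (Fin chevD4.rank → Kˣ) →* Kˣ) c _).symm
  have hnorm : d4Chi c d4i0 ^ (1 + p ^ n + p ^ n * p ^ n) = 1 := by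
    rw [pow_add, pow_add, pow_one, pow_mul, ← h2, show d4Chi c d4i2 ^ p ^ n = d4Chi c d4i3 by rw [h3, h2]]
    exact hN
  have h3' : d4Chi c d4i0 ^ 3 = 1 := by
    rw [← orderOf_dvd_iff_pow_eq_one]
    obtain ⟨j, -, hj⟩ := (Nat.dvd_prime_pow Nat.prime_three).1 (orderOf_dvd_of_pow_eq_one hpow)
    rw [hj]
    rcases Nat.lt_or_ge j 2 with hj2 | hj2
    · exact (pow_dvd_pow 3 (by omega : j ≤ 1)).trans (by norm_num)
    · exfalso
      have h9 : 9 ∣ 1 + p ^ n + p ^ n * p ^ n :=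
        ((pow_dvd_pow 3 hj2).trans (dvd_of_eq hj.symm)).trans (orderOf_dvd_of_pow_eq_one hnorm)
      obtain ⟨i, hi⟩ := h3q
      have e : p ^ n = 3 * i + 1 := by omega
      rw [e, show 1 + (3 * i + 1) + (3 * i + 1) * (3 * i + 1) = 9 * (i * i + i) + 3 by ring] at h9
      omega
  have hqfix : d4Chi c d4i0 ^ p ^ n = d4Chi c d4i0 := by
    obtain ⟨i, hi⟩ := h3q
    rw [show p ^ n = 3 * i + 1 by omega, pow_succ, pow_mul, h3', one_pow, one_mul]
  exact ⟨c, rfl, hy, h3', by rw [h2, hqfix], by rw [h3, hqfix, hqfix]⟩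

/-- At most three such elements. -/
theorem card_fixed_leD4 (h3q : 3 ∣ p ^ n - 1) {m : GL chevD4.Idx K} (hm : m ∈ chevD4.monomialSubgroup K)
    (hw : (coreD4 K).Moves m d4Rot) (Z : Subgroup (GL chevD4.Idx K)) (hZ : IsPGroup 3 Z)
    (hle : Z ≤ chevD4.diagonalSubgroup K ⊓ twistedD4 K (p ^ n)) (hc : ∀ z ∈ Z, m * z = z * m) :
    Nat.card Z ≤ 3 := by
  classical
  have hex : ∀ z : Z, _ := fun z => rot_fixedD4 hn hq h3q hm hw (hle z.2) (hc z z.2) (k := (hZ z).choose)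
    (congrArg Subtype.val (hZ z).choose_spec)
  choose c hc' h1 h0 h2 h3 using hex
  let f : Z → rootsOfUnity 3 K := fun z => ⟨d4Chi (c z) d4i0, h0 z⟩
  have hf : Function.Injective f := fun x y e => Subtype.ext (by
    have e0 : d4Chi (c x) d4i0 = d4Chi (c y) d4i0 := congrArg Subtype.val e
    rw [← hc' x, ← hc' y]
    exact d4_torus_ext e0 (by rw [h1, h1]) (by rw [h2, h2, e0]) (by rw [h3, h3, e0]))
  exact (Nat.card_le_card_of_injective f hf).trans (card_rootsOfUnity K 3)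

/-- In the coset of a lift of the rotation, translation by torus elements with values in the small field
is conjugation by torus elements. -/
theorem exists_twist {x : GL chevD4.Idx K} (hx : x ∈ chevD4.monomialSubgroup K)
    (hw : (coreD4 K).Moves x d4Rot) {c : Fin chevD4.rank → Kˣ} (h0 : d4Chi c d4i0 ^ p ^ n = d4Chi c d4i0)
    (h1 : d4Chi c d4i1 ^ p ^ n = d4Chi c d4i1) (h2 : d4Chi c d4i2 = d4Chi c d4i0) (h3 : d4Chi c d4i3 = d4Chi c d4i0) :
    ∃ s ∈ chevD4.diagonalSubgroup K ⊓ twistedD4 K (p ^ n), s * x * s⁻¹ = (coreD4 K).R.torus c * x := by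
  classical
  set q := p ^ n with hqdef
  have hK : Nat.card Kˣ = q ^ 3 - 1 := by
    rw [Nat.card_units, Nat.card_eq_fintype_card, hn]; ring_nf
  have hprod : (1 + q + q * q) * (q - 1) = q ^ 3 - 1 := by
    obtain ⟨a, ha⟩ : ∃ a, q = a + 1 := ⟨q - 1, by omega⟩
    rw [ha, Nat.add_sub_cancel]
    exact (Nat.sub_eq_of_eq_add (by ring)).symm
  have hker : ∀ u : Kˣ, u ^ q = u ↔ u ∈ (powMonoidHom (q - 1) : Kˣ →* Kˣ).ker := fun u => by
    rw [MonoidHom.mem_ker, powMonoidHom_apply]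
    conv_lhs => rw [show q = q - 1 + 1 by omega, pow_succ]
    exact mul_eq_right
  obtain ⟨x₀, hx₀⟩ : d4Chi c d4i1 * d4Chi c d4i0 ^ 3 ∈ (powMonoidHom (1 + q + q * q) : Kˣ →* Kˣ).range := by
    have hle : (powMonoidHom (1 + q + q * q) : Kˣ →* Kˣ).range ≤ (powMonoidHom (q - 1) : Kˣ →* Kˣ).ker := by
      rintro _ ⟨u, rfl⟩
      rw [MonoidHom.mem_ker, powMonoidHom_apply, powMonoidHom_apply, ← pow_mul, hprod, ← hK]
      exact pow_card_eq_one'
    rw [Subgroup.eq_of_le_of_card_ge hle (le_of_eq (by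
      rw [IsCyclic.card_powMonoidHom_ker, IsCyclic.card_powMonoidHom_range, hK, ← hprod,
        Nat.gcd_eq_right (dvd_mul_left _ _), Nat.gcd_eq_right (dvd_mul_right _ _),
        Nat.mul_div_cancel_left _ (by positivity)]))]
    rw [← hker, mul_pow, h1, ← pow_mul, mul_comm 3, pow_mul, h0]
  rw [powMonoidHom_apply] at hx₀
  obtain ⟨s, hs, s0, s1, s2, s3⟩ := exists_H1_char hn hq x₀ (d4Chi c d4i0)⁻¹ (by rw [inv_pow, h0])
  refine ⟨_, hs, ?_⟩
  obtain ⟨c', e1, e2⟩ := conj_torus_char (coreD4 K) hx hw s⁻¹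
  rw [map_inv] at e1
  rw [show (coreD4 K).R.torus s * x * ((coreD4 K).R.torus s)⁻¹ =
    (coreD4 K).R.torus s * (x * ((coreD4 K).R.torus s)⁻¹ * x⁻¹) * x by group, e1, ← map_mul]
  congr 1
  have hj : ∀ j : Fin chevD4.rank, rootDataD4.torusChar c' (rootDataD4.α (chevD4.simple j.val)) =
      (rootDataD4.torusChar s (rootDataD4.α (d4Rot2 ⟨chevD4.simple j.val, rootDataD4.simple_lt j⟩)))⁻¹ := by
    intro j
    have hrr : d4Rot (d4Rot2 ⟨chevD4.simple j.val, rootDataD4.simple_lt j⟩) =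
        ⟨chevD4.simple j.val, rootDataD4.simple_lt j⟩ := by
      rw [← Equiv.Perm.mul_apply, d4Rot_eq.2.1, Equiv.Perm.one_apply]
    have h := e2 (d4Rot2 ⟨chevD4.simple j.val, rootDataD4.simple_lt j⟩)
    rw [hrr] at h
    change rootDataD4.torusChar c' (rootDataD4.α (chevD4.simple j.val)) =
      rootDataD4.torusChar s⁻¹ (rootDataD4.α _) at h
    rw [h]
    refine eq_inv_of_mul_eq_one_left ?_
    rw [← RootData.torusChar_mul, inv_mul_cancel]
    simp [RootData.torusChar]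
  obtain ⟨r0, r1, r2, r3⟩ := d4Rot2_char s
  dsimp only at r0 r1 r2 r3
  rw [← hqdef] at s2 s3
  refine d4_torus_ext ?_ ?_ ?_ ?_ <;> rw [d4Chi_mul]
  · show _ * rootDataD4.torusChar c' _ = _
    rw [hj, r0, s0, s1, mul_inv_rev, inv_inv, mul_left_comm, mul_inv_cancel, mul_one]
  · show _ * rootDataD4.torusChar c' _ = _
    rw [hj, r1, inv_inv, s0, s1, s2, s3, ← pow_mul x₀ q q,
      show (d4Chi c d4i0)⁻¹ * (x₀ * (d4Chi c d4i0)⁻¹ ^ 2 * x₀ ^ q * x₀ ^ (q * q)) =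
        x₀ ^ (1 + q + q * q) * ((d4Chi c d4i0)⁻¹ ^ 3) by
        rw [pow_add, pow_add, pow_one, pow_succ' (d4Chi c d4i0)⁻¹ 2]; ac_rfl,
      hx₀, inv_pow, mul_inv_cancel_right]
  · show _ * rootDataD4.torusChar c' _ = _
    rw [hj, r2, s1, s2, mul_inv_rev, inv_inv, ← mul_assoc, mul_inv_cancel, one_mul, h2]
  · show _ * rootDataD4.torusChar c' _ = _
    rw [hj, r3, s1, s3, mul_inv_rev, inv_inv, ← mul_assoc, mul_inv_cancel, one_mul, h3]

end CfsgLib.AltExceptional
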