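import Cfsg.Agent.Lib.TwistedStr.TorusD4

/-!
The twisted Weyl group of type ³D₄ as a list of twelve tables, its rotation of order three and its
action modulo the span of the long roots.
-/

set_option autoImplicit false

namespace CfsgLib.AltExceptional

open Cfsg.Lie CfsgLib.ChevStr CfsgLib.Twisted

/-- A permutation of the twenty-four roots from two tables. -/
def d4Perm (f g : List ℕ) (h : ∀ s : Fin chevD4.nroots,
    (f.getD s.val 0 < chevD4.nroots ∧ g.getD s.val 0 < chevD4.nroots) ∧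
    g.getD (f.getD s.val 0) 0 = s.val ∧ f.getD (g.getD s.val 0) 0 = s.val) :
    Equiv.Perm (Fin chevD4.nroots) where
  toFun s := ⟨f.getD s.val 0, (h s).1.1⟩
  invFun s := ⟨g.getD s.val 0, (h s).1.2⟩
  left_inv s := Fin.ext (h s).2.1
  right_inv s := Fin.ext (h s).2.2

/-- Equality on every root, as a Boolean. -/
def d4Same (f g : Fin chevD4.nroots → Fin chevD4.nroots) : Bool :=
  (List.finRange chevD4.nroots).all fun s => (f s).val == (g s).val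

theorem d4Same_iff {f g : Equiv.Perm (Fin chevD4.nroots)} : d4Same f g = true ↔ f = g := by
  simp [d4Same, Equiv.ext_iff, Fin.val_inj]

/-- The rotation of order three. -/
def d4Rot : Equiv.Perm (Fin chevD4.nroots) := d4Perm [14, 23, 15, 16, 5, 17, 19, 10, 11, 1, 20, 21, 2, 3, 22, 12, 13, 4, 6, 18, 7, 8, 0, 9] [22, 9, 12, 13, 17, 4, 18, 20, 21, 23, 7, 8, 15, 16, 0, 2, 3, 5, 19, 6, 10, 11, 14, 1] (by decide +kernel)

/-- Its square. -/
def d4Rot2 : Equiv.Perm (Fin chevD4.nroots) := d4Perm [22, 9, 12, 13, 17, 4, 18, 20, 21, 23, 7, 8, 15, 16, 0, 2, 3, 5, 19, 6, 10, 11, 14, 1] [14, 23, 15, 16, 5, 17, 19, 10, 11, 1, 20, 21, 2, 3, 22, 12, 13, 4, 6, 18, 7, 8, 0, 9] (by decide +kernel)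

/-- The twelve elements, with words in the fundamental reflections. -/
def d4List : List (List (Fin chevD4.rank) × Equiv.Perm (Fin chevD4.nroots)) :=
  [
    ([].map (fun k => nodeD4 (k % 4) (Nat.mod_lt _ (by norm_num))), d4Perm [0, 1, 2, 3, 4, 5, 6, 7, 8, 9, 10, 11, 12, 13, 14, 15, 16, 17, 18, 19, 20, 21, 22, 23] [0, 1, 2, 3, 4, 5, 6, 7, 8, 9, 10, 11, 12, 13, 14, 15, 16, 17, 18, 19, 20, 21, 22, 23] (by decide +kernel)),
        ([1].map (fun k => nodeD4 (k % 4) (Nat.mod_lt _ (by norm_num))), d4Perm [1, 0, 2, 3, 5, 4, 6, 10, 11, 14, 7, 8, 15, 16, 9, 12, 13, 17, 19, 18, 20, 21, 23, 22] [1, 0, 2, 3, 5, 4, 6, 10, 11, 14, 7, 8, 15, 16, 9, 12, 13, 17, 19, 18, 20, 21, 23, 22] (by decide +kernel)),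
        ([1, 0, 2, 3].map (fun k => nodeD4 (k % 4) (Nat.mod_lt _ (by norm_num))), d4Perm [1, 14, 11, 10, 6, 19, 5, 3, 2, 0, 16, 15, 8, 7, 23, 21, 20, 18, 4, 17, 13, 12, 9, 22] [9, 0, 8, 7, 18, 6, 4, 13, 12, 22, 3, 2, 21, 20, 1, 11, 10, 19, 17, 5, 16, 15, 23, 14] (by decide +kernel)),
        ([1, 0, 2, 3, 1].map (fun k => nodeD4 (k % 4) (Nat.mod_lt _ (by norm_num))), d4Perm [14, 1, 11, 10, 19, 6, 5, 16, 15, 23, 3, 2, 21, 20, 0, 8, 7, 18, 17, 4, 13, 12, 22, 9] [14, 1, 11, 10, 19, 6, 5, 16, 15, 23, 3, 2, 21, 20, 0, 8, 7, 18, 17, 4, 13, 12, 22, 9] (by decide +kernel)),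
        ([1, 0, 2, 3, 1, 0, 2, 3].map (fun k => nodeD4 (k % 4) (Nat.mod_lt _ (by norm_num))), d4Perm [14, 23, 15, 16, 5, 17, 19, 10, 11, 1, 20, 21, 2, 3, 22, 12, 13, 4, 6, 18, 7, 8, 0, 9] [22, 9, 12, 13, 17, 4, 18, 20, 21, 23, 7, 8, 15, 16, 0, 2, 3, 5, 19, 6, 10, 11, 14, 1] (by decide +kernel)),
        ([1, 0, 2, 3, 1, 0, 2, 3, 1].map (fun k => nodeD4 (k % 4) (Nat.mod_lt _ (by norm_num))), d4Perm [23, 14, 15, 16, 17, 5, 19, 20, 21, 22, 10, 11, 12, 13, 1, 2, 3, 4, 18, 6, 7, 8, 9, 0] [23, 14, 15, 16, 17, 5, 19, 20, 21, 22, 10, 11, 12, 13, 1, 2, 3, 4, 18, 6, 7, 8, 9, 0] (by decide +kernel)),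
        ([1, 0, 2, 3, 1, 0, 2, 3, 1, 0, 2, 3].map (fun k => nodeD4 (k % 4) (Nat.mod_lt _ (by norm_num))), d4Perm [23, 22, 21, 20, 19, 18, 17, 16, 15, 14, 13, 12, 11, 10, 9, 8, 7, 6, 5, 4, 3, 2, 1, 0] [23, 22, 21, 20, 19, 18, 17, 16, 15, 14, 13, 12, 11, 10, 9, 8, 7, 6, 5, 4, 3, 2, 1, 0] (by decide +kernel)),
        ([1, 0, 2, 3, 1, 0, 2, 3, 1, 0, 2, 3, 1].map (fun k => nodeD4 (k % 4) (Nat.mod_lt _ (by norm_num))), d4Perm [22, 23, 21, 20, 18, 19, 17, 13, 12, 9, 16, 15, 8, 7, 14, 11, 10, 6, 4, 5, 3, 2, 0, 1] [22, 23, 21, 20, 18, 19, 17, 13, 12, 9, 16, 15, 8, 7, 14, 11, 10, 6, 4, 5, 3, 2, 0, 1] (by decide +kernel)),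
        ([1, 0, 2, 3, 1, 0, 2, 3, 1, 0, 2, 3, 1, 0, 2, 3].map (fun k => nodeD4 (k % 4) (Nat.mod_lt _ (by norm_num))), d4Perm [22, 9, 12, 13, 17, 4, 18, 20, 21, 23, 7, 8, 15, 16, 0, 2, 3, 5, 19, 6, 10, 11, 14, 1] [14, 23, 15, 16, 5, 17, 19, 10, 11, 1, 20, 21, 2, 3, 22, 12, 13, 4, 6, 18, 7, 8, 0, 9] (by decide +kernel)),
        ([1, 0, 2, 3, 1, 0, 2, 3, 1, 0, 2, 3, 1, 0, 2, 3, 1].map (fun k => nodeD4 (k % 4) (Nat.mod_lt _ (by norm_num))), d4Perm [9, 22, 12, 13, 4, 17, 18, 7, 8, 0, 20, 21, 2, 3, 23, 15, 16, 5, 6, 19, 10, 11, 1, 14] [9, 22, 12, 13, 4, 17, 18, 7, 8, 0, 20, 21, 2, 3, 23, 15, 16, 5, 6, 19, 10, 11, 1, 14] (by decide +kernel)),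
        ([1, 0, 2, 3, 1, 0, 2, 3, 1, 0, 2, 3, 1, 0, 2, 3, 1, 0, 2, 3].map (fun k => nodeD4 (k % 4) (Nat.mod_lt _ (by norm_num))), d4Perm [9, 0, 8, 7, 18, 6, 4, 13, 12, 22, 3, 2, 21, 20, 1, 11, 10, 19, 17, 5, 16, 15, 23, 14] [1, 14, 11, 10, 6, 19, 5, 3, 2, 0, 16, 15, 8, 7, 23, 21, 20, 18, 4, 17, 13, 12, 9, 22] (by decide +kernel)),
        ([1, 0, 2, 3, 1, 0, 2, 3, 1, 0, 2, 3, 1, 0, 2, 3, 1, 0, 2, 3, 1].map (fun k => nodeD4 (k % 4) (Nat.mod_lt _ (by norm_num))), d4Perm [0, 9, 8, 7, 6, 18, 4, 3, 2, 1, 13, 12, 11, 10, 22, 21, 20, 19, 5, 17, 16, 15, 14, 23] [0, 9, 8, 7, 6, 18, 4, 3, 2, 1, 13, 12, 11, 10, 22, 21, 20, 19, 5, 17, 16, 15, 14, 23] (by decide +kernel))  ]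

/-- A coefficient vector lies in the span of the roots fixed by the graph automorphism. -/
def d4Long (v : Fin chevD4.rank → ℤ) : Bool :=
  v (nodeD4 0) == v (nodeD4 2) && v (nodeD4 0) == v (nodeD4 3)

/-- `w` is `1` modulo the long roots. -/
def d4Plus (w : Fin chevD4.nroots → Fin chevD4.nroots) : Bool :=
  (List.finRange chevD4.rank).all fun j => d4Long
    fun i => rootDataD4.α (w ⟨chevD4.simple j.val, rootDataD4.simple_lt j⟩) i - (if i = j then 1 else 0)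

/-- `w` is `-1` modulo the long roots. -/
def d4Minus (w : Fin chevD4.nroots → Fin chevD4.nroots) : Bool :=
  (List.finRange chevD4.rank).all fun j => d4Long
    fun i => rootDataD4.α (w ⟨chevD4.simple j.val, rootDataD4.simple_lt j⟩) i + (if i = j then 1 else 0)

theorem d4_list_facts : (d4List.all fun q =>
    d4Same q.2 (reflDataD4.wordPerm q.1) && d4Same (fun s => rhoD4 (q.2 s)) (fun s => q.2 (rhoD4 s)) &&
    d4Same (fun s => q.2 (q.2 (q.2 (q.2 (q.2 (q.2 s)))))) id &&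
    (!d4Same (fun s => q.2 (q.2 (q.2 s))) id || d4Same q.2 id || d4Same q.2 d4Rot || d4Same q.2 d4Rot2) &&
    (d4Plus q.2 || d4Minus q.2)) = true ∧
    (d4List.map fun q => (List.finRange chevD4.nroots).map fun s => (q.2 s).val).Nodup := by
  decide +kernel

theorem card_twistSetD4 : (twistSet reflDataD4 rhoD4).card = 12 := by
  have h := sum_twistSetD4 (fun _ => 1)
  simp only [Finset.sum_const, smul_eq_mul, mul_one] at h
  rw [h]
  decide +kernel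

theorem d4_mem {w : Equiv.Perm (Fin chevD4.nroots)} (hw : w ∈ reflDataD4.weyl) (hc : Commute rhoD4 w) :
    ∃ q ∈ d4List, q.2 = w := by
  classical
  set S : Finset (Equiv.Perm (Fin chevD4.nroots)) := (d4List.map Prod.snd).toFinset
  have hsub : S ⊆ twistSet reflDataD4 rhoD4 := by
    intro u hu
    obtain ⟨q, hq, rfl⟩ := List.mem_map.1 (List.mem_toFinset.1 hu)
    have h := List.all_eq_true.1 d4_list_facts.1 q hq
    simp only [Bool.and_eq_true] at h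
    obtain ⟨⟨⟨⟨h1, h2⟩, -⟩, -⟩, -⟩ := h
    refine mem_twistSet.2 ⟨?_, d4Same_iff.1 h2⟩
    rw [d4Same_iff.1 h1]
    exact reflDataD4.wordPerm_mem _
  have hnd : (d4List.map Prod.snd).Nodup := by
    refine List.Nodup.of_map (fun u => (List.finRange chevD4.nroots).map fun s => (u s).val) ?_
    rw [List.map_map]
    exact d4_list_facts.2
  have hcard : S.card = 12 := by
    rw [List.toFinset_card_of_nodup hnd, List.length_map]
    decide +kernel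
  have he := Finset.eq_of_subset_of_card_le hsub (by rw [hcard, card_twistSetD4])
  have : w ∈ S := he ▸ mem_twistSet.2 ⟨hw, hc⟩
  obtain ⟨q, hq, e⟩ := List.mem_map.1 (List.mem_toFinset.1 this)
  exact ⟨q, hq, e⟩

theorem d4_spec {w : Equiv.Perm (Fin chevD4.nroots)} (hw : w ∈ reflDataD4.weyl) (hc : Commute rhoD4 w) :
    w ^ 6 = 1 ∧ (w ^ 3 = 1 → w = 1 ∨ w = d4Rot ∨ w = d4Rot2) ∧ (d4Plus w = true ∨ d4Minus w = true) := by
  obtain ⟨q, hq, rfl⟩ := d4_mem hw hc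
  have h := List.all_eq_true.1 d4_list_facts.1 q hq
  simp only [Bool.and_eq_true, Bool.or_eq_true, Bool.not_eq_true'] at h
  obtain ⟨⟨⟨-, h6⟩, h3⟩, hc⟩ := h
  refine ⟨?_, fun e => ?_, hc⟩
  · rw [← d4Same_iff]; exact h6
  · rcases h3 with ((h | h) | h) | h
    · exact absurd (d4Same_iff.2 e) (by
        rw [show d4Same (⇑(q.2 ^ 3)) (⇑(1 : Equiv.Perm (Fin chevD4.nroots))) = false from h]; simp)
    · exact Or.inl (d4Same_iff.1 h)
    · exact Or.inr (Or.inl (d4Same_iff.1 h))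
    · exact Or.inr (Or.inr (d4Same_iff.1 h))

theorem weylD4_three {w : Equiv.Perm (Fin chevD4.nroots)} (hw : w ∈ reflDataD4.weyl) (hc : Commute rhoD4 w)
    {k : ℕ} (h : w ^ 3 ^ k = 1) : w = 1 ∨ w = d4Rot ∨ w = d4Rot2 := by
  obtain ⟨h6, h3, -⟩ := d4_spec hw hc
  refine h3 (orderOf_dvd_iff_pow_eq_one.1 ?_)
  obtain ⟨j, -, hj⟩ := (Nat.dvd_prime_pow Nat.prime_three).1 (orderOf_dvd_of_pow_eq_one h)
  have h6' := orderOf_dvd_of_pow_eq_one h6
  rw [hj] at h6' ⊢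
  rcases Nat.lt_or_ge j 2 with hj2 | hj2
  · exact (pow_dvd_pow 3 (by omega : j ≤ 1)).trans (by norm_num)
  · exact absurd ((pow_dvd_pow 3 hj2).trans h6') (by norm_num)

theorem d4Rot_facts : d4Same d4Rot (reflDataD4.wordPerm
      ([1, 0, 2, 3, 1, 0, 2, 3].map (fun k => nodeD4 (k % 4) (Nat.mod_lt _ (by norm_num))))) = true ∧
    d4Same (fun s => rhoD4 (d4Rot s)) (fun s => d4Rot (rhoD4 s)) = true ∧
    d4Same (fun s => d4Rot (d4Rot s)) d4Rot2 = true ∧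
    d4Same (fun s => d4Rot (d4Rot2 s)) id = true ∧ d4Same d4Rot id = false ∧
    d4Same (fun s => d4Rot2 (d4Rot2 s)) d4Rot = true ∧ d4Plus d4Rot = true := by
  decide +kernel

theorem d4Rot_mem : d4Rot ∈ reflDataD4.weyl ∧ Commute rhoD4 d4Rot := by
  refine ⟨?_, d4Same_iff.1 d4Rot_facts.2.1⟩
  rw [d4Same_iff.1 d4Rot_facts.1]
  exact reflDataD4.wordPerm_mem _

theorem d4Rot_eq : d4Rot * d4Rot = d4Rot2 ∧ d4Rot * d4Rot2 = 1 ∧ d4Rot2 * d4Rot2 = d4Rot ∧ d4Rot ≠ 1 := by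
  obtain ⟨-, -, h1, h2, h3, h4, -⟩ := d4Rot_facts
  exact ⟨d4Same_iff.1 h1, d4Same_iff.1 h2, d4Same_iff.1 h4,
    fun e => absurd (show d4Same d4Rot id = true from d4Same_iff.2 e) (by rw [h3]; simp)⟩

/-- The images of the first two fundamental roots under the inverse rotation, subtracted from them. -/
theorem d4Rot2_coef :
    ((List.finRange chevD4.rank).map fun i => (if i = nodeD4 0 then 1 else 0) -
      rootDataD4.α (d4Rot2 ⟨chevD4.simple 0, rootDataD4.simple_lt (nodeD4 0)⟩) i) = [0, -1, 0, 0] ∧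
    ((List.finRange chevD4.rank).map fun i => (if i = nodeD4 1 then 1 else 0) -
      rootDataD4.α (d4Rot2 ⟨chevD4.simple 1, rootDataD4.simple_lt (nodeD4 1)⟩) i) = [1, 3, 1, 1] := by
  decide +kernel

end CfsgLib.AltExceptional
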