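import Cfsg.Agent.Lib.AltExceptional.F4Check
import Cfsg.Agent.Lib.ChevStr.InstanceTables

/-!
Element orders in the Weyl group of type F4: every element has order dividing 8 or 6, or its sixth
power is `-1`.
-/

set_option autoImplicit false

namespace CfsgLib.AltExceptional

open Cfsg.Lie CfsgLib.ChevStr

theorem KeyTree.all_has {t : KeyTree} {p : ℕ → Bool} (h : t.all p = true) {x : ℕ} (hx : t.has x = true) :
    p x = true := by
  induction t with
  | leaf => simp [KeyTree.has] at hx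
  | node l k r ihl ihr =>
    simp only [KeyTree.all, Bool.and_eq_true] at h
    simp only [KeyTree.has] at hx
    split_ifs at hx with h1 h2
    · rw [eq_of_beq h1]; exact h.1.1
    · exact ihl h.1.2 hx
    · exact ihr h.2 hx

theorem cartan4_eq : ∀ i j : Fin chevF4.rank,
    chevF4.cartan i.val (chevF4.simple j.val) = cartan4 i.val j.val := by decide +kernel

/-- `n` is the matrix of `w` on the fundamental roots. -/
def KeyFor (n : ℕ) (w : Equiv.Perm (Fin chevF4.nroots)) : Prop :=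
  ∀ a j : Fin chevF4.rank,
    rootDataF4.α (w ⟨chevF4.simple j.val, rootDataF4.simple_lt j⟩) a = keyEnt n a.val j.val

theorem rank_lt {a : Fin chevF4.rank} : a.val < 4 := a.isLt.trans_le (by decide +kernel)

theorem fits_eq {f : ℕ → ℕ → ℤ} (h : keyFits f = true) {a j : ℕ} (ha : a < 4) (hj : j < 4) :
    keyEnt (keyOf f) a j = f a j := by
  simp only [keyFits, List.all_eq_true, List.mem_range, beq_iff_eq] at h
  exact h a ha j hj

theorem exists_key {w : Equiv.Perm (Fin chevF4.nroots)} (hw : w ∈ reflDataF4.weyl) :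
    ∃ n, f4Table.has n = true ∧ KeyFor n w := by
  refine reflDataF4.weyl_induction (P := fun w => ∃ n, f4Table.has n = true ∧ KeyFor n w)
    ⟨keyOne, keyOne_mem.1, fun a j => ?_⟩ ?_ w hw
  · rw [keyOne, fits_eq keyOne_mem.2.1 rank_lt rank_lt, Equiv.Perm.one_apply, rootDataF4.α_simple,
      Pi.single_apply]
    simp [Fin.val_inj]
  · rintro v hv i ⟨n, hn, hkey⟩
    have h1 := KeyTree.all_has table_closed hn
    simp only [closedAt, List.all_eq_true, List.mem_range, Bool.and_eq_true] at h1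
    obtain ⟨h2, h3⟩ := h1 i.val rank_lt
    refine ⟨_, h3, fun a j => ?_⟩
    rw [fits_eq h2 rank_lt rank_lt, stepEnt, ← hkey a j, ← hkey a i, ← cartan4_eq]
    set e : Fin chevF4.rank → Fin chevF4.nroots :=
      fun k => ⟨chevF4.simple k.val, rootDataF4.simple_lt k⟩
    have hs := reflDataF4.α_refl i _ (rootDataF4.simple_lt j)
    rw [Equiv.Perm.mul_apply, reflDataF4.α_weyl v hv (reflDataF4.sPerm i _)]
    rw [reflDataF4.sPerm_val, hs, rootDataF4.α_simple]
    simp [Finset.sum_apply, Pi.single_apply, sub_mul, Finset.sum_sub_distrib, ite_apply]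

theorem key_mul {n m : ℕ} {v w : Equiv.Perm (Fin chevF4.nroots)} (hv : v ∈ reflDataF4.weyl)
    (hn : KeyFor n v) (hm : KeyFor m w) (h : keyFits (mulEnt n m) = true) :
    KeyFor (keyOf (mulEnt n m)) (v * w) := by
  intro a j
  rw [fits_eq h rank_lt rank_lt, Equiv.Perm.mul_apply, reflDataF4.α_weyl v hv, Finset.sum_apply]
  simp only [Pi.smul_apply, smul_eq_mul]
  rw [Finset.sum_congr rfl fun k _ => by rw [hm k j, hn a k]]
  show (∑ k : Fin 4, keyEnt m k.val j.val * keyEnt n a.val k.val) = _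
  simp only [Fin.sum_univ_four, mulEnt]
  simp only [Fin.val_zero, Fin.val_one, Fin.val_two, show ((3 : Fin 4) : ℕ) = 3 from rfl]
  ring

theorem eq_one_of_keyOne {w : Equiv.Perm (Fin chevF4.nroots)} (hw : w ∈ reflDataF4.weyl)
    (h : KeyFor keyOne w) : w = 1 := by
  ext s
  refine rootDataF4.α_inj (w s).isLt s.isLt ?_
  rw [reflDataF4.α_weyl w hw]
  refine Eq.trans ?_ (rootDataF4.α_eq_sum_simple s.val).symm
  refine Finset.sum_congr rfl fun k _ => ?_
  congr 1
  funext a
  rw [h a k, keyOne, fits_eq keyOne_mem.2.1 rank_lt rank_lt, rootDataF4.α_simple, Pi.single_apply]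
  simp [Fin.val_inj]

theorem eq_neg_of_keyNeg {w : Equiv.Perm (Fin chevF4.nroots)} (hw : w ∈ reflDataF4.weyl)
    (h : KeyFor keyNeg w) (s : Fin chevF4.nroots) : (w s : ℕ) = chevF4.neg s := by
  refine rootDataF4.α_inj (w s).isLt (rootDataF4.neg_lt _ s.isLt) ?_
  rw [reflDataF4.α_weyl w hw, rootDataF4.α_neg _ s.isLt]
  conv_rhs => rw [rootDataF4.α_eq_sum_simple s.val]
  rw [← Finset.sum_neg_distrib]
  refine Finset.sum_congr rfl fun k _ => ?_
  funext a
  simp only [Pi.smul_apply, Pi.neg_apply, h a k, keyNeg, fits_eq keyOne_mem.2.2 rank_lt rank_lt]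
  rw [rootDataF4.α_simple, Pi.single_apply]
  simp only [Fin.val_inj, smul_eq_mul]
  split_ifs <;> simp

/-- Element orders of the Weyl group of type F4. -/
theorem weylF4_cases {w : Equiv.Perm (Fin chevF4.nroots)} (hw : w ∈ reflDataF4.weyl) :
    w ^ 8 = 1 ∨ w ^ 6 = 1 ∨ ∀ s : Fin chevF4.nroots, ((w ^ 6) s : ℕ) = chevF4.neg s := by
  obtain ⟨n, hn, hkey⟩ := exists_key hw
  have h := KeyTree.all_has table_powers hn
  simp only [powersAt, Bool.and_eq_true, Bool.or_eq_true, beq_iff_eq] at h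
  obtain ⟨⟨⟨⟨f2, f4⟩, f8⟩, f6⟩, h⟩ := h
  have k2 := key_mul hw hkey hkey f2
  have k4 := key_mul (mul_mem hw hw) k2 k2 f4
  have k8 := key_mul (mul_mem (mul_mem hw hw) (mul_mem hw hw)) k4 k4 f8
  have k6 := key_mul (mul_mem (mul_mem hw hw) (mul_mem hw hw)) k4 k2 f6
  have e8 : w ^ 8 = w * w * (w * w) * (w * w * (w * w)) := by simp [pow_succ, mul_assoc]
  have e6 : w ^ 6 = w * w * (w * w) * (w * w) := by simp [pow_succ, mul_assoc]
  rcases h with (h | h) | h
  · left
    rw [h, ← e8] at k8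
    exact eq_one_of_keyOne (pow_mem hw 8) k8
  · right; left
    rw [h, ← e6] at k6
    exact eq_one_of_keyOne (pow_mem hw 6) k6
  · right; right
    rw [h, ← e6] at k6
    exact eq_neg_of_keyNeg (pow_mem hw 6) k6

theorem weylF4_pow {w : Equiv.Perm (Fin chevF4.nroots)} (hw : w ∈ reflDataF4.weyl) : w ^ 24 = 1 := by
  rcases weylF4_cases hw with h | h | h
  · rw [show 24 = 8 * 3 from rfl, pow_mul, h, one_pow]
  · rw [show 24 = 6 * 4 from rfl, pow_mul, h, one_pow]
  · rw [show 24 = 6 * 2 * 2 from rfl, pow_mul, pow_mul]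
    suffices h2 : (w ^ 6) ^ 2 = 1 by rw [h2, one_pow]
    ext s
    rw [pow_two, Equiv.Perm.mul_apply, h, h, rootDataF4.neg_neg _ s.isLt, Equiv.Perm.one_apply]

end CfsgLib.AltExceptional
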