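import Cfsg.Agent.Lib.AltExceptional.Automizer

/-!
A group of automorphisms of two commuting elements of coprime prime orders in a section is induced,
after lifting, by elements controlling the fusion of an abelian subgroup containing Sylow subgroups.
-/

set_option autoImplicit false

namespace CfsgLib.AltExceptional

/-- A Sylow subgroup of a stable subgroup and an element of the coset normalising it. -/
theorem frattini_lift {H : Type*} [Group H] [Finite H] (l : ℕ) [Fact l.Prime] (M : Subgroup H) (h : H)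
    (hh : ∀ m ∈ M, h * m * h⁻¹ ∈ M) :
    ∃ P : Subgroup H, P ≤ M ∧ IsPGroup l P ∧ ¬ l ∣ P.relIndex M ∧
      ∃ m ∈ M, ∀ b ∈ P, m * h * b * (m * h)⁻¹ ∈ P := by
  classical
  obtain ⟨P⟩ : Nonempty (Sylow l M) := inferInstance
  let φ : M →* M :=
    { toFun := fun m => ⟨h * m * h⁻¹, hh m m.2⟩
      map_one' := Subtype.ext (by simp)
      map_mul' := fun a b => Subtype.ext (by simp [mul_assoc]) }
  have hφi : Function.Injective φ := fun a b e => Subtype.ext (by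
    simpa [φ] using congrArg Subtype.val e)
  have hφ : Function.Surjective φ := Finite.injective_iff_surjective.1 hφi
  obtain ⟨m, hm⟩ := MulAction.exists_smul_eq M (P.mapSurjective hφ) P
  refine ⟨(P : Subgroup M).map M.subtype, Subgroup.map_subtype_le _, P.isPGroup'.map _, ?_, m, m.2, ?_⟩
  · rw [Subgroup.relIndex, Subgroup.subgroupOf, Subgroup.comap_map_eq_self_of_injective M.subtype_injective]
    exact P.not_dvd_index
  · rintro _ ⟨b, hb, rfl⟩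
    refine ⟨m * φ b * m⁻¹, ?_, by simp [φ, mul_assoc]⟩
    rw [← hm, Sylow.smul_def]
    exact ⟨φ b, ⟨b, hb, rfl⟩, rfl⟩

/-- A subgroup of index prime to `l` contains a lift of an element of order `l`. -/
theorem exists_lift_mem {H A : Type*} [Group H] [Finite H] [Group A] (π : H →* A) {l : ℕ} (hl : l.Prime)
    {x : A} (hx : orderOf x = l) {M P : Subgroup H} (hP : P ≤ M)
    (hM : ∀ h ∈ M, π h ∈ Subgroup.zpowers x) (hxM : ∃ h ∈ M, π h = x) (hd : ¬ l ∣ P.relIndex M) :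
    ∃ a ∈ P, π a = x := by
  have hMx : M.map π = Subgroup.zpowers x := by
    refine le_antisymm (by rintro _ ⟨h, hh, rfl⟩; exact hM h hh) (Subgroup.zpowers_le.2 ?_)
    obtain ⟨h, hh, rfl⟩ := hxM
    exact ⟨h, hh, rfl⟩
  have hle : P.map π ≤ Subgroup.zpowers x := hMx ▸ Subgroup.map_mono hP
  have hc := Subgroup.card_dvd_of_le hle
  rw [Nat.card_zpowers, hx] at hc
  rcases hl.eq_one_or_self_of_dvd _ hc with h | h
  · refine absurd ?_ hd
    have h1 : P ≤ π.ker := fun a ha => by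
      have : π a ∈ P.map π := ⟨a, ha, rfl⟩
      rwa [Subgroup.card_eq_one.1 h, Subgroup.mem_bot] at this
    refine Dvd.dvd.trans ?_ (Subgroup.relIndex_dvd_of_le_left M h1)
    rw [Subgroup.relIndex_ker, hMx, Nat.card_zpowers, hx]
  · have hfin : Finite (Subgroup.zpowers x : Subgroup A) :=
      Nat.finite_of_card_ne_zero (by rw [Nat.card_zpowers, hx]; exact hl.ne_zero)
    have e := Subgroup.eq_of_le_of_card_ge hle (le_of_eq (by rw [Nat.card_zpowers, hx, h]))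
    have : x ∈ P.map π := e ▸ Subgroup.mem_zpowers x
    exact this

/-- Conjugation of an `l`-subgroup into a subgroup of index prime to `l`. -/
theorem exists_conj_le {G : Type*} [Group G] [Finite G] (l : ℕ) [Fact l.Prime] {P T : Subgroup G}
    (hP : IsPGroup l P) (hT : ¬ l ∣ T.index) : ∃ c : G, ∀ b ∈ P, c * b * c⁻¹ ∈ T := by
  obtain ⟨Q, hQ⟩ := hP.exists_le_sylow
  obtain ⟨S⟩ : Nonempty (Sylow l T) := inferInstance
  have hS : ¬ l ∣ ((S : Subgroup T).map T.subtype).index := by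
    rw [Subgroup.index_map_subtype]
    exact Nat.Prime.not_dvd_mul Fact.out S.not_dvd_index hT
  let Q' : Sylow l G := (S.isPGroup'.map T.subtype).toSylow hS
  obtain ⟨c, hc⟩ := MulAction.exists_smul_eq G Q Q'
  refine ⟨c, fun b hb => Subgroup.map_subtype_le (S : Subgroup T) ?_⟩
  show c * b * c⁻¹ ∈ (Q' : Subgroup G)
  rw [← hc, Sylow.smul_def]
  exact ⟨b, hQ hb, rfl⟩

/-- An element of a `k`-group fixed by a power prime to `k` is fixed. -/
theorem mem_zpowers_pow {G : Type*} [Group G] {k e : ℕ} (hk : k.Prime) {P : Subgroup G} (hP : IsPGroup k P)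
    (he : ¬ k ∣ e) {b : G} (hb : b ∈ P) : b ∈ Subgroup.zpowers (b ^ e) := by
  obtain ⟨j, hj⟩ := hP ⟨b, hb⟩
  have hj' : b ^ k ^ j = 1 := congrArg Subtype.val hj
  rw [Subgroup.zpowers_eq_closure, Subgroup.mem_closure_singleton]
  obtain ⟨u, v, huv⟩ : IsCoprime (e : ℤ) ((k ^ j : ℕ) : ℤ) :=
    Nat.isCoprime_iff_coprime.2 ((hk.coprime_iff_not_dvd.2 he).pow_left j).symm
  refine ⟨u, ?_⟩
  calc (b ^ e) ^ u = b ^ (u * e + v * (k ^ j : ℕ)) := by
        rw [zpow_add, mul_comm u, zpow_mul, zpow_natCast, mul_comm v, zpow_mul, zpow_natCast, hj', one_zpow,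
          mul_one]
    _ = b := by rw [huv, zpow_one]

/-- Two commuting elements of coprime prime orders in a section: whatever the monomial element does
on the abelian subgroup, the given automorphism does on them. -/
theorem exists_toral {G A : Type*} [Group G] [Finite G] [Group A] {T : Subgroup G} {e l k : ℕ}
    [Fact l.Prime] [Fact k.Prime] (hT : Controlled T e) (N : G → Prop)
    (hN : ∀ g : G, ∃ n, N n ∧ ∀ t ∈ T, g * t * g⁻¹ ∈ T → g * t * g⁻¹ = n * t * n⁻¹)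
    (hl : ¬ l ∣ T.index) (hk : ¬ k ∣ T.index) (he : ¬ k ∣ e)
    (H : Subgroup G) (π : H →* A) (hπ : Function.Surjective π)
    {x₁ x₂ y : A} (hx₁ : orderOf x₁ = l) (hx₂ : orderOf x₂ = k) (hc : Commute x₁ x₂)
    (hy₁ : y * x₁ * y⁻¹ ∈ Subgroup.zpowers x₁) (hy₂ : y * x₂ * y⁻¹ ∈ Subgroup.zpowers x₂) :
    ∃ n, N n ∧ ∀ (i : ℕ) (z : ℤ), (∀ t ∈ T, n ^ i * t * (n ^ i)⁻¹ = t ^ z) →
      y ^ i * x₁ * (y ^ i)⁻¹ = x₁ ^ z ∧ y ^ i * x₂ * (y ^ i)⁻¹ = x₂ ^ z := by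
  classical
  have hstab : ∀ {x u : A}, u * x * u⁻¹ ∈ Subgroup.zpowers x →
      ∀ z ∈ Subgroup.zpowers x, u * z * u⁻¹ ∈ Subgroup.zpowers x := by
    rintro x u hu _ ⟨i, rfl⟩
    show u * x ^ i * u⁻¹ ∈ Subgroup.zpowers x
    rw [← conj_zpow]
    exact zpow_mem hu i
  have hfix : ∀ {x u : A}, Commute u x → ∀ z ∈ Subgroup.zpowers x, u * z * u⁻¹ = z := by
    rintro x u hu _ ⟨i, rfl⟩
    exact mul_inv_eq_iff_eq_mul.2 (hu.zpow_right i).eq
  obtain ⟨h₀, hh₀⟩ := hπ y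
  obtain ⟨h₂, hh₂⟩ := hπ x₂
  obtain ⟨h₁, hh₁⟩ := hπ x₁
  set M₁ := (Subgroup.zpowers x₁).comap π
  have hM₁ : ∀ h : H, π h * x₁ * (π h)⁻¹ ∈ Subgroup.zpowers x₁ → ∀ m ∈ M₁, h * m * h⁻¹ ∈ M₁ := by
    intro h hh m hm
    show π _ ∈ Subgroup.zpowers x₁
    rw [map_mul, map_mul, map_inv]
    exact hstab hh _ hm
  obtain ⟨P₁, hP₁M, hP₁, hP₁d, m, hm, hg⟩ := frattini_lift l M₁ h₀ (hM₁ h₀ (by rw [hh₀]; exact hy₁))
  obtain ⟨a₁, ha₁, ha₁x⟩ := exists_lift_mem π Fact.out hx₁ hP₁M (fun h hh => hh)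
    ⟨h₁, by show π h₁ ∈ Subgroup.zpowers x₁; rw [hh₁]; exact Subgroup.mem_zpowers x₁, hh₁⟩ hP₁d
  -- stabiliser of `P₁` over `⟨x₂⟩`
  set Nz := Subgroup.normalizer (P₁ : Set H)
  set M₂ := Nz ⊓ (Subgroup.zpowers x₂).comap π
  obtain ⟨m₂', hm₂', hm₂n⟩ : ∃ q : H, q ∈ M₂ ∧ π q = x₂ := by
    obtain ⟨P', hP'M, hP', hP'd, m', hm', hn'⟩ := frattini_lift l M₁ h₂
      (hM₁ h₂ (by
        rw [hh₂, hfix (x := x₁) hc.symm x₁ (Subgroup.mem_zpowers x₁)]; exact Subgroup.mem_zpowers x₁))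
    -- move `P'` onto `P₁`
    obtain ⟨q, hq, hq'⟩ : ∃ q ∈ M₁, ∀ b ∈ P₁, q * b * q⁻¹ ∈ P' := by
      have h1 : ¬ l ∣ (P'.subgroupOf M₁).index := hP'd
      obtain ⟨q, hq⟩ := exists_conj_le l (P := P₁.subgroupOf M₁) (hP₁.comap_subtype) h1
      exact ⟨q, q.2, fun b hb => hq ⟨b, hP₁M hb⟩ hb⟩
    have hcard : Nat.card P' = Nat.card P₁ := by
      obtain ⟨q', hq''⟩ := exists_conj_le l (P := P'.subgroupOf M₁) (hP'.comap_subtype)
        (show ¬ l ∣ (P₁.subgroupOf M₁).index from hP₁d)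
      refine le_antisymm ?_ ?_
      · exact Nat.card_le_card_of_injective
          (fun b : P' => (⟨q' * b * q'⁻¹, hq'' ⟨b, hP'M b.2⟩ b.2⟩ : P₁))
          (fun a b hab => Subtype.ext (by simpa using congrArg Subtype.val hab))
      · exact Nat.card_le_card_of_injective (fun b : P₁ => (⟨q * b * q⁻¹, hq' b b.2⟩ : P'))
          (fun a b hab => Subtype.ext (by simpa using congrArg Subtype.val hab))
    have hback : ∀ b ∈ P', q⁻¹ * b * q ∈ P₁ := by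
      intro b hb
      have hs : Function.Surjective (fun b : P₁ => (⟨q * b * q⁻¹, hq' b b.2⟩ : P')) :=
        ((Nat.bijective_iff_injective_and_card _).2
          ⟨fun a b hab => Subtype.ext (by simpa using congrArg Subtype.val hab), hcard.symm⟩).2
      obtain ⟨a, ha⟩ := hs ⟨b, hb⟩
      have ha' : q * (a : H) * q⁻¹ = b := congrArg Subtype.val ha
      rw [← ha', show q⁻¹ * (q * (a : H) * q⁻¹) * q = a by group]
      exact a.2
    set r := q⁻¹ * (m' * h₂) * q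
    have hr : ∀ b ∈ P₁, r * b * r⁻¹ ∈ P₁ := fun b hb => by
      have := hback _ (hn' _ (hq' b hb))
      simpa [r, mul_assoc] using this
    have hrN : r ∈ Nz := by
      rw [Subgroup.mem_normalizer_iff]
      intro b
      refine ⟨hr b, fun hb => ?_⟩
      have hs : Function.Surjective (fun b : P₁ => (⟨r * b * r⁻¹, hr b b.2⟩ : P₁)) :=
        Finite.injective_iff_surjective.1
          (fun a b hab => Subtype.ext (by simpa using congrArg Subtype.val hab))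
      obtain ⟨a, ha⟩ := hs ⟨_, hb⟩
      have ha' : (a : H) = b := by simpa using congrArg Subtype.val ha
      exact ha' ▸ a.2
    obtain ⟨i, hi⟩ := hq
    obtain ⟨j, hj⟩ := hm'
    have hπr : π r = x₁ ^ j * x₂ := by
      simp only [r, map_mul, map_inv, hh₂, ← hi, ← hj]
      rw [mul_assoc, ((Commute.zpow_zpow_self x₁ j i).mul_left (hc.zpow_left i).symm).eq,
        inv_mul_cancel_left]
    refine ⟨(a₁ ^ j)⁻¹ * r,
      ⟨Nz.mul_mem (Nz.inv_mem (Nz.zpow_mem (Subgroup.le_normalizer ha₁) j)) hrN, ?_⟩, ?_⟩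
    · show π _ ∈ Subgroup.zpowers x₂
      rw [map_mul, map_inv, map_zpow, ha₁x, hπr, inv_mul_cancel_left]
      exact Subgroup.mem_zpowers x₂
    · rw [map_mul, map_inv, map_zpow, ha₁x, hπr, inv_mul_cancel_left]
  set g₁ := m * h₀
  have hg₁N : g₁ ∈ Nz := by
    rw [Subgroup.mem_normalizer_iff]
    intro b
    refine ⟨hg b, fun hb => ?_⟩
    have hs : Function.Surjective (fun b : P₁ => (⟨g₁ * b * g₁⁻¹, hg b b.2⟩ : P₁)) :=
      Finite.injective_iff_surjective.1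
        (fun a b hab => Subtype.ext (by simpa using congrArg Subtype.val hab))
    obtain ⟨a, ha⟩ := hs ⟨_, hb⟩
    have ha' : (a : H) = b := by simpa using congrArg Subtype.val ha
    exact ha' ▸ a.2
  have hy₁' := fun z hz => hstab hy₁ z hz
  have hy₂' := fun z hz => hstab hy₂ z hz
  have hg₁π : ∀ z ∈ Subgroup.zpowers x₂, π g₁ * z * (π g₁)⁻¹ = y * z * y⁻¹ := by
    intro z hz
    obtain ⟨i, hi⟩ := hm
    rw [map_mul, hh₀, ← hi, show x₁ ^ i * y * z * (x₁ ^ i * y)⁻¹ = x₁ ^ i * (y * z * y⁻¹) * (x₁ ^ i)⁻¹ by group,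
      hfix (hc.zpow_left i) _ (hy₂' z hz)]
  obtain ⟨P₂, hP₂M, hP₂, hP₂d, m₂, hm₂, hg₂⟩ := frattini_lift k M₂ g₁ (by
    rintro b ⟨hb, hb'⟩
    refine ⟨Nz.mul_mem (Nz.mul_mem hg₁N hb) (Nz.inv_mem hg₁N), ?_⟩
    show π _ ∈ Subgroup.zpowers x₂
    rw [map_mul, map_mul, map_inv, hg₁π _ hb']
    exact hy₂' _ hb')
  obtain ⟨a₂, ha₂, ha₂x⟩ := exists_lift_mem π Fact.out hx₂ hP₂M (fun h hh => hh.2)
    ⟨m₂', hm₂', hm₂n⟩ hP₂d
  set g := m₂ * g₁
  have hgP₁ : ∀ b ∈ P₁, g * b * g⁻¹ ∈ P₁ := fun b hb =>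
    (Subgroup.mem_normalizer_iff.1 (mul_mem hm₂.1 hg₁N) b).1 hb
  have hgπ : ∀ z, (z ∈ Subgroup.zpowers x₁ ∨ z ∈ Subgroup.zpowers x₂) →
      π g * z * (π g)⁻¹ = y * z * y⁻¹ := by
    intro z hz
    obtain ⟨i, hi⟩ := hm
    obtain ⟨j, hj⟩ := hm₂.2
    have hmv : ∀ w, (w ∈ Subgroup.zpowers x₁ ∨ w ∈ Subgroup.zpowers x₂) →
        x₂ ^ j * (x₁ ^ i * w * (x₁ ^ i)⁻¹) * (x₂ ^ j)⁻¹ = w := by
      rintro w (hw | hw)
      · rw [hfix ((Commute.refl x₁).zpow_left i) _ hw, hfix (hc.symm.zpow_left j) _ hw]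
      · rw [hfix (hc.zpow_left i) _ hw, hfix ((Commute.refl x₂).zpow_left j) _ hw]
    rw [map_mul, map_mul, hh₀, ← hi, ← hj]
    calc x₂ ^ j * (x₁ ^ i * y) * z * (x₂ ^ j * (x₁ ^ i * y))⁻¹
        = x₂ ^ j * (x₁ ^ i * (y * z * y⁻¹) * (x₁ ^ i)⁻¹) * (x₂ ^ j)⁻¹ := by group
      _ = _ := hmv _ (hz.imp (hy₁' z) (hy₂' z))
  have hgpow : ∀ i : ℕ, ∀ x, (x = x₁ ∨ x = x₂) → π g ^ i * x * (π g ^ i)⁻¹ = y ^ i * x * (y ^ i)⁻¹ ∧
      y ^ i * x * (y ^ i)⁻¹ ∈ Subgroup.zpowers x := by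
    intro i
    induction i with
    | zero => intro x _; simp
    | succ i ih =>
      intro x hx
      obtain ⟨e1, e2⟩ := ih x hx
      have e3 : ∀ w : A, w ^ (i + 1) * x * (w ^ (i + 1))⁻¹ = w * (w ^ i * x * (w ^ i)⁻¹) * w⁻¹ := fun w => by
        rw [pow_succ']; group
      rw [e3, e3, e1]
      rcases hx with rfl | rfl
      · exact ⟨hgπ _ (Or.inl e2), hy₁' _ e2⟩
      · exact ⟨hgπ _ (Or.inr e2), hy₂' _ e2⟩
  -- the two subgroups in `T`
  let ι : H →* G := H.subtype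
  obtain ⟨c₁, hc₁⟩ := exists_conj_le l (hP₁.map ι) hl
  let ψ₁ : H →* G := (MulAut.conj c₁).toMonoidHom.comp ι
  have hP₁T : P₁.map ψ₁ ≤ T := by
    rintro _ ⟨b, hb, rfl⟩
    exact hc₁ _ ⟨b, hb, rfl⟩
  set Z := Subgroup.centralizer ((P₁.map ψ₁ : Subgroup G) : Set G)
  have hTZ : T ≤ Z := fun t ht => Subgroup.mem_centralizer_iff.2 fun b hb => hT.comm b (hP₁T hb) t ht
  have hP₂Z : P₂.map ψ₁ ≤ Z := by
    rintro _ ⟨b, hb, rfl⟩
    have h2 := hT.pow_centralizes hP₁T (g := ψ₁ b) (by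
      rintro _ ⟨a, ha, rfl⟩
      exact ⟨b * a * b⁻¹, (Subgroup.mem_normalizer_iff.1 (hP₂M hb).1 a).1 ha, by simp⟩)
    have h3 : ψ₁ b ^ e ∈ Z := Subgroup.mem_centralizer_iff.2 fun a ha => (h2 a ha).symm
    exact (Subgroup.zpowers_le.2 h3) (mem_zpowers_pow Fact.out (hP₂.map ψ₁) he ⟨b, hb, rfl⟩)
  obtain ⟨c₂, hc₂⟩ := exists_conj_le k (P := (P₂.map ψ₁).subgroupOf Z) (T := T.subgroupOf Z)
    ((hP₂.map ψ₁).comap_subtype) (fun h => hk (h.trans (Subgroup.relIndex_dvd_index_of_le hTZ)))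
  let ψ : H →* G := (MulAut.conj ((c₂ : G) * c₁)).toMonoidHom.comp ι
  have hψ : ∀ b, ψ b = (c₂ : G) * ψ₁ b * (c₂ : G)⁻¹ := fun b => by
    simp [ψ, ψ₁, mul_assoc]
  have hψ₁P : ∀ b ∈ P₁, ψ b = ψ₁ b := fun b hb => by
    rw [hψ, ← Subgroup.mem_centralizer_iff.1 c₂.2 (ψ₁ b) ⟨b, hb, rfl⟩, mul_inv_cancel_right]
  have hT₁ : ∀ b ∈ P₁, ψ b ∈ T := fun b hb => by rw [hψ₁P b hb]; exact hP₁T ⟨b, hb, rfl⟩
  have hT₂ : ∀ b ∈ P₂, ψ b ∈ T := fun b hb => by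
    rw [hψ]; exact hc₂ ⟨_, hP₂Z ⟨b, hb, rfl⟩⟩ ⟨b, hb, rfl⟩
  obtain ⟨n, hn, hfus⟩ := hN (ψ g)
  have key : ∀ P : Subgroup H, (∀ b ∈ P, g * b * g⁻¹ ∈ P) → (∀ b ∈ P, ψ b ∈ T) →
      ∀ i : ℕ, ∀ b ∈ P, g ^ i * b * (g ^ i)⁻¹ ∈ P ∧
        ψ (g ^ i * b * (g ^ i)⁻¹) = n ^ i * ψ b * (n ^ i)⁻¹ := by
    intro P hgP hPT i
    induction i with
    | zero => intro b hb; simp [hb]
    | succ i ih =>
      intro b hb
      obtain ⟨h1, h2⟩ := ih b hb
      have e1 : g ^ (i + 1) * b * (g ^ (i + 1))⁻¹ = g * (g ^ i * b * (g ^ i)⁻¹) * g⁻¹ := by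
        rw [pow_succ']; group
      rw [e1]
      refine ⟨hgP _ h1, ?_⟩
      rw [map_mul _ (_ * _), map_mul _ g, map_inv]
      rw [hfus _ (hPT _ h1) (by rw [← map_inv, ← map_mul, ← map_mul]; exact hPT _ (hgP _ h1)), h2,
        pow_succ']
      group
  refine ⟨n, hn, fun i z hz => ?_⟩
  have main : ∀ (P : Subgroup H), (∀ b ∈ P, g * b * g⁻¹ ∈ P) → (∀ b ∈ P, ψ b ∈ T) →
      ∀ a ∈ P, π g ^ i * π a * (π g ^ i)⁻¹ = π a ^ z := by
    intro P hgP hPT a ha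
    have h1 := (key P hgP hPT i a ha).2
    rw [hz _ (hPT a ha), ← map_zpow] at h1
    have h2 : Function.Injective ψ := (MulAut.conj _).injective.comp H.subtype_injective
    have h3 := congrArg π (h2 h1)
    rwa [map_mul, map_mul, map_inv, map_pow, map_zpow] at h3
  have e₁ := main P₁ hgP₁ hT₁ a₁ ha₁
  have e₂ := main P₂ (fun b hb => hg₂ b hb) hT₂ a₂ ha₂
  rw [ha₁x, (hgpow i x₁ (Or.inl rfl)).1] at e₁
  rw [ha₂x, (hgpow i x₂ (Or.inr rfl)).1] at e₂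
  exact ⟨e₁, e₂⟩

end CfsgLib.AltExceptional
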