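import Cfsg.Agent.Lib.AltExceptional.ChevTorus
import Cfsg.Agent.Lib.AltExceptional.F4Weyl
import Cfsg.Agent.Lib.AltExceptional.TwoPrimes
import Cfsg.Agent.Lib.ChevStr.Orders

/-!
Alternating sections of the Chevalley groups of type F4.
-/

set_option autoImplicit false

namespace CfsgLib.AltExceptional

open Cfsg.Lie CfsgLib.ChevStr CfsgLib.AltDegree
open scoped MatrixGroups

/-- The split torus contains a Sylow subgroup for a prime `l ≥ 5` dividing `q - 1`. -/
theorem not_dvd_index_diagF4 (F : Type*) [Field F] [Fintype F] {l : ℕ} (hl : l.Prime) (h5 : 5 ≤ l)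
    (hq : l ∣ Fintype.card F - 1) :
    ¬ l ∣ ((chevF4.diagonalSubgroup F).subgroupOf (chevF4.group F)).index := by
  intro hd
  set C := coreF4 F
  set q := Fintype.card F with hqdef
  have hq1 : 1 < q := Fintype.one_lt_card
  have h4 : chevF4.rank = 4 := by decide +kernel
  have hdiag := card_diagonalF4 F
  have hN : Set.ncard {r | chevF4.IsPosRoot r} = 24 := ncard_isPosRoot (by decide +kernel)
  have hG := C.card_group_mul (q := q) rfl hN (degs := [2, 6, 8, 12]) (fun z => poincareF4 z) hdiag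
  have hle : chevF4.diagonalSubgroup F ≤ chevF4.group F :=
    le_trans le_sup_left C.monomial_le_group
  have h1 := Subgroup.index_mul_card ((chevF4.diagonalSubgroup F).subgroupOf (chevF4.group F))
  rw [Nat.card_congr (Subgroup.subgroupOfEquivOfLe hle).toEquiv] at h1
  rw [one_mul] at hG hdiag
  have hdiag' : Nat.card (chevF4.diagonalSubgroup F) = (q - 1) ^ 4 := hdiag.trans (congrArg _ h4)
  rw [hdiag', hG] at h1
  simp only [List.map_cons, List.map_nil, List.prod_cons, List.prod_nil, mul_one] at h1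
  set i := ((chevF4.diagonalSubgroup F).subgroupOf (chevF4.group F)).index
  let S : ℕ → ℕ := fun d => ∑ j ∈ Finset.range d, q ^ j
  have hS : ∀ d, q ^ d - 1 = S d * (q - 1) := fun d => by
    have h := geom_sum_mul_add (q - 1) d
    rw [Nat.sub_add_cancel hq1.le] at h
    exact Nat.sub_eq_of_eq_add h.symm
  rw [hS, hS, hS, hS] at h1
  have h2 : i * (q - 1) ^ 4 = q ^ 24 * (S 2 * (S 6 * (S 8 * S 12))) * (q - 1) ^ 4 := by
    rw [h1]; ring
  rw [Nat.mul_right_cancel (pow_pos (by omega) 4) h2] at hd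
  have : Fact l.Prime := ⟨hl⟩
  have hqz : (q : ZMod l) = 1 := by
    have : ((q - 1 : ℕ) : ZMod l) = 0 := (ZMod.natCast_eq_zero_iff _ _).2 hq
    rwa [Nat.cast_sub hq1.le, Nat.cast_one, sub_eq_zero] at this
  have hSz : ∀ d, (S d : ZMod l) = (d : ZMod l) := fun d => by simp [S, hqz]
  have hz := (ZMod.natCast_eq_zero_iff _ _).2 hd
  simp only [Nat.cast_mul, Nat.cast_pow, hqz, hSz, one_pow, one_mul] at hz
  rw [← Nat.cast_mul, ← Nat.cast_mul, ← Nat.cast_mul, ZMod.natCast_eq_zero_iff] at hz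
  have h12 : l ∣ 2 * (6 * (8 * 12)) := hz
  have h13 : l ∣ 2 ^ 7 * 3 ^ 2 := h12
  rcases (Nat.Prime.dvd_mul hl).1 h13 with h | h
  · have := Nat.le_of_dvd (by norm_num) (hl.dvd_of_dvd_pow h); omega
  · have := Nat.le_of_dvd (by norm_num) (hl.dvd_of_dvd_pow h); omega

/-- An alternating section survives a field extension with a torus containing the Sylow subgroups. -/
theorem exists_extension {F : Type*} [Field F] [Fintype F] (p : ℕ) [Fact p.Prime] [CharP F p]
    {M : ℕ} (hM : 0 < M) (hp : ¬ p ∣ M) :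
    ∃ (L : Type) (_ : Field L) (_ : Fintype L) (_ : F →+* L), M ∣ Fintype.card L - 1 := by
  have hn : 0 < M.totient := Nat.totient_pos.2 hM
  have : NeZero M.totient := ⟨hn.ne'⟩
  let L := FiniteField.Extension F p M.totient
  have : Finite L := Module.finite_of_finite F
  refine ⟨L, inferInstance, Fintype.ofFinite L, algebraMap F L, ?_⟩
  rw [← @Nat.card_eq_fintype_card L (Fintype.ofFinite L), FiniteField.natCard_extension,
    Nat.card_eq_fintype_card]
  obtain ⟨k, -, hk⟩ := FiniteField.card F p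
  have hc : (Fintype.card F).Coprime M := by
    rw [hk]
    exact ((Nat.Prime.coprime_iff_not_dvd Fact.out).2 hp).pow_left _
  exact (Nat.modEq_iff_dvd' (Nat.one_le_pow _ _ Fintype.card_pos)).1 (Nat.ModEq.pow_totient hc).symm

/-- Elements for degree eleven. -/
theorem alt11_data : ∃ x y : Alt 11, x ^ 11 = 1 ∧ x ≠ 1 ∧ y * x * y⁻¹ = x ^ 3 ∧ y ^ 24 * x ≠ x * y ^ 24 :=
  ⟨tri 0 1 2 * tri 2 3 4 * tri 4 5 6 * tri 6 7 8 * tri 8 9 10,
    tri 1 3 9 * tri 9 5 4 * tri 2 6 7 * tri 7 10 8, by decide +kernel⟩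

/-- Elements for degree twelve. -/
theorem alt12_data : ∃ x₁ x₂ y : Alt 12, x₁ ^ 7 = 1 ∧ x₁ ≠ 1 ∧ x₂ ^ 5 = 1 ∧ x₂ ≠ 1 ∧ x₁ * x₂ = x₂ * x₁ ∧
    y * x₁ * y⁻¹ = x₁ ^ 3 ∧ y * x₂ * y⁻¹ = x₂ ^ 2 ∧
    y ^ 8 * x₁ * (y ^ 8)⁻¹ ≠ x₁ ∧ y ^ 6 * x₂ * (y ^ 6)⁻¹ ≠ x₂ ∧ y ^ 6 * x₁ * (y ^ 6)⁻¹ ≠ x₁⁻¹ :=
  ⟨tri 0 1 2 * tri 2 3 4 * tri 4 5 6, tri 7 8 9 * tri 9 10 11,
    tri 1 3 2 * tri 2 6 4 * tri 4 5 8 * tri 5 8 9 * tri 9 11 10, by decide +kernel⟩

/-- Over a big enough field no alternating section of degree eleven, or twelve in characteristic 11. -/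
theorem f4_no_section {L : Type*} [Field L] [Fintype L] {r : ℕ} (H : Subgroup (chevF4.group L))
    (π : H →* Alt r) (hπ : Function.Surjective π) :
    (11 ∣ Fintype.card L - 1 → r < 11) ∧ (35 ∣ Fintype.card L - 1 → r < 12) := by
  classical
  set C := coreF4 L
  have hctl : Controlled ((chevF4.diagonalSubgroup L).subgroupOf (chevF4.group L)) 24 :=
    controlled_diagonal C fun w hw => weylF4_pow hw
  constructor
  · intro hq
    by_contra hr
    obtain ⟨x, y, hx, hx1, hyx, hne⟩ := alt11_data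
    have : Fact (Nat.Prime 11) := ⟨by norm_num⟩
    let f : Alt 11 →* Alt r := viaA (Fin.castLEEmb (by omega))
    have hf : Function.Injective f := viaA_injective _
    refine no_section hctl (not_dvd_index_diagF4 L (by norm_num) (by norm_num) hq) H π hπ
      (x := f x) (y := f y) (l := 11) ?_ ?_ ?_
    · rw [orderOf_injective f hf, orderOf_eq_prime hx hx1]
    · rw [← map_inv, ← map_mul, ← map_mul, hyx, map_pow]
      exact pow_mem (Subgroup.mem_zpowers _) 3
    · rw [← map_pow, ← map_mul, ← map_mul]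
      exact fun h => hne (hf h)
  · intro hq
    by_contra hr
    obtain ⟨x₁, x₂, y, h1, h1', h2, h2', hc, hy1, hy2, hy8, hy6, hy6'⟩ := alt12_data
    have : Fact (Nat.Prime 7) := ⟨by norm_num⟩
    have : Fact (Nat.Prime 5) := ⟨by norm_num⟩
    let f : Alt 12 →* Alt r := viaA (Fin.castLEEmb (by omega))
    have hf : Function.Injective f := viaA_injective _
    obtain ⟨n, hn, key⟩ := exists_toral hctl
      (fun n : chevF4.group L => (n : GL chevF4.Idx L) ∈ chevF4.monomialSubgroup L)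
      (fun g => by
        obtain ⟨n, hn, hfus⟩ := diagonal_fusion C g.2
        exact ⟨⟨n, C.monomial_le_group hn⟩, hn, fun t ht htg => Subtype.ext (hfus _ ht htg)⟩)
      (not_dvd_index_diagF4 L (l := 7) (by norm_num) (by norm_num) (dvd_trans (by norm_num) hq))
      (not_dvd_index_diagF4 L (l := 5) (by norm_num) le_rfl (dvd_trans (by norm_num) hq))
      (by norm_num) H π hπ (x₁ := f x₁) (x₂ := f x₂) (y := f y)
      (by rw [orderOf_injective f hf, orderOf_eq_prime h1 h1'])
      (by rw [orderOf_injective f hf, orderOf_eq_prime h2 h2'])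
      (by show f x₁ * f x₂ = f x₂ * f x₁; rw [← map_mul, hc, map_mul])
      (by rw [← map_inv, ← map_mul, ← map_mul, hy1, map_pow]; exact pow_mem (Subgroup.mem_zpowers _) 3)
      (by rw [← map_inv, ← map_mul, ← map_mul, hy2, map_pow]; exact pow_mem (Subgroup.mem_zpowers _) 2)
    have hfix : ∀ k, C.rootAction ⟨(n : GL chevF4.Idx L), hn⟩ ^ k = 1 →
        y ^ k * x₁ * (y ^ k)⁻¹ = x₁ ∧ y ^ k * x₂ * (y ^ k)⁻¹ = x₂ := by
      intro k hk
      obtain ⟨e1, e2⟩ := key k 1 fun t ht => Subtype.ext (by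
        push_cast
        rw [zpow_one]
        exact mul_inv_eq_iff_eq_mul.2 (diagonal_comm C _ (pow_mem_diagonal C hn hk) _ ht))
      simp only [zpow_one, ← map_pow, ← map_inv, ← map_mul] at e1 e2
      exact ⟨hf e1, hf e2⟩
    rcases weylF4_cases (rootAction_mem_weyl C ⟨(n : GL chevF4.Idx L), hn⟩) with h | h | h
    · exact hy8 (hfix 8 h).1
    · exact hy6 (hfix 6 h).2
    · obtain ⟨e1, -⟩ := key 6 (-1) fun t ht => Subtype.ext (by
        push_cast
        rw [zpow_neg_one]
        refine inv_of_neg C (pow_mem hn 6) (fun s => ?_) _ ht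
        rw [show (⟨(n : GL chevF4.Idx L) ^ 6, pow_mem hn 6⟩ : chevF4.monomialSubgroup L) =
          (⟨(n : GL chevF4.Idx L), hn⟩ : chevF4.monomialSubgroup L) ^ 6 from rfl, map_pow]
        exact h s)
      simp only [zpow_neg_one, ← map_pow, ← map_inv, ← map_mul] at e1
      exact hy6' (hf e1)

/-- Degree bound of alternating sections of F4. -/
theorem f4_alt_bound {F : Type*} [Field F] [Fintype F] (p : ℕ) [Fact p.Prime] [CharP F p]
    {r : ℕ} (H : Subgroup (chevF4.group F)) (K : Subgroup H) [K.Normal] (h : Nonempty (H ⧸ K ≃* Alt r)) :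
    r ≤ 10 + (if p = 11 then 1 else 0) := by
  obtain ⟨φ⟩ := h
  have hmain : ∀ (L : Type) (_ : Field L) (_ : Fintype L) (_ : F →+* L),
      (11 ∣ Fintype.card L - 1 → r < 11) ∧ (35 ∣ Fintype.card L - 1 → r < 12) := by
    intro L _ _ ι
    let e := H.equivMapOfInjective (groupMap ι) (groupMap_injective ι)
    exact f4_no_section (H.map (groupMap ι))
      ((φ.toMonoidHom.comp (QuotientGroup.mk' K)).comp e.symm.toMonoidHom)
      ((φ.surjective.comp (QuotientGroup.mk'_surjective K)).comp e.symm.surjective)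
  have hp : p.Prime := Fact.out
  split_ifs with h11
  · subst h11
    obtain ⟨L, i1, i2, ι, hd⟩ := exists_extension (F := F) 11 (M := 35) (by norm_num) (by norm_num)
    have := (hmain L i1 i2 ι).2 hd
    omega
  · obtain ⟨L, i1, i2, ι, hd⟩ := exists_extension (F := F) p (M := 11) (by norm_num)
      (fun hd => h11 ((Nat.prime_dvd_prime_iff_eq hp (by norm_num)).1 hd))
    have := (hmain L i1 i2 ι).1 hd
    omega

end CfsgLib.AltExceptional
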