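import Cfsg.Agent.Lib.AltExceptional.F4Keys

/-! The test on powers of the entries of the table. -/

set_option autoImplicit false

namespace CfsgLib.AltExceptional

set_option maxRecDepth 20000 in
theorem powers_part0 : f4Part0.all powersAt = true := by decide +kernel

set_option maxRecDepth 20000 in
theorem powers_part1 : f4Part1.all powersAt = true := by decide +kernel

set_option maxRecDepth 20000 in
theorem powers_part2 : f4Part2.all powersAt = true := by decide +kernel

set_option maxRecDepth 20000 in
theorem powers_part3 : f4Part3.all powersAt = true := by decide +kernel

set_option maxRecDepth 20000 in
theorem powers_part4 : f4Part4.all powersAt = true := by decide +kernel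

set_option maxRecDepth 20000 in
theorem powers_part5 : f4Part5.all powersAt = true := by decide +kernel

set_option maxRecDepth 20000 in
theorem powers_part6 : f4Part6.all powersAt = true := by decide +kernel

set_option maxRecDepth 20000 in
theorem powers_part7 : f4Part7.all powersAt = true := by decide +kernel

set_option maxRecDepth 20000 in
theorem powers_part8 : f4Part8.all powersAt = true := by decide +kernel

set_option maxRecDepth 20000 in
theorem powers_part9 : f4Part9.all powersAt = true := by decide +kernel

set_option maxRecDepth 20000 in
theorem powers_part10 : f4Part10.all powersAt = true := by decide +kernel

set_option maxRecDepth 20000 in
theorem powers_part11 : f4Part11.all powersAt = true := by decide +kernel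

set_option maxRecDepth 20000 in
theorem powers_part12 : f4Part12.all powersAt = true := by decide +kernel

set_option maxRecDepth 20000 in
theorem powers_part13 : f4Part13.all powersAt = true := by decide +kernel

set_option maxRecDepth 20000 in
theorem powers_part14 : f4Part14.all powersAt = true := by decide +kernel

set_option maxRecDepth 20000 in
theorem powers_part15 : f4Part15.all powersAt = true := by decide +kernel

theorem powers_keys : ([585039045109575090389521, 586183827448504427954705, 586218484966573702857263, 587362114349915620983343, 587363337113564943434288, 622782236405889439842833, 622816895015773762239024, 625105376543907895527920, 625106600399372264423922, 659416352151820580698672, 660560122306868924660272, 660595793100636352428623, 661704975543476186268145, 661740646338343127761425, 662884416459308659132881] : List ℕ).all powersAt = true := by decide +kernel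

theorem table_powers : f4Table.all powersAt = true := by
  have hk := powers_keys
  simp only [List.all_cons, List.all_nil, Bool.and_true, Bool.and_eq_true] at hk
  simp only [f4Table, KeyTree.all, hk, Bool.and_true, powers_part0, powers_part1, powers_part2, powers_part3, powers_part4, powers_part5, powers_part6, powers_part7, powers_part8, powers_part9, powers_part10, powers_part11, powers_part12, powers_part13, powers_part14, powers_part15]

end CfsgLib.AltExceptional
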