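import Cfsg.Agent.Lib.AltExceptional.F4Closed
import Cfsg.Agent.Lib.AltExceptional.F4Powers

/-!
Kernel checks on the packed Weyl group table of type F4: closure under the fundamental reflections
and the test on powers.
-/
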