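import Cfsg.Agent.Lib.AltExceptional.F4Keys

/-! Closure of the table under the fundamental reflections. -/

set_option autoImplicit false

namespace CfsgLib.AltExceptional

set_option maxRecDepth 20000 in
theorem closed_part0 : f4Part0.all closedAt = true := by decide +kernel

set_option maxRecDepth 20000 in
theorem closed_part1 : f4Part1.all closedAt = true := by decide +kernel

set_option maxRecDepth 20000 in
theorem closed_part2 : f4Part2.all closedAt = true := by decide +kernel

set_option maxRecDepth 20000 in
theorem closed_part3 : f4Part3.all closedAt = true := by decide +kernel

set_option maxRecDepth 20000 in
theorem closed_part4 : f4Part4.all closedAt = true := by decide +kernel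

set_option maxRecDepth 20000 in
theorem closed_part5 : f4Part5.all closedAt = true := by decide +kernel

set_option maxRecDepth 20000 in
theorem closed_part6 : f4Part6.all closedAt = true := by decide +kernel

set_option maxRecDepth 20000 in
theorem closed_part7 : f4Part7.all closedAt = true := by decide +kernel

set_option maxRecDepth 20000 in
theorem closed_part8 : f4Part8.all closedAt = true := by decide +kernel

set_option maxRecDepth 20000 in
theorem closed_part9 : f4Part9.all closedAt = true := by decide +kernel

set_option maxRecDepth 20000 in
theorem closed_part10 : f4Part10.all closedAt = true := by decide +kernel

set_option maxRecDepth 20000 in
theorem closed_part11 : f4Part11.all closedAt = true := by decide +kernel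

set_option maxRecDepth 20000 in
theorem closed_part12 : f4Part12.all closedAt = true := by decide +kernel

set_option maxRecDepth 20000 in
theorem closed_part13 : f4Part13.all closedAt = true := by decide +kernel

set_option maxRecDepth 20000 in
theorem closed_part14 : f4Part14.all closedAt = true := by decide +kernel

set_option maxRecDepth 20000 in
theorem closed_part15 : f4Part15.all closedAt = true := by decide +kernel

theorem closed_keys : ([585039045109575090389521, 586183827448504427954705, 586218484966573702857263, 587362114349915620983343, 587363337113564943434288, 622782236405889439842833, 622816895015773762239024, 625105376543907895527920, 625106600399372264423922, 659416352151820580698672, 660560122306868924660272, 660595793100636352428623, 661704975543476186268145, 661740646338343127761425, 662884416459308659132881] : List ℕ).all closedAt = true := by decide +kernel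

theorem table_closed : f4Table.all closedAt = true := by
  have hk := closed_keys
  simp only [List.all_cons, List.all_nil, Bool.and_true, Bool.and_eq_true] at hk
  simp only [f4Table, KeyTree.all, hk, Bool.and_true, closed_part0, closed_part1, closed_part2, closed_part3, closed_part4, closed_part5, closed_part6, closed_part7, closed_part8, closed_part9, closed_part10, closed_part11, closed_part12, closed_part13, closed_part14, closed_part15]

end CfsgLib.AltExceptional
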