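import Cfsg.Agent.Lib.AltExceptional.F4Table

/-!
The tests on the packed Weyl group table of type F4.
-/

set_option autoImplicit false

namespace CfsgLib.AltExceptional

/-- An entry of a packed matrix. -/
def keyEnt (n a j : ℕ) : ℤ := ((n / 32 ^ (4 * a + j) % 32 : ℕ) : ℤ) - 16

/-- Packing of a matrix. -/
def keyOf (f : ℕ → ℕ → ℤ) : ℕ :=
  ((List.range 16).map fun k => (f (k / 4) (k % 4) + 16).toNat * 32 ^ k).sum

/-- The packing is faithful on a given matrix. -/
def keyFits (f : ℕ → ℕ → ℤ) : Bool :=
  (List.range 4).all fun a => (List.range 4).all fun j => keyEnt (keyOf f) a j == f a j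

/-- The Cartan matrix of type F4. -/
def cartan4 (i j : ℕ) : ℤ :=
  ([[2, -1, 0, 0], [-1, 2, -2, 0], [0, -1, 2, -1], [0, 0, -1, 2]].getD i []).getD j 0

/-- Right multiplication by a fundamental reflection. -/
def stepEnt (n i a j : ℕ) : ℤ := keyEnt n a j - cartan4 i j * keyEnt n a i

/-- Entries of a product. -/
def mulEnt (n m a j : ℕ) : ℤ :=
  keyEnt n a 0 * keyEnt m 0 j + keyEnt n a 1 * keyEnt m 1 j + keyEnt n a 2 * keyEnt m 2 j +
    keyEnt n a 3 * keyEnt m 3 j

/-- Closure under the fundamental reflections. -/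
def closedAt (n : ℕ) : Bool :=
  (List.range 4).all fun i => keyFits (stepEnt n i) && f4Table.has (keyOf (stepEnt n i))

/-- The identity, packed. -/
def keyOne : ℕ := keyOf fun a j => if a = j then 1 else 0

/-- Minus the identity, packed. -/
def keyNeg : ℕ := keyOf fun a j => if a = j then -1 else 0

/-- The test on powers. -/
def powersAt (n : ℕ) : Bool :=
  let p2 := keyOf (mulEnt n n)
  let p4 := keyOf (mulEnt p2 p2)
  let p8 := keyOf (mulEnt p4 p4)
  let p6 := keyOf (mulEnt p4 p2)
  keyFits (mulEnt n n) && keyFits (mulEnt p2 p2) && keyFits (mulEnt p4 p4) && keyFits (mulEnt p4 p2) &&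
    (p8 == keyOne || p6 == keyOne || p6 == keyNeg)

theorem keyOne_mem : f4Table.has keyOne = true ∧ keyFits (fun a j => if a = j then 1 else 0) = true ∧
    keyFits (fun a j => if a = j then -1 else 0) = true := by decide +kernel

end CfsgLib.AltExceptional
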