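import Cfsg.Agent.Lib.AltExceptional.G2Torus
import Cfsg.Agent.Lib.AltExceptional.TwoPrimes
import Cfsg.Agent.Lib.ChevStr.Orders
import Cfsg.Agent.Lib.KnownSimple.ChevBorelTits

/-!
Sylow subgroups of G2 for the primes 3 and at least 5 relative to the monomial group and the torus,
and conjugation of a 3-group normalising a unipotent subgroup into the torus.
-/

set_option autoImplicit false

namespace CfsgLib.AltExceptional

open Cfsg.Lie CfsgLib.ChevStr CfsgLib.KnownSimple
open scoped MatrixGroups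

variable (F : Type*) [Field F] [Fintype F]

theorem g2_orders :
    Nat.card (chevG2.group F) = Fintype.card F ^ 6 * ((Fintype.card F + 1) *
      ((Fintype.card F + 1) * (Fintype.card F ^ 4 + Fintype.card F ^ 2 + 1))) * (Fintype.card F - 1) ^ 2 ∧
    Nat.card (chevG2.diagonalSubgroup F) = (Fintype.card F - 1) ^ 2 ∧
    Nat.card (chevG2.borelSubgroup F) = Fintype.card F ^ 6 * (Fintype.card F - 1) ^ 2 := by
  set C := coreG2 F
  have hdiag := card_diagonalG2 F
  have hN : Set.ncard {r | chevG2.IsPosRoot r} = 6 := ncard_isPosRoot (by decide +kernel)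
  have hG := C.card_group_mul (q := Fintype.card F) rfl hN (degs := [2, 6]) (fun z => poincareG2 z) hdiag
  rw [one_mul] at hG hdiag
  have hd : Nat.card (chevG2.diagonalSubgroup F) = (Fintype.card F - 1) ^ 2 :=
    hdiag.trans (congrArg _ rankG2)
  refine ⟨?_, hd, by rw [C.card_borel, hN, hd]⟩
  rw [hG]
  simp only [List.map_cons, List.map_nil, List.prod_cons, List.prod_nil, mul_one]
  obtain ⟨a, ha⟩ : ∃ a, Fintype.card F = a + 1 := ⟨Fintype.card F - 1, by have := Fintype.card_pos (α := F); omega⟩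
  rw [ha, Nat.add_sub_cancel]
  have e2 : (a + 1) ^ 2 - 1 = (a + 1 + 1) * a := Nat.sub_eq_of_eq_add (by ring)
  have e6 : (a + 1) ^ 6 - 1 = (a + 1 + 1) * ((a + 1) ^ 4 + (a + 1) ^ 2 + 1) * a :=
    Nat.sub_eq_of_eq_add (by ring)
  rw [e2, e6]
  ring

/-- The torus contains a Sylow subgroup for a prime `l ≥ 5` dividing `q - 1`. -/
theorem not_dvd_index_diagG2 {l : ℕ} (hl : l.Prime) (h5 : 5 ≤ l) (hq : l ∣ Fintype.card F - 1) :
    ¬ l ∣ ((chevG2.diagonalSubgroup F).subgroupOf (chevG2.group F)).index := by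
  intro hd
  obtain ⟨hG, hT, -⟩ := g2_orders F
  have hle : chevG2.diagonalSubgroup F ≤ chevG2.group F :=
    le_trans le_sup_left (coreG2 F).monomial_le_group
  have h1 := Subgroup.index_mul_card ((chevG2.diagonalSubgroup F).subgroupOf (chevG2.group F))
  rw [Nat.card_congr (Subgroup.subgroupOfEquivOfLe hle).toEquiv, hT, hG] at h1
  have hq1 : 1 < Fintype.card F := Fintype.one_lt_card
  rw [Nat.mul_right_cancel (pow_pos (by omega) 2) h1] at hd
  have : Fact l.Prime := ⟨hl⟩
  have hqz : (Fintype.card F : ZMod l) = 1 := by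
    have : ((Fintype.card F - 1 : ℕ) : ZMod l) = 0 := (ZMod.natCast_eq_zero_iff _ _).2 hq
    rwa [Nat.cast_sub hq1.le, Nat.cast_one, sub_eq_zero] at this
  have hz := (ZMod.natCast_eq_zero_iff _ _).2 hd
  simp only [Nat.cast_mul, Nat.cast_add, Nat.cast_pow, Nat.cast_one, hqz, one_pow, one_mul] at hz
  norm_num at hz
  have h12 : ((12 : ℕ) : ZMod l) = 0 := by exact_mod_cast hz
  have h13 : l ∣ 2 ^ 2 * 3 := (ZMod.natCast_eq_zero_iff _ _).1 h12
  rcases (Nat.Prime.dvd_mul hl).1 h13 with h | h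
  · have := Nat.le_of_dvd (by norm_num) (hl.dvd_of_dvd_pow h); omega
  · have := Nat.le_of_dvd (by norm_num) h; omega

/-- The monomial group contains a Sylow 3-subgroup if `q ≡ 1 (mod 3)`. -/
theorem not_dvd_index_monoG2 (hq : 3 ∣ Fintype.card F - 1) :
    ¬ 3 ∣ ((chevG2.monomialSubgroup F).subgroupOf (chevG2.group F)).index := by
  intro hd
  obtain ⟨hG, hT, -⟩ := g2_orders F
  set C := coreG2 F
  set q := Fintype.card F
  have h1 := Subgroup.index_mul_card ((chevG2.monomialSubgroup F).subgroupOf (chevG2.group F))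
  rw [Nat.card_congr (Subgroup.subgroupOfEquivOfLe C.monomial_le_group).toEquiv] at h1
  set i := ((chevG2.monomialSubgroup F).subgroupOf (chevG2.group F)).index
  have h2 := Subgroup.index_mul_card C.rootAction.ker
  have hker : C.rootAction.ker = C.diagIn := by
    refine le_antisymm (fun n hn => C.mem_diagonal_of_moves_one n.2 ?_) C.diagIn_le_ker
    have := C.moves_permOf n
    change C.Moves _ (C.rootAction n) at this
    rwa [MonoidHom.mem_ker.1 hn] at this
  have hdle : chevG2.diagonalSubgroup F ≤ chevG2.monomialSubgroup F := le_sup_left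
  rw [Subgroup.index_ker, hker, ChevCore.diagIn, Nat.card_congr (Subgroup.subgroupOfEquivOfLe hdle).toEquiv, hT] at h2
  have h3 : 3 ∣ Nat.card C.rootAction.range := by
    have hmem : g2Rot ∈ C.rootAction.range := by
      obtain ⟨m, hm, hact⟩ := C.exists_rep (w := g2Rot) g2Rot_mem'
      exact ⟨⟨m, C.rep_mem_monomial hm⟩, C.rootAction_eq (ChevCore.Acts.moves C hact)⟩
    have ho : orderOf (⟨g2Rot, hmem⟩ : C.rootAction.range) = 3 := by
      rw [Subgroup.orderOf_mk]
      exact orderOf_eq_prime (g2Same_iff.1 (by decide +kernel)) g2Rot_ne_one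
    rw [← ho]; exact orderOf_dvd_natCard _
  obtain ⟨a, ha⟩ := hd
  obtain ⟨b, hb⟩ := h3
  rw [← h2, hb, hG, ha] at h1
  have hq1 : 1 < q := Fintype.one_lt_card
  have h4 : 9 * (a * b) * (q - 1) ^ 2 = q ^ 6 * ((q + 1) * ((q + 1) * (q ^ 4 + q ^ 2 + 1))) * (q - 1) ^ 2 := by
    rw [← h1]; ring
  have h5 := Nat.mul_right_cancel (pow_pos (by omega) 2) h4
  have h6 : (q ^ 6 * ((q + 1) * ((q + 1) * (q ^ 4 + q ^ 2 + 1)))) % 9 = 0 := by omega
  have hm : q % 9 = 1 ∨ q % 9 = 4 ∨ q % 9 = 7 := by omega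
  rcases hm with h | h | h <;>
    simp [Nat.mul_mod, Nat.add_mod, Nat.pow_mod, h] at h6

omit [Fintype F] in
/-- A fundamental representative moves its root subgroup out of the Borel subgroup. -/
theorem nS_conj_not_mem {D : ChevalleyDatum} (C : ChevCore D F) (i : Fin D.rank) {t : F} (ht : t ≠ 0) :
    C.nS i * C.xGL (D.simple i.val) t * (C.nS i)⁻¹ ∉ D.borelSubgroup F := by
  intro h
  obtain ⟨-, e, he⟩ := C.acts_nS i
  obtain ⟨he1, -, he2⟩ := he (C.pRoot i)
  have h2 : C.nS i * C.xGL (D.simple i.val) t * (C.nS i)⁻¹ =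
      C.xGL (D.neg (D.simple i.val)) ((e (C.pRoot i) : F) * t) := by
    have := he2 t
    rwa [C.sPerm_pRoot] at this
  rw [h2] at h
  have hneg : D.IsNegRoot (D.neg (D.simple i.val)) :=
    (C.R.isNeg_neg_iff (C.R.simple_lt i)).2 (C.R.simple_pos i)
  have h1 := (Subgroup.eq_bot_iff_forall _).1 C.borel_inf_negUnipotent _
    (Subgroup.mem_inf.2 ⟨h, C.xGL_mem_negUnipotent hneg _⟩)
  rw [C.xGL_eq_one_iff (C.R.neg_lt _ (C.R.simple_lt i))] at h1
  rcases he1 with h | h <;> simp [h, ht] at h1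

/-- A Borel subgroup has index one or `q + 1` in a parabolic subgroup of rank at most one. -/
theorem borel_relIndex {D : ChevalleyDatum} (C : ChevCore D F) (J : Set ℕ) (i : Fin D.rank)
    (hJ : ∀ j ∈ J, j < D.rank → j = i.val) :
    (D.borelSubgroup F).relIndex (D.parabolicSubgroup F J) = 1 ∨
      (D.borelSubgroup F).relIndex (D.parabolicSubgroup F J) = Fintype.card F + 1 := by
  classical
  by_cases hi : i.val ∈ J
  swap
  · left
    rw [Subgroup.relIndex_eq_one]
    refine sup_le le_rfl ((Subgroup.closure_le _).2 ?_)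
    rintro g ⟨j, hj, hjl, -⟩
    exact absurd (hJ j hj hjl ▸ hj) hi
  right
  set n := C.nS i
  set p := D.simple i.val
  set B := D.borelSubgroup F
  have hnB : n ∉ B := fun h =>
    nS_conj_not_mem F C i one_ne_zero
      (mul_mem (mul_mem h (C.pos_mem_borel (C.R.simple_pos i) 1)) (inv_mem h))
  have hn := C.nS_mem_monomial i
  obtain ⟨d, hd⟩ := C.nS_inv i
  change n⁻¹ = C.R.torus d * n at hd
  have hflip : ∀ x, n⁻¹ * x * n = C.R.torus d * (n * x * n⁻¹) * (C.R.torus d)⁻¹ := fun x => by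
    calc n⁻¹ * x * n = n⁻¹ * x * (n⁻¹)⁻¹ := by rw [inv_inv]
      _ = _ := by conv_lhs => rw [hd]
                  group
  have hconj : ∀ x, n * x * n⁻¹ ∈ B → n⁻¹ * x * n ∈ B := fun x hx => by
    rw [hflip]
    exact mul_mem (mul_mem (C.torus_mem_borel d) hx) (inv_mem (C.torus_mem_borel d))
  have hcell : ∀ g ∈ D.parabolicSubgroup F J, g ∈ B ∨ ∃ b₁ ∈ B, ∃ b₂ ∈ B, g = b₁ * n * b₂ := by
    let S : Subgroup (GL D.Idx F) :=
      { carrier := {g | g ∈ B ∨ ∃ b₁ ∈ B, ∃ b₂ ∈ B, g = b₁ * n * b₂}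
        one_mem' := Or.inl (one_mem _)
        mul_mem' := by
          rintro g h (hg | ⟨b₁, h₁, b₂, h₂, rfl⟩) (hh | ⟨c₁, k₁, c₂, k₂, rfl⟩)
          · exact Or.inl (mul_mem hg hh)
          · exact Or.inr ⟨g * c₁, mul_mem hg k₁, c₂, k₂, by group⟩
          · exact Or.inr ⟨b₁, h₁, b₂ * h, mul_mem h₂ hh, by group⟩
          · rcases C.nS_mul_mem i hn (mul_mem h₂ k₁) with hc | hc
            · obtain ⟨x, hx, y, hy, e⟩ := C.mem_bigCell.1 hc
              left
              obtain ⟨k, hk⟩ := C.nS_mul_self_mem i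
              rw [show b₁ * n * b₂ * (c₁ * n * c₂) = b₁ * (n * (b₂ * c₁) * n) * c₂ by group, e, ← hk]
              exact mul_mem (mul_mem h₁ (mul_mem (mul_mem hx (C.torus_mem_borel k)) hy)) k₂
            · obtain ⟨x, hx, y, hy, e⟩ := C.mem_bigCell.1 hc
              change n * (b₂ * c₁) * n = x * n * y at e
              right
              refine ⟨b₁ * x, mul_mem h₁ hx, y * c₂, mul_mem hy k₂, ?_⟩
              rw [show b₁ * n * b₂ * (c₁ * n * c₂) = b₁ * (n * (b₂ * c₁) * n) * c₂ by group, e]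
              group
        inv_mem' := by
          rintro g (hg | ⟨b₁, h₁, b₂, h₂, rfl⟩)
          · exact Or.inl (inv_mem hg)
          · exact Or.inr ⟨b₂⁻¹ * C.R.torus d, mul_mem (inv_mem h₂) (C.torus_mem_borel d), b₁⁻¹, inv_mem h₁, by
              rw [mul_inv_rev, mul_inv_rev, hd]; group⟩ }
    suffices D.parabolicSubgroup F J ≤ S from fun g hg => this hg
    refine sup_le (fun g hg => Or.inl hg) ((Subgroup.closure_le _).2 ?_)
    rintro g ⟨j, hj, hjl, hg⟩
    refine Or.inr ⟨1, one_mem _, 1, one_mem _, ?_⟩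
    rw [show g = n from Units.ext (by rw [hg, C.coe_nS, hJ j hj hjl]), one_mul, mul_one]
  have hBP : B ≤ D.parabolicSubgroup F J := le_sup_left
  have hnP : n ∈ D.parabolicSubgroup F J := C.nS_mem_parabolic (by simp [finSet, hi])
  let P := D.parabolicSubgroup F J
  let f : Option F → ↥P ⧸ B.subgroupOf P := fun o =>
    o.elim (QuotientGroup.mk (1 : P)) fun t =>
      QuotientGroup.mk (⟨C.xGL p t * n, mul_mem (hBP (C.pos_mem_borel (C.R.simple_pos i) t)) hnP⟩ : P)
  have hf : Function.Bijective f := by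
    refine ⟨?_, fun z => ?_⟩
    · have h0 : ∀ t, C.xGL p t * n ∉ B := fun t h => hnB (by
        have := mul_mem (inv_mem (C.pos_mem_borel (C.R.simple_pos i) t)) h
        rwa [inv_mul_cancel_left] at this)
      rintro (_ | t) (_ | u) h
      · rfl
      · exact absurd (by simpa [f, QuotientGroup.eq, Subgroup.mem_subgroupOf] using h) (h0 u)
      · refine absurd ?_ (h0 t)
        have := QuotientGroup.eq.1 h.symm
        simpa [Subgroup.mem_subgroupOf] using this
      · congr 1
        have h' := QuotientGroup.eq.1 h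
        rw [Subgroup.mem_subgroupOf] at h'
        push_cast at h'
        have h2 : n⁻¹ * C.xGL p (-t + u) * n ∈ B := by
          rw [C.xGL_add, ← C.xGL_inv]
          simpa [mul_assoc] using h'
        have h3 : n * C.xGL p (-t + u) * n⁻¹ ∈ B := by
          have := mul_mem (mul_mem (inv_mem (C.torus_mem_borel d)) h2) (C.torus_mem_borel d)
          rw [hflip] at this
          simpa [mul_assoc] using this
        by_contra hne
        exact nS_conj_not_mem F C i (fun e => hne (by linear_combination -e)) h3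
    · induction z using QuotientGroup.induction_on with | _ g => ?_
      rcases hcell g g.2 with hg | ⟨b₁, h₁, b₂, h₂, hg⟩
      · exact ⟨none, QuotientGroup.eq.2 (by simpa [Subgroup.mem_subgroupOf] using hg)⟩
      obtain ⟨v, hv, t, c, rfl⟩ := C.borel_decomp i h₁
      refine ⟨some t, QuotientGroup.eq.2 ?_⟩
      rw [Subgroup.mem_subgroupOf]
      push_cast
      rw [hg]
      have hv' : (C.xGL p t)⁻¹ * v * C.xGL p t ∈ C.Usub i := by
        have := (Subgroup.mem_normalizer_iff.1 (C.rootSubgroup_le_normalizer_Usub i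
          (inv_mem (C.mem_rootSubgroup.2 ⟨t, rfl⟩))) v).1 hv
        simpa using this
      rw [show (C.xGL p t * n)⁻¹ * (v * C.xGL p t * C.R.torus c * n * b₂) =
        n⁻¹ * ((C.xGL p t)⁻¹ * v * C.xGL p t) * n * (n⁻¹ * C.R.torus c * n) * b₂ by group]
      refine mul_mem (mul_mem (hconj _ ?_) ?_) h₂
      · exact le_sup_left (b := D.diagonalSubgroup F) (C.Usub_le i (C.nS_conj_Usub i _ hv'))
      · simpa using C.conj_torus_mem_borel (inv_mem hn) c
  rw [Subgroup.relIndex, Subgroup.index_eq_card, ← Nat.card_eq_of_bijective f hf, Finite.card_option,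
    Nat.card_eq_fintype_card]

/-- A 3-group normalising a nontrivial unipotent subgroup is conjugate into the torus. -/
theorem exists_conj_diag (p : ℕ) [Fact p.Prime] [CharP F p] (hp : p ≠ 3) (hq : 3 ∣ Fintype.card F - 1)
    {Q U : Subgroup (GL chevG2.Idx F)} (hQG : Q ≤ chevG2.group F) (hQ : IsPGroup 3 Q)
    (hUG : U ≤ chevG2.group F) (hU : IsPGroup p U) (hne : U ≠ ⊥)
    (hQU : ∀ x ∈ Q, ∀ u ∈ U, x * u = u * x) :
    ∃ c ∈ chevG2.group F, ∀ x ∈ Q, c * x * c⁻¹ ∈ chevG2.diagonalSubgroup F := by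
  have : Fact (Nat.Prime 3) := ⟨by norm_num⟩
  set C := coreG2 F
  obtain ⟨g, hg, J, ⟨j₀, hj₀, hj₀J⟩, hN, -⟩ := ChevBorelTits.exists_parabolic C p hUG hU hne
  set P := chevG2.parabolicSubgroup F J
  have h1 : ∀ x ∈ Q, g⁻¹ * x * g ∈ P := by
    intro x hx
    have hxN : x ∈ Subgroup.normalizer (U : Set (GL chevG2.Idx F)) :=
      Subgroup.mem_normalizer_iff.2 fun u => by
        refine ⟨fun hu => ?_, fun hu => ?_⟩
        · rw [hQU x hx u hu, mul_inv_cancel_right]; exact hu
        · have h := hQU x hx _ hu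
          rw [show u = x⁻¹ * (x * u * x⁻¹) * x by group]
          rw [mul_assoc, ← h, inv_mul_cancel_left]; exact hu
    obtain ⟨z, hz, rfl⟩ := hN (Subgroup.mem_inf.2 ⟨hxN, hQG hx⟩)
    simpa [mul_assoc] using hz
  let Q₁ : Subgroup (GL chevG2.Idx F) := Q.map (MulAut.conj g⁻¹).toMonoidHom
  have hQ₁ : IsPGroup 3 Q₁ := hQ.map _
  have hPG : P ≤ chevG2.group F := sup_le C.borel_le_group ((Subgroup.closure_le _).2 (by
    rintro x ⟨j, -, hjl, hx⟩
    rw [show x = C.nS ⟨j, hjl⟩ from Units.ext (by rw [hx, C.coe_nS])]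
    exact C.nGL_mem_group _ _))
  obtain ⟨i, hi⟩ : ∃ i : Fin chevG2.rank, ∀ j ∈ J, j < chevG2.rank → j = i.val := by
    refine ⟨⟨1 - j₀, by have := rankG2; omega⟩, fun j hj hjl => ?_⟩
    have h2 : j ≠ j₀ := fun e => hj₀J (e ▸ hj)
    have := rankG2
    show j = 1 - j₀
    omega
  obtain ⟨hG, hT, hB⟩ := g2_orders F
  have hTB : chevG2.diagonalSubgroup F ≤ chevG2.borelSubgroup F := le_sup_right
  have hidx : ¬ 3 ∣ ((chevG2.diagonalSubgroup F).subgroupOf P).index := by
    rw [← Subgroup.relIndex, ← Subgroup.relIndex_mul_relIndex _ _ P hTB le_sup_left]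
    refine Nat.Prime.not_dvd_mul (by norm_num) ?_ ?_
    · intro hd
      have h2 := Subgroup.index_mul_card ((chevG2.diagonalSubgroup F).subgroupOf (chevG2.borelSubgroup F))
      rw [Nat.card_congr (Subgroup.subgroupOfEquivOfLe hTB).toEquiv, hT, hB] at h2
      have hq1 : 1 < Fintype.card F := Fintype.one_lt_card
      rw [Subgroup.relIndex, Nat.mul_right_cancel (pow_pos (by omega) 2) h2] at hd
      obtain ⟨k, -, hk⟩ := FiniteField.card F p
      rw [hk, ← pow_mul] at hd
      exact hp ((Nat.prime_dvd_prime_iff_eq (by norm_num) Fact.out).1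
        (Nat.Prime.dvd_of_dvd_pow (by norm_num) hd)).symm
    · have h := borel_relIndex F C J i hi
      rcases h with h | h <;> rw [h] <;> omega
  obtain ⟨c, hc⟩ := exists_conj_le 3 (P := Q₁.subgroupOf P) (T := (chevG2.diagonalSubgroup F).subgroupOf P)
    hQ₁.comap_subtype hidx
  refine ⟨c * g⁻¹, mul_mem (hPG c.2) (inv_mem hg), fun x hx => ?_⟩
  have h2 := hc ⟨g⁻¹ * x * g, h1 x hx⟩ ⟨x, hx, by simp⟩
  rw [Subgroup.mem_subgroupOf] at h2
  simpa [mul_assoc] using h2

end CfsgLib.AltExceptional
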