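import Cfsg.Agent.Lib.AltExceptional.Automizer
import Cfsg.Agent.Lib.TwistedStr.StrF4

/-!
The torus of the large Ree groups controls fusion in itself through a group of order 16.
-/

set_option autoImplicit false

namespace CfsgLib.AltExceptional

open Cfsg.Lie CfsgLib.ChevStr CfsgLib.Twisted
open scoped MatrixGroups

variable (K : Type*) [Field K] [Fintype K] [CharP K 2] {m : ℕ}
  (hn : Fintype.card K = 2 * (2 ^ m * 2 ^ m))

theorem card_twistSetF4 : (twistSet reflDataF4 rhoF4).card = 16 := by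
  have h := sum_twistSetF4 (fun _ => 1)
  simp only [Finset.sum_const, smul_eq_mul, mul_one] at h
  rw [h]
  decide +kernel

include hn

theorem controlledF4 :
    Controlled ((chevF4.diagonalSubgroup K ⊓ twistedF4 K (2 ^ m)).subgroupOf (twistedF4 K (2 ^ m))) 16 := by
  classical
  have g := gensF4 K hn
  set C := coreF4 K
  have habel : ∀ a ∈ chevF4.diagonalSubgroup K, ∀ b ∈ chevF4.diagonalSubgroup K, a * b = b * a := by
    intro a ha b hb
    rw [C.diagonalSubgroup_eq] at ha hb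
    obtain ⟨c, rfl⟩ := ha
    obtain ⟨d, rfl⟩ := hb
    rw [← map_mul, ← map_mul, mul_comm]
  refine ⟨fun a ha b hb => Subtype.ext (habel _ ha.1 _ hb.1), fun x => ?_⟩
  obtain ⟨u, hu, n, hn', v, hv, -, hx⟩ := g.twist.nf x.2
  refine ⟨⟨n, hn'.2⟩, fun t ht => Subtype.ext ?_, fun t ht htx => Subtype.ext ?_⟩
  · refine habel _ ?_ _ ht.1
    obtain ⟨w, hw, -⟩ := C.exists_moves hn'.1
    let W : Subgroup (Equiv.Perm (Fin chevF4.nroots)) := C.hR.weyl ⊓ Subgroup.centralizer {rhoF4}
    have hW : Nat.card W = 16 := by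
      rw [← card_twistSetF4, show Nat.card W = Nat.card (W : Set (Equiv.Perm (Fin chevF4.nroots))) from rfl,
        Nat.card_coe_set_eq, ← Set.ncard_coe_finset]
      congr 1
      ext w'
      simp only [W, Subgroup.coe_inf, Set.mem_inter_iff, SetLike.mem_coe, Subgroup.mem_centralizer_singleton_iff,
        Finset.mem_coe, mem_twistSet]
      exact and_congr_right fun _ => ⟨fun h => h.symm, fun h => h.symm⟩
    have hwW : w ∈ W := ⟨hw.1, Subgroup.mem_centralizer_singleton_iff.2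
      ((frobF4 K m).commute_of_fixed hn'.1 hw (g.le_fixed hn'.2).2).symm⟩
    have hw16 : w ^ 16 = 1 := by
      have : (⟨w, hwW⟩ : W) ^ 16 = 1 := by rw [← hW]; exact pow_card_eq_one'
      exact congrArg Subtype.val this
    have hmem : (⟨n, hn'.1⟩ : chevF4.monomialSubgroup K) ^ 16 ∈ C.rootAction.ker := by
      rw [MonoidHom.mem_ker, map_pow, C.rootAction_eq (n := ⟨n, hn'.1⟩) hw, hw16]
    rw [Subgroup.coe_pow]
    exact C.mem_diagonal_of_moves_one (pow_mem hn'.1 16) (by
      have h1 := C.moves_permOf ((⟨n, hn'.1⟩ : chevF4.monomialSubgroup K) ^ 16)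
      change C.Moves _ (C.rootAction ((⟨n, hn'.1⟩ : chevF4.monomialSubgroup K) ^ 16)) at h1
      rw [MonoidHom.mem_ker.1 hmem] at h1
      exact h1)
  · set A := chevAmbient C
    have htH : (t : GL chevF4.Idx K) ∈ A.H := ht.1
    have ht'H : ((x * t * x⁻¹ : twistedF4 K (2 ^ m)) : GL chevF4.Idx K) ∈ A.H := htx.1
    set a := (t : GL chevF4.Idx K)
    set b := ((x * t * x⁻¹ : twistedF4 K (2 ^ m)) : GL chevF4.Idx K) with hb
    have hrel : u * (n * a) * (a⁻¹ * v * a) = b * u * b⁻¹ * (b * n) * v := by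
      have e1 : b * (u * n * v) = u * n * v * a := by
        rw [hb]
        push_cast
        rw [hx, inv_mul_cancel_right]
      calc u * (n * a) * (a⁻¹ * v * a) = u * n * v * a := by group
        _ = b * (u * n * v) := e1.symm
        _ = _ := by group
    have hu' : b * u * b⁻¹ ∈ A.U := A.H_conj_U b ht'H u hu.1
    have hv' : a⁻¹ * v * a ∈ A.U := by simpa using A.H_conj_U a⁻¹ (inv_mem htH) v hv.1
    have e := A.nf_unique u hu.1 (n * a) (A.N.mul_mem hn'.1 (A.H_le htH)) _ hv' _ hu' (b * n)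
      (A.N.mul_mem (A.H_le ht'H) hn'.1) v hv.1 hrel
    rw [Subgroup.coe_mul _ _ _, Subgroup.coe_mul, Subgroup.coe_inv]
    show b = n * a * n⁻¹
    rw [e, mul_inv_cancel_right]

theorem seven_not_dvd_index :
    ¬ 7 ∣ ((chevF4.diagonalSubgroup K ⊓ twistedF4 K (2 ^ m)).subgroupOf (twistedF4 K (2 ^ m))).index := by
  intro hd
  have h1 := Subgroup.index_mul_card ((chevF4.diagonalSubgroup K ⊓ twistedF4 K (2 ^ m)).subgroupOf (twistedF4 K (2 ^ m)))
  rw [Nat.card_congr (Subgroup.subgroupOfEquivOfLe inf_le_right).toEquiv, card_H1F4 K hn, card_twistedF4 K hn] at h1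
  set q := Fintype.card K with hq
  have hq2 : q = 2 ^ (2 * m + 1) := by rw [hn, pow_succ, two_mul m, pow_add, mul_comm]
  have hq1 : 1 < q := Fintype.one_lt_card
  set i := ((chevF4.diagonalSubgroup K ⊓ twistedF4 K (2 ^ m)).subgroupOf (twistedF4 K (2 ^ m))).index
  have h4 : q ^ 4 - 1 = (q - 1) * (q ^ 3 + q ^ 2 + q + 1) := by
    obtain ⟨a, ha⟩ : ∃ a, q = a + 1 := ⟨q - 1, by omega⟩
    rw [ha, Nat.add_sub_cancel, Nat.sub_eq_iff_eq_add (Nat.one_le_pow _ _ (by omega))]
    ring
  rw [h4] at h1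
  have h2 : i * (q - 1) ^ 2 = (q ^ 12 * (q ^ 3 + 1) * (q ^ 3 + q ^ 2 + q + 1) * (q ^ 6 + 1)) * (q - 1) ^ 2 := by
    rw [h1]; ring
  rw [Nat.mul_right_cancel (by positivity [show 0 < q - 1 by omega]) h2] at hd
  have hq7 : q % 7 = 1 ∨ q % 7 = 2 ∨ q % 7 = 4 := by
    rw [hq2, ← Nat.div_add_mod (2 * m + 1) 3, pow_add, pow_mul, Nat.mul_mod, Nat.pow_mod]
    have : (2 * m + 1) % 3 = 0 ∨ (2 * m + 1) % 3 = 1 ∨ (2 * m + 1) % 3 = 2 := by omega
    rcases this with h | h | h <;> simp [h]
  have hp : ∀ k, q ^ k % 7 = (q % 7) ^ k % 7 := fun k => Nat.pow_mod q k 7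
  have h7 : Nat.Prime 7 := by norm_num
  rcases (Nat.Prime.dvd_mul h7).1 hd with hd | hd
  · rcases (Nat.Prime.dvd_mul h7).1 hd with hd | hd
    · rcases (Nat.Prime.dvd_mul h7).1 hd with hd | hd
      · have := h7.dvd_of_dvd_pow hd
        omega
      · have := hp 3
        rcases hq7 with h | h | h <;> rw [h] at this <;> norm_num at this <;> omega
    · rcases hq7 with h | h | h
      all_goals
        have e3 := hp 3
        have e2 := hp 2
        rw [h] at e2 e3
        norm_num at e2 e3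
        omega
  · have := hp 6
    rcases hq7 with h | h | h <;> rw [h] at this <;> norm_num at this <;> omega

end CfsgLib.AltExceptional
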